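import Mathlib
import Cfsg.Agent.Helper2.CharExtra

set_option autoImplicit false

namespace Cfsg.Agent.Helper11

open Cfsg

universe u

/-- A virtual character of norm `1` is an irreducible character up to sign. -/
theorem virtual_norm_one {G : Type u} [Group G] [Fintype G] {θ : G → ℂ}
    (hθ : IsGeneralizedCharacter G θ) (h1 : classInner θ θ = 1) :
    ∃ ψ : IrrCharacter G, θ = (ψ : G → ℂ) ∨ θ = -(ψ : G → ℂ) := by
  classical
  obtain ⟨hcl, hm⟩ := Cfsg.Agent.Helper2.isGeneralizedCharacter_iff.mp hθ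
  choose m hm using hm
  have hpars := Cfsg.Agent.Helper2.classInner_eq_sum_mul hcl θ
  have hsum : ∑ χ : IrrCharacter G, (m χ) ^ 2 = 1 := by
    have : ((∑ χ : IrrCharacter G, (m χ) ^ 2 : ℤ) : ℂ) = 1 := by
      rw [← h1, hpars]
      push_cast
      apply Finset.sum_congr rfl
      intro χ _
      rw [hm χ]
      simp [sq]
    exact_mod_cast this
  have hex : ∃ χ₁, m χ₁ ≠ 0 := by
    by_contra hcon
    push Not at hcon
    have : ∑ χ : IrrCharacter G, (m χ) ^ 2 = 0 :=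
      Finset.sum_eq_zero (fun χ _ => by rw [hcon χ]; rfl)
    omega
  obtain ⟨χ₁, hχ₁⟩ := hex
  have hsplit := Finset.add_sum_erase Finset.univ (fun χ => (m χ) ^ 2) (Finset.mem_univ χ₁)
  have hnn : 0 ≤ ∑ χ ∈ Finset.univ.erase χ₁, (m χ) ^ 2 :=
    Finset.sum_nonneg (fun χ _ => sq_nonneg _)
  have hm1' : m χ₁ = 1 ∨ m χ₁ = -1 := by
    have hle : (m χ₁) ^ 2 ≤ 1 := by linarith
    have : -2 < m χ₁ ∧ m χ₁ < 2 := by constructor <;> nlinarith
    omega
  have hm1 : (m χ₁) ^ 2 = 1 := by rcases hm1' with h | h <;> rw [h] <;> norm_num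
  have hrest : ∑ χ ∈ Finset.univ.erase χ₁, (m χ) ^ 2 = 0 := by linarith
  have hzero : ∀ χ, χ ≠ χ₁ → m χ = 0 := by
    intro χ hc1
    have := (Finset.sum_eq_zero_iff_of_nonneg (fun χ _ => sq_nonneg (m χ))).mp hrest χ
      (by simp [hc1])
    exact pow_eq_zero_iff (two_ne_zero) |>.mp this
  have hθeq : θ = (m χ₁ : ℂ) • (χ₁ : G → ℂ) := by
    conv_lhs => rw [Cfsg.Agent.Helper2.classFun_eq_sum_classInner hcl]
    rw [← Finset.add_sum_erase Finset.univ _ (Finset.mem_univ χ₁)]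
    rw [Finset.sum_eq_zero, add_zero, hm]
    intro χ hχ
    simp only [Finset.mem_erase, Finset.mem_univ, and_true] at hχ
    rw [hm, hzero χ hχ]
    simp
  refine ⟨χ₁, ?_⟩
  rcases hm1' with h | h
  · left; rw [hθeq, h]; simp
  · right; rw [hθeq, h]; simp

end Cfsg.Agent.Helper11
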