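import Mathlib
import Cfsg.Agent.Helper11.Q8d

/-!
# Brauer's theorem for a quaternion Sylow 2-subgroup of order 8: the character part (helper11)

`q8_core`: under the Klein-four description of the principal block of `C_G(z)/⟨z⟩`, some
nontrivial irreducible character of the principal `2`-block of `G` has the involution `z` in its
kernel.
-/

set_option autoImplicit false

namespace Cfsg.Agent.Helper11

open Cfsg Cfsg.Agent.Helper25 Cfsg.Agent.Helper2 Cfsg.Agent.Helper7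
open scoped ComplexConjugate

universe u

variable {G : Type u} [Group G] {M : Ideal AlgInt}

set_option maxHeartbeats 1600000 in
/-- The character-theoretic core of the Brauer–Suzuki theorem for `Q₈`. -/
theorem q8_core [Finite G] (hM : IsPModular 2 M) (z a : G) (hz : orderOf z = 2)
    (ha : orderOf a = 4) (haz : a * a = z) (hinv : IsConj a a⁻¹)
    (hU : ∀ s t : G, orderOf s = 2 → orderOf t = 2 → s * t = t * s → s = t)
    (ka : ℕ) (hCa : (pPrimeCore 2 (Subgroup.centralizer ({a} : Set G))).index = 2 ^ ka)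
    (hCa4 : (Nat.card (Subgroup.centralizer ({a} : Set G))).factorization 2 = 2)
    (hlin : ∀ χ : IrrCharacter G, (χ : G → ℂ) 1 = 1 → (χ : G → ℂ) a ≠ -1)
    (zH : Subgroup.centralizer ({z} : Set G)) (hzH : (zH : G) = z)
    (ψ : Fin 3 → IrrCharacter (Subgroup.centralizer ({z} : Set G))) (δ f : Fin 3 → ℤ)
    (hδ : ∀ j, δ j = 1 ∨ δ j = -1)
    (hψz : ∀ j (c : Subgroup.centralizer ({z} : Set G)),
      (ψ j : Subgroup.centralizer ({z} : Set G) → ℂ) (zH * c)
        = (ψ j : Subgroup.centralizer ({z} : Set G) → ℂ) c)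
    (hψ4 : ∀ j (c : Subgroup.centralizer ({z} : Set G)), 4 ∣ orderOf c →
      (ψ j : Subgroup.centralizer ({z} : Set G) → ℂ) c = (δ j : ℂ))
    (hψodd : ∀ c : Subgroup.centralizer ({z} : Set G), Odd (orderOf c) →
      1 + ∑ j, (δ j : ℂ) * (ψ j : Subgroup.centralizer ({z} : Set G) → ℂ) c = 0)
    (hψB : ∀ ξ : IrrCharacter (Subgroup.centralizer ({z} : Set G)),
      ξ ∈ principalBlock M (Subgroup.centralizer ({z} : Set G)) →
      (ξ : Subgroup.centralizer ({z} : Set G) → ℂ) zH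
        = (ξ : Subgroup.centralizer ({z} : Set G) → ℂ) 1 →
      ξ = trivChar (Subgroup.centralizer ({z} : Set G)) ∨ ∃ j, ξ = ψ j)
    (hψmem : ∀ j, ψ j ∈ principalBlock M (Subgroup.centralizer ({z} : Set G)))
    (hψinj : Function.Injective ψ)
    (hψne : ∀ j, ψ j ≠ trivChar (Subgroup.centralizer ({z} : Set G)))
    (hψdeg : ∀ j, (ψ j : Subgroup.centralizer ({z} : Set G) → ℂ) 1 = (f j : ℂ))
    (hfodd : ∀ j, Odd (f j)) :
    ∃ χ : IrrCharacter G, χ ≠ trivChar G ∧ (χ : G → ℂ) z = (χ : G → ℂ) 1 := by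
  classical
  haveI := Fintype.ofFinite G
  haveI : Fact (Nat.Prime 2) := ⟨Nat.prime_two⟩
  have hprod := prod_invol_odd hU
  have hI : ∀ t : G, orderOf t = 2 → t * z = z * t → t = z := fun t ht htz => hU t z ht hz htz
  obtain ⟨hcol, hcol0, hcolG, hcolX, hcolV⟩ :=
    q8_cols hM z hz hI zH hzH ψ δ hδ hψz hψ4 hψodd hψB hψmem hψinj hψne
  obtain ⟨BF, hBF⟩ : ∃ BF : Finset (IrrCharacter G),
      BF = (Set.toFinite (principalBlock M G)).toFinset := ⟨_, rfl⟩
  rw [← hBF] at hcolG hcolX hcolV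
  have htrivBF : trivChar G ∈ BF := by
    rw [hBF]; exact (Set.Finite.mem_toFinset _).mpr (trivChar_mem_principalBlock hM)
  have ha4 : a ^ 4 = 1 := by rw [← ha]; exact pow_orderOf_eq_one a
  have hz1 : z ≠ 1 := by intro h; rw [h, orderOf_one] at hz; omega
  have ha1 : a ≠ 1 := by intro h; rw [h, orderOf_one] at ha; omega
  have hchar : ∀ χ : IrrCharacter G, ∃ r₀ r₁ : ℕ,
      (χ : G → ℂ) 1 + 2 * (χ : G → ℂ) a + (χ : G → ℂ) (a * a) = 4 * (r₀ : ℂ) ∧
      (χ : G → ℂ) 1 - (χ : G → ℂ) (a * a) = 4 * (r₁ : ℂ) :=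
    fun χ => char_order_four (irr_isCharacter χ) a ha4
      (char_of_isConj (irr_isCharacter χ) hinv).symm
  choose r₀ r₁ hr using hchar
  obtain ⟨d, hd⟩ : ∃ d : IrrCharacter G → ℤ,
      d = fun χ : IrrCharacter G => (charDegree (χ : G → ℂ) : ℤ) := ⟨_, rfl⟩
  obtain ⟨N, hNdef⟩ : ∃ N : IrrCharacter G → ℤ,
      N = fun χ => 2 * (r₀ χ : ℤ) + 2 * (r₁ χ : ℤ) - d χ := ⟨_, rfl⟩
  obtain ⟨E, hEdef⟩ : ∃ E : IrrCharacter G → ℤ,
      E = fun χ => d χ - 4 * (r₁ χ : ℤ) := ⟨_, rfl⟩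
  have hd1 : ∀ χ : IrrCharacter G, (χ : G → ℂ) 1 = (d χ : ℂ) := by
    intro χ
    rw [hd, irr_one_eq_degree]
    push_cast
    rfl
  have hdpos : ∀ χ : IrrCharacter G, 0 < d χ := by
    intro χ
    rw [hd]
    show (0 : ℤ) < (charDegree (χ : G → ℂ) : ℤ)
    exact_mod_cast irr_degree_pos χ
  have hE : ∀ χ : IrrCharacter G, (χ : G → ℂ) z = (E χ : ℂ) := by
    intro χ
    have h2 := (hr χ).2
    rw [haz, hd1] at h2
    rw [hEdef]
    push_cast
    linear_combination -h2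
  have hN : ∀ χ : IrrCharacter G, (χ : G → ℂ) a = (N χ : ℂ) := by
    intro χ
    have h1 := (hr χ).1
    have h2 := (hr χ).2
    rw [haz, hd1] at h1 h2
    rw [hNdef]
    push_cast
    linear_combination (1 / 2 : ℂ) * h1 + (1 / 2 : ℂ) * h2
  have hpar : ∀ χ : IrrCharacter G, Even (d χ - N χ) := by
    intro χ
    rw [hNdef]
    exact ⟨d χ - r₀ χ - r₁ χ, by ring⟩
  have hpar2 : ∀ χ : IrrCharacter G, Even (d χ - E χ) := by
    intro χ
    rw [hEdef]
    exact ⟨2 * r₁ χ, by ring⟩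
  have hdt : d (trivChar G) = 1 := by
    have h1 := hd1 (trivChar G)
    rw [trivChar_apply] at h1
    exact_mod_cast h1.symm
  have hNt : N (trivChar G) = 1 := by
    have h1 := hN (trivChar G)
    rw [trivChar_apply] at h1
    exact_mod_cast h1.symm
  have hEt : E (trivChar G) = 1 := by
    have h1 := hE (trivChar G)
    rw [trivChar_apply] at h1
    exact_mod_cast h1.symm
  have hB : IsPBlock M (principalBlock M G) := isPBlock_principalBlock
  have hpp1 : IsPPart 2 (1 : G) 1 :=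
    ⟨1, one_mul _, Commute.one_left _, ⟨0, by simp⟩, by rw [orderOf_one]; norm_num⟩
  have hppa : IsPPart 2 a a :=
    ⟨1, mul_one _, Commute.one_right _, ⟨2, by rw [ha]; norm_num⟩, by rw [orderOf_one]; norm_num⟩
  have hppz : ∀ y : Subgroup.centralizer ({z} : Set G), Odd (orderOf y) →
      IsPPart 2 (z * (y : G)) z := by
    intro y hy
    refine ⟨(y : G), rfl, ?_, ⟨1, by rw [hz, pow_one]⟩, ?_⟩
    · exact Subgroup.mem_centralizer_iff.mp y.2 z (Set.mem_singleton z)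
    · rw [Subgroup.orderOf_coe]
      exact fun h => (Nat.not_even_iff_odd.mpr hy) (even_iff_two_dvd.mpr h)
  have hnc1 : ¬ IsConj (1 : G) z := fun h => hz1 (isConj_one_right.mp h)
  have hnca : ¬ IsConj a z := by
    intro h
    obtain ⟨c, hc⟩ := isConj_iff.mp h
    have h1 : orderOf a = orderOf z := by rw [← hc, orderOf_conj']
    omega
  have hnc1a : ¬ IsConj (1 : G) a := fun h => ha1 (isConj_one_right.mp h)
  have hcN : ∀ j, ∑ χ ∈ BF, (N χ : ℂ) * (hcol χ j : ℂ) = 0 := by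
    intro j
    apply hcolV (fun χ => (N χ : ℂ))
    intro y hy
    have h1 := block_orth hM hB a (z * (y : G)) a z hppa (hppz y hy) hnca
    rw [← hBF] at h1
    rw [← h1]
    apply Finset.sum_congr rfl
    intro χ _
    rw [irr_inv, hN]
  have hdd : ∀ j, ∑ χ ∈ BF, (d χ : ℂ) * (hcol χ j : ℂ) = 0 := by
    intro j
    apply hcolV (fun χ => (d χ : ℂ))
    intro y hy
    have h1 := block_orth hM hB 1 (z * (y : G)) 1 z hpp1 (hppz y hy) hnc1
    rw [← hBF] at h1
    rw [← h1]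
    apply Finset.sum_congr rfl
    intro χ _
    rw [irr_inv, hd1]
  have hee : ∀ j, ∑ χ ∈ BF, ((E χ : ℂ) ^ 2 / (d χ : ℂ)) * (hcol χ j : ℂ) = 0 := by
    intro j
    apply hcolV (fun χ => (E χ : ℂ) ^ 2 / (d χ : ℂ))
    intro y hy
    have h1 := star_sum hM z hz hprod (z * (y : G))⁻¹ z⁻¹ (isPPart_inv (hppz y hy))
      (fun h => hz1 (inv_eq_one.mp h))
    rw [← hBF] at h1
    rw [← h1]
    apply Finset.sum_congr rfl
    intro χ _
    rw [irr_inv, hE, hd1]
  have hg1 : ∑ χ ∈ BF, (d χ : ℂ) * (N χ : ℂ) = 0 := by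
    have h1 := block_orth hM hB 1 a 1 a hpp1 hppa hnc1a
    rw [← hBF] at h1
    rw [← h1]
    apply Finset.sum_congr rfl
    intro χ _
    rw [← char_of_isConj (irr_isCharacter χ) hinv, hN, hd1]
  have hg3 : ∑ χ ∈ BF, ((E χ : ℂ) ^ 2 / (d χ : ℂ)) * (N χ : ℂ) = 0 := by
    have h1 := star_sum hM z hz hprod a a hppa ha1
    rw [← hBF] at h1
    rw [← h1]
    apply Finset.sum_congr rfl
    intro χ _
    rw [hE, hd1, hN]
  have hN4 : ∑ χ ∈ BF, (N χ) ^ 2 = 4 := by
    have h1c : ¬ 2 ∣ orderOf (1 : Subgroup.centralizer ({a} : Set G)) := by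
      rw [orderOf_one]; norm_num
    have hsec := section_sum_eq hM a 2 (by rw [ha]; norm_num)
      (1 : Subgroup.centralizer ({a} : Set G)) h1c
    have hsq := sum_sq_principal_of_pNilpotent hM ka hCa
      (1 : Subgroup.centralizer ({a} : Set G)) h1c
    rw [hsq, hCa4, ← hBF] at hsec
    have h : ((∑ χ ∈ BF, (N χ) ^ 2 : ℤ) : ℂ) = ((4 : ℤ) : ℂ) := by
      have e4 : (((2 ^ 2 : ℕ)) : ℂ) = ((4 : ℤ) : ℂ) := by norm_num
      rw [← e4, ← hsec]
      push_cast
      apply Finset.sum_congr rfl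
      intro χ _
      rw [mul_one, hN χ, map_intCast]
      ring
    exact_mod_cast h
  obtain ⟨T, hT⟩ : ∃ T : Finset (IrrCharacter G),
      T = (BF.erase (trivChar G)).filter (fun χ => N χ ≠ 0) := ⟨_, rfl⟩
  have hR3 : ∑ χ ∈ BF.erase (trivChar G), (N χ) ^ 2 = 3 := by
    have h1 := Finset.add_sum_erase BF (fun χ => (N χ) ^ 2) htrivBF
    beta_reduce at h1
    rw [hN4, hNt] at h1
    linarith
  have hT3 : ∑ χ ∈ T, (N χ) ^ 2 = 3 := by
    rw [hT, Finset.sum_filter, ← hR3]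
    apply Finset.sum_congr rfl
    intro χ _
    by_cases h : N χ = 0
    · rw [if_neg (not_not.mpr h), h]; ring
    · rw [if_pos h]
  have hTpm : ∀ χ ∈ T, N χ = 1 ∨ N χ = -1 := by
    intro χ hχ
    have h1 : (N χ) ^ 2 ≤ ∑ χ ∈ T, (N χ) ^ 2 :=
      Finset.single_le_sum (f := fun χ => (N χ) ^ 2) (fun x _ => sq_nonneg _) hχ
    rw [hT3] at h1
    have hne : N χ ≠ 0 := by rw [hT] at hχ; exact (Finset.mem_filter.mp hχ).2
    have h2 : N χ ≤ 1 := by nlinarith
    have h3 : -1 ≤ N χ := by nlinarith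
    omega
  have hTcard : T.card = 3 := by
    have h1 : ∑ χ ∈ T, (N χ) ^ 2 = ∑ χ ∈ T, (1 : ℤ) :=
      Finset.sum_congr rfl (fun χ hχ => by rcases hTpm χ hχ with h | h <;> rw [h] <;> norm_num)
    rw [hT3, Finset.sum_const, nsmul_eq_mul, mul_one] at h1
    exact_mod_cast h1.symm
  have hTsub : ∀ χ ∈ T, χ ∈ BF ∧ χ ≠ trivChar G := by
    intro χ hχ
    rw [hT] at hχ
    have h1 := Finset.mem_erase.mp (Finset.mem_filter.mp hχ).1
    exact ⟨h1.2, h1.1⟩
  obtain ⟨eT⟩ : Nonempty (Fin 3 ≃ ↥T) := ⟨(Finset.equivFinOfCardEq hTcard).symm⟩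
  have Hc0 : ∀ i : Fin 3, (⟨(eT i : IrrCharacter G), (hTsub _ (eT i).2).1⟩ : ↥BF)
      ≠ ⟨trivChar G, htrivBF⟩ := by
    intro i h
    exact (hTsub _ (eT i).2).2 (congrArg (fun x : ↥BF => (x : IrrCharacter G)) h)
  have Hcinj : Function.Injective
      (fun i : Fin 3 => (⟨(eT i : IrrCharacter G), (hTsub _ (eT i).2).1⟩ : ↥BF)) := by
    intro i j h
    have h1 : ((eT i : ↥T) : IrrCharacter G) = ((eT j : ↥T) : IrrCharacter G) :=
      congrArg (fun x : ↥BF => (x : IrrCharacter G)) h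
    exact eT.injective (Subtype.ext h1)
  have HNc : ∀ i : Fin 3, N ((eT i : ↥T) : IrrCharacter G) = 1 ∨
      N ((eT i : ↥T) : IrrCharacter G) = -1 := fun i => hTpm _ (eT i).2
  have HNR : ∀ x : ↥BF, x ≠ ⟨trivChar G, htrivBF⟩ →
      (∀ i : Fin 3, x ≠ ⟨(eT i : IrrCharacter G), (hTsub _ (eT i).2).1⟩) →
      N (x : IrrCharacter G) = 0 := by
    intro x hx0 hxi
    by_contra hne
    have hxT : (x : IrrCharacter G) ∈ T := by
      rw [hT]
      refine Finset.mem_filter.mpr ⟨Finset.mem_erase.mpr ⟨?_, x.2⟩, hne⟩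
      intro h
      exact hx0 (Subtype.ext h)
    apply hxi (eT.symm ⟨x, hxT⟩)
    apply Subtype.ext
    show (x : IrrCharacter G) = ((eT (eT.symm ⟨x, hxT⟩) : ↥T) : IrrCharacter G)
    rw [Equiv.apply_symm_apply]
  have Hb : ∀ j k : Fin 3, ∑ x : ↥BF, hcol (x : IrrCharacter G) j * hcol (x : IrrCharacter G) k
      = if j = k then 4 else 2 := by
    intro j k
    rw [Finset.sum_coe_sort BF (fun χ => hcol χ j * hcol χ k)]
    have h1 := hcolG j k
    by_cases hjk : j = k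
    · rw [if_pos hjk] at h1 ⊢
      exact_mod_cast h1
    · rw [if_neg hjk] at h1 ⊢
      exact_mod_cast h1
  have HcN : ∀ j : Fin 3, ∑ x : ↥BF, N (x : IrrCharacter G) * hcol (x : IrrCharacter G) j = 0 := by
    intro j
    rw [Finset.sum_coe_sort BF (fun χ => N χ * hcol χ j)]
    exact_mod_cast hcN j
  have Hdd : ∀ j : Fin 3, ∑ x : ↥BF, d (x : IrrCharacter G) * hcol (x : IrrCharacter G) j = 0 := by
    intro j
    rw [Finset.sum_coe_sort BF (fun χ => d χ * hcol χ j)]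
    exact_mod_cast hdd j
  have Hee : ∀ j : Fin 3, ∑ x : ↥BF, ((E (x : IrrCharacter G) : ℚ) ^ 2 /
      (d (x : IrrCharacter G) : ℚ)) * (hcol (x : IrrCharacter G) j : ℚ) = 0 := by
    intro j
    rw [Finset.sum_coe_sort BF (fun χ => ((E χ : ℚ) ^ 2 / (d χ : ℚ)) * (hcol χ j : ℚ))]
    have h2 : ((∑ χ ∈ BF, ((E χ : ℚ) ^ 2 / (d χ : ℚ)) * (hcol χ j : ℚ) : ℚ) : ℂ) = 0 := by
      push_cast
      exact hee j
    exact_mod_cast h2
  have Hf : ∀ x : ↥BF, E (x : IrrCharacter G)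
      = ∑ j, hcol (x : IrrCharacter G) j * (δ j * f j) := by
    intro x
    have h1 := hcolX x x.2 (1 : Subgroup.centralizer ({z} : Set G))
      (by rw [orderOf_one]; exact odd_one)
    rw [Subgroup.coe_one, mul_one, hE] at h1
    have h2 : ((E (x : IrrCharacter G) : ℤ) : ℂ)
        = ((∑ j, hcol (x : IrrCharacter G) j * (δ j * f j) : ℤ) : ℂ) := by
      rw [h1]
      push_cast
      apply Finset.sum_congr rfl
      intro j _
      rw [hψdeg]
    exact_mod_cast h2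
  have HFsum : ∑ j, δ j * f j = -1 := by
    have h1 := hψodd 1 (by rw [orderOf_one]; exact odd_one)
    have h3 : ∑ j, (δ j : ℂ) * (ψ j : Subgroup.centralizer ({z} : Set G) → ℂ) 1
        = ∑ j, (δ j : ℂ) * (f j : ℂ) := Finset.sum_congr rfl (fun j _ => by rw [hψdeg])
    rw [h3] at h1
    have h2 : ((∑ j, δ j * f j : ℤ) : ℂ) = ((-1 : ℤ) : ℂ) := by
      push_cast
      linear_combination h1
    exact_mod_cast h2
  have HFodd : ∀ j, Odd (δ j * f j) := by
    intro j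
    rcases hδ j with h | h
    · rw [h, one_mul]; exact hfodd j
    · rw [h, neg_one_mul]; exact (hfodd j).neg
  have Hg1 : ∑ x : ↥BF, d (x : IrrCharacter G) * N (x : IrrCharacter G) = 0 := by
    rw [Finset.sum_coe_sort BF (fun χ => d χ * N χ)]
    exact_mod_cast hg1
  have Hg3 : ∑ x : ↥BF, ((E (x : IrrCharacter G) : ℚ) ^ 2 /
      (d (x : IrrCharacter G) : ℚ)) * (N (x : IrrCharacter G) : ℚ) = 0 := by
    rw [Finset.sum_coe_sort BF (fun χ => ((E χ : ℚ) ^ 2 / (d χ : ℚ)) * (N χ : ℚ))]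
    have h2 : ((∑ χ ∈ BF, ((E χ : ℚ) ^ 2 / (d χ : ℚ)) * (N χ : ℚ) : ℚ) : ℂ) = 0 := by
      push_cast
      exact hg3
    exact_mod_cast h2
  have Hlin : ∀ x : ↥BF, d (x : IrrCharacter G) = 1 → N (x : IrrCharacter G) ≠ -1 := by
    intro x hdx hNx
    apply hlin (x : IrrCharacter G)
    · rw [hd1, hdx]; norm_num
    · rw [hN, hNx]; norm_num
  have key := comb_main (ι := ↥BF) ⟨trivChar G, htrivBF⟩
    (fun i : Fin 3 => (⟨(eT i : IrrCharacter G), (hTsub _ (eT i).2).1⟩ : ↥BF)) Hc0 Hcinj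
    (fun j x => hcol (x : IrrCharacter G) j) (fun x => d (x : IrrCharacter G))
    (fun x => E (x : IrrCharacter G)) (fun x => N (x : IrrCharacter G)) (fun j => δ j * f j)
    (fun x => hdpos _) hNt HNc HNR hdt hEt (fun j => hcol0 j) Hb HcN Hdd Hee Hf HFsum HFodd
    Hg1 Hg3 (fun x => hpar _) (fun x => hpar2 _) Hlin
  refine ⟨((eT 0 : ↥T) : IrrCharacter G), (hTsub _ (eT 0).2).2, ?_⟩
  rw [hE, hd1]
  exact_mod_cast key 0

end Cfsg.Agent.Helper11
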