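import Mathlib
import Cfsg.Prelude.Def_Local
import Cfsg.Prelude.Def_Transfer
import Cfsg.Agent.Helper10.PCons
import Cfsg.Agent.Helper10.AxB
import Cfsg.Agent.Helper13.PSolv
import Cfsg.Agent.Helper11.PLength

set_option autoImplicit false

namespace Cfsg.Agent.Helper11

open Cfsg

universe u

/-- A group with a normal `p`-subgroup of index prime to `p` is `p`-solvable. -/
theorem isPSolvable_of_pCore_index_coprime (p : ℕ) [Fact p.Prime] (X : Type u) [Group X] [Finite X]
    (h : (pCore p X).index.Coprime p) : IsPSolvable p X := by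
  have : (pCore p X).Normal := Cfsg.Agent.S0010.pCore_normal p
  refine ⟨2, ![⊥, pCore p X, ⊤], rfl, rfl, ?_, ?_, ?_⟩
  · intro i j hij
    fin_cases i <;> fin_cases j <;> first | exact le_rfl | exact bot_le | exact le_top | (exfalso; revert hij; decide)
  · intro i
    fin_cases i
    · exact (inferInstance : (⊥ : Subgroup X).Normal)
    · exact (inferInstance : (pCore p X).Normal)
    · exact (inferInstance : (⊤ : Subgroup X).Normal)
  · intro i
    fin_cases i
    · left
      obtain ⟨n, hn⟩ := IsPGroup.iff_card.mp (Cfsg.Agent.S0010.pCore_isPGroup (G := X) p)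
      refine ⟨n, ?_⟩
      change (⊥ : Subgroup X).relIndex (pCore p X) = p ^ n
      rw [Subgroup.relIndex_bot_left, hn]
    · right
      change ((pCore p X).relIndex ⊤).Coprime p
      rw [Subgroup.relIndex_top_right]
      exact h

/-- Hall–Higman 1.2.3 in the `p`-length one situation. -/
theorem centralizer_pCore_le_of_index_coprime (p : ℕ) [Fact p.Prime] (X : Type u) [Group X]
    [Finite X] (h0 : pPrimeCore p X = ⊥) (h : (pCore p X).index.Coprime p) :
    Subgroup.centralizer (pCore p X : Set X) ≤ pCore p X :=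
  Cfsg.Agent.Helper13.centralizer_pCore_le_of_isPSolvable
    (isPSolvable_of_pCore_index_coprime p X h) h0

/-- A maximal elementary abelian `p`-subgroup stays maximal modulo a normal `p'`-subgroup. -/
theorem elemAb_max_quotient {G : Type u} [Group G] [Finite G] (p : ℕ) [Fact p.Prime]
    (K : Subgroup G) [K.Normal] (hK : (Nat.card K).Coprime p) (E : Subgroup G)
    (hE : IsElementaryAbelian p E)
    (hEmax : ∀ B : Subgroup G, IsElementaryAbelian p B → E ≤ B → B = E)
    (Bb : Subgroup (G ⧸ K)) (hBb : IsElementaryAbelian p Bb)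
    (hEB : E.map (QuotientGroup.mk' K) ≤ Bb) : Bb = E.map (QuotientGroup.mk' K) := by
  have hpp : p.Prime := Fact.out
  obtain ⟨hEc, hEp⟩ := hE
  obtain ⟨hBc, hBp⟩ := hBb
  have hEpg : IsPGroup p E := by
    intro x
    refine ⟨1, ?_⟩
    apply Subtype.ext
    simpa using hEp x.1 x.2
  have hBpg : IsPGroup p Bb := by
    intro x
    refine ⟨1, ?_⟩
    apply Subtype.ext
    simpa using hBp x.1 x.2
  set B₁ : Subgroup G := Bb.comap (QuotientGroup.mk' K) with hB₁
  have hEB₁ : E ≤ B₁ := by
    intro e he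
    exact hEB (Subgroup.mem_map_of_mem _ he)
  have hEsub : IsPGroup p (E.subgroupOf B₁) := by
    intro x
    obtain ⟨k, hk⟩ := hEpg ⟨x.1.1, x.2⟩
    refine ⟨k, ?_⟩
    apply Subtype.ext
    apply Subtype.ext
    have := congrArg Subtype.val hk
    simpa using this
  obtain ⟨Q, hQ⟩ := IsPGroup.exists_le_sylow hEsub
  set S : Subgroup G := (Q : Subgroup B₁).map B₁.subtype with hS
  have hES : E ≤ S := by
    rw [← Subgroup.map_subgroupOf_eq_of_le hEB₁]
    exact Subgroup.map_mono hQ
  have hSB₁ : S ≤ B₁ := by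
    rintro _ ⟨q, _, rfl⟩
    exact q.2
  have hSp : IsPGroup p S := Q.2.map _
  have hSK : S ⊓ K = ⊥ :=
    Cfsg.Agent.Helper10.inf_eq_bot_of_pGroup_coprime hSp
      (Cfsg.Agent.Helper10.coprime_of_card_coprime K hK)
  have hSel : IsElementaryAbelian p S := by
    refine ⟨⟨⟨fun a b => Subtype.ext ?_⟩⟩, ?_⟩
    · have ha : QuotientGroup.mk' K a.1 ∈ Bb := hSB₁ a.2
      have hb : QuotientGroup.mk' K b.1 ∈ Bb := hSB₁ b.2
      have hc := congrArg Subtype.val
        (hBc.is_comm.comm (⟨_, ha⟩ : Bb) ⟨_, hb⟩)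
      have hc' : QuotientGroup.mk' K (a.1 * b.1) = QuotientGroup.mk' K (b.1 * a.1) := by
        simpa using hc
      have h1 : (a.1 * b.1)⁻¹ * (b.1 * a.1) ∈ K := QuotientGroup.eq.mp hc'
      have h2 : (a.1 * b.1)⁻¹ * (b.1 * a.1) ∈ S :=
        S.mul_mem (S.inv_mem (S.mul_mem a.2 b.2)) (S.mul_mem b.2 a.2)
      have h3 : (a.1 * b.1)⁻¹ * (b.1 * a.1) ∈ S ⊓ K := ⟨h2, h1⟩
      rw [hSK, Subgroup.mem_bot] at h3
      have : b.1 * a.1 = a.1 * b.1 := by
        have := inv_mul_eq_one.mp h3
        exact this.symm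
      exact this.symm
    · intro a ha
      have h1 : QuotientGroup.mk' K (a ^ p) = 1 := by
        rw [map_pow]
        exact hBp _ (hSB₁ ha)
      have h2 : a ^ p ∈ K := (QuotientGroup.eq_one_iff _).mp h1
      have h3 : a ^ p ∈ S ⊓ K := ⟨S.pow_mem ha p, h2⟩
      rwa [hSK, Subgroup.mem_bot] at h3
  have hSE : S = E := hEmax S hSel hES
  apply le_antisymm _ hEB
  -- surjectivity of the Sylow subgroup onto `Bb`
  have hf : Function.Surjective ((QuotientGroup.mk' K).subgroupComap Bb) :=
    MonoidHom.subgroupComap_surjective_of_surjective _ _ (QuotientGroup.mk'_surjective K)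
  have htop : ((Q.mapSurjective hf : Sylow p Bb) : Subgroup Bb) = ⊤ := by
    have htp : IsPGroup p (⊤ : Subgroup Bb) := by
      intro x
      obtain ⟨k, hk⟩ := hBpg x.1
      refine ⟨k, ?_⟩
      apply Subtype.ext
      simpa using hk
    have := (Q.mapSurjective hf).is_maximal' (Q := ⊤) htp le_top
    exact this.symm
  intro bb hbb
  have hmem : (⟨bb, hbb⟩ : Bb) ∈ ((Q.mapSurjective hf : Sylow p Bb) : Subgroup Bb) := by
    rw [htop]; trivial
  rw [Sylow.coe_mapSurjective] at hmem
  obtain ⟨q, hq, hqb⟩ := hmem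
  have hqS : (q : G) ∈ S := ⟨q, hq, rfl⟩
  rw [hSE] at hqS
  refine ⟨(q : G), hqS, ?_⟩
  have := congrArg Subtype.val hqb
  exact this

end Cfsg.Agent.Helper11

namespace Cfsg.Agent.Helper11

open Cfsg

/-- Adjoining a centralizing element of order dividing `p` to an elementary abelian subgroup. -/
theorem elemAb_adjoin {G : Type*} [Group G] (p : ℕ) (A : Subgroup G)
    (hA : IsElementaryAbelian p A) (x : G) (hx : ∀ a ∈ A, a * x = x * a) (hxp : x ^ p = 1) :
    IsElementaryAbelian p (Subgroup.closure ((A : Set G) ∪ {x})) := by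
  obtain ⟨hAc, hAp⟩ := hA
  have hcomm : ∀ a ∈ ((A : Set G) ∪ {x}), ∀ b ∈ ((A : Set G) ∪ {x}), a * b = b * a := by
    intro a ha b hb
    rcases ha with ha | ha <;> rcases hb with hb | hb
    · exact congrArg Subtype.val (hAc.is_comm.comm (⟨a, ha⟩ : A) ⟨b, hb⟩)
    · rw [Set.mem_singleton_iff] at hb; subst hb; exact hx a ha
    · rw [Set.mem_singleton_iff] at ha; subst ha; exact (hx b hb).symm
    · rw [Set.mem_singleton_iff] at ha hb; subst ha; subst hb; rfl
  have hc : IsMulCommutative (Subgroup.closure ((A : Set G) ∪ {x})) :=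
    Subgroup.isMulCommutative_closure hcomm
  refine ⟨hc, ?_⟩
  intro g hg
  induction hg using Subgroup.closure_induction with
  | mem y hy =>
    rcases hy with hy | hy
    · exact hAp y hy
    · rw [Set.mem_singleton_iff] at hy; subst hy; exact hxp
  | one => exact one_pow p
  | mul y z hy hz ihy ihz =>
    have hyz : Commute y z :=
      congrArg Subtype.val (hc.is_comm.comm (⟨y, hy⟩ : Subgroup.closure ((A : Set G) ∪ {x})) ⟨z, hz⟩)
    rw [hyz.mul_pow, ihy, ihz, one_mul]
  | inv y hy ihy => rw [inv_pow, ihy, inv_one]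

end Cfsg.Agent.Helper11
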