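import Mathlib
import Cfsg.Agent.Helper2.CharExtra
import Cfsg.Agent.Helper25.CharMore

set_option autoImplicit false

namespace Cfsg.Agent.Helper11

open Cfsg

universe u

theorem eq_of_re_eq_of_norm_le {z : ℂ} {d : ℝ} (hre : z.re = d) (hn : ‖z‖ ≤ d) : z = (d : ℂ) := by
  have hd : 0 ≤ d := le_trans (norm_nonneg _) hn
  have him : z.im = 0 := by
    have hsq := Complex.sq_norm z
    rw [Complex.normSq_apply, hre] at hsq
    have h6 : ‖z‖ ^ 2 ≤ d ^ 2 := pow_le_pow_left₀ (norm_nonneg _) hn 2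
    nlinarith [sq_nonneg z.im]
  apply Complex.ext
  · simpa using hre
  · simpa using him

/-- `∑ |θ(c)|² = |X|` for an irreducible character. -/
theorem irr_sum_normSq {X : Type u} [Group X] [Fintype X] (θ : IrrCharacter X) :
    ∑ c : X, Complex.normSq ((θ : X → ℂ) c) = (Nat.card X : ℝ) := by
  have h := Cfsg.Agent.Helper2.classInner_self_eq (θ : X → ℂ)
  rw [(Cfsg.Agent.Helper25.irr_classInner θ θ).trans (if_pos rfl)] at h
  have h' : (1 : ℝ) = (Nat.card X : ℝ)⁻¹ * ∑ g : X, Complex.normSq ((θ : X → ℂ) g) := by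
    exact_mod_cast h
  have hX : (0 : ℝ) < Nat.card X := by exact_mod_cast Nat.card_pos
  field_simp at h'
  linarith

/-- If a character takes at `b` its value at `1`, so does each irreducible constituent. -/
theorem irr_const_of_char_const {X : Type u} [Group X] [Fintype X] {φ : X → ℂ}
    (hφ : IsCharacter X φ) (b : X) (hb : φ b = φ 1) (θ : IrrCharacter X)
    (hθ : classInner φ (θ : X → ℂ) ≠ 0) : (θ : X → ℂ) b = (θ : X → ℂ) 1 := by
  classical
  have hcl := Cfsg.Agent.Helper25.char_isClassFunction hφ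
  have hm : ∀ χ : IrrCharacter X, ∃ m : ℕ, classInner φ (χ : X → ℂ) = (m : ℂ) :=
    fun χ => Cfsg.Agent.Helper2.classInner_char_nat hφ
      (Cfsg.Agent.Helper2.isCharacter_of_isIrrCharacter χ.2)
  choose m hm using hm
  have hsum := Cfsg.Agent.Helper2.classFun_eq_sum_classInner hcl
  have e1 := congrFun hsum b
  have e2 := congrFun hsum 1
  simp only [Finset.sum_apply, Pi.smul_apply, smul_eq_mul, hm] at e1 e2
  have hz : ∑ χ : IrrCharacter X, (m χ : ℝ) *
      (((χ : X → ℂ) 1).re - ((χ : X → ℂ) b).re) = 0 := by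
    have h := congrArg Complex.re (e2.symm.trans (hb.symm.trans e1))
    simp only [Complex.re_sum, Complex.mul_re, Complex.natCast_re, Complex.natCast_im, zero_mul,
      sub_zero] at h
    simp only [mul_sub, Finset.sum_sub_distrib]
    linarith
  have hle : ∀ χ : IrrCharacter X, ((χ : X → ℂ) b).re ≤ ((χ : X → ℂ) 1).re := by
    intro χ
    have h1 := Cfsg.Agent.Helper25.irr_norm_le χ b
    rw [Cfsg.Agent.Helper25.irr_one_eq_degree] at h1 ⊢
    simp only [Complex.norm_natCast, Complex.natCast_re] at h1 ⊢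
    exact le_trans (Complex.re_le_norm _) h1
  have hnn : ∀ χ ∈ (Finset.univ : Finset (IrrCharacter X)),
      0 ≤ (m χ : ℝ) * (((χ : X → ℂ) 1).re - ((χ : X → ℂ) b).re) := by
    intro χ _
    exact mul_nonneg (Nat.cast_nonneg _) (sub_nonneg.mpr (hle χ))
  have h0 := (Finset.sum_eq_zero_iff_of_nonneg hnn).mp hz θ (Finset.mem_univ _)
  have hmθ : (m θ : ℝ) ≠ 0 := by
    intro h
    apply hθ
    rw [hm θ]
    exact_mod_cast h
  have hre : ((θ : X → ℂ) b).re = ((θ : X → ℂ) 1).re := by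
    rcases mul_eq_zero.mp h0 with h | h
    · exact absurd h hmθ
    · linarith
  have hn := Cfsg.Agent.Helper25.irr_norm_le θ b
  rw [Cfsg.Agent.Helper25.irr_one_eq_degree] at hre hn ⊢
  simp only [Complex.norm_natCast, Complex.natCast_re] at hre hn
  have := eq_of_re_eq_of_norm_le hre hn
  rw [this]
  simp

/-- Degree bound from a set of elements that are "central modulo the kernel". -/
theorem irr_degree_sq_card_le {X : Type u} [Group X] [Fintype X] (θ : IrrCharacter X)
    (s : Finset X)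
    (hs : ∀ d ∈ s, ∀ y : X, (θ : X → ℂ) (d⁻¹ * (y * d * y⁻¹)) = (θ : X → ℂ) 1) :
    (charDegree (θ : X → ℂ) : ℝ) ^ 2 * s.card ≤ Nat.card X := by
  have hd := Cfsg.Agent.Helper25.irr_one_eq_degree θ
  have hpos := Cfsg.Agent.Helper25.irr_degree_pos θ
  have hd0 : (charDegree (θ : X → ℂ) : ℂ) ≠ 0 := by exact_mod_cast hpos.ne'
  have hX0 : (Nat.card X : ℂ) ≠ 0 := by exact_mod_cast Nat.card_pos.ne'
  have hval : ∀ d ∈ s, Complex.normSq ((θ : X → ℂ) d) = (charDegree (θ : X → ℂ) : ℝ) ^ 2 := by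
    intro d hd'
    have h1 := Cfsg.Agent.Helper25.irr_sum_conj_mul θ d⁻¹ d
    rw [Finset.sum_congr rfl (fun y _ => hs d hd' y), Finset.sum_const, Finset.card_univ,
      nsmul_eq_mul, Cfsg.Agent.Helper25.irr_inv, hd, ← Nat.card_eq_fintype_card] at h1
    have h2 : (starRingEnd ℂ) ((θ : X → ℂ) d) * (θ : X → ℂ) d =
        (charDegree (θ : X → ℂ) : ℂ) ^ 2 := by
      field_simp at h1
      linear_combination -h1
    have h3 : ((Complex.normSq ((θ : X → ℂ) d) : ℝ) : ℂ) = (charDegree (θ : X → ℂ) : ℂ) ^ 2 := by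
      rw [← h2, mul_comm, Complex.mul_conj]
    exact_mod_cast h3
  calc (charDegree (θ : X → ℂ) : ℝ) ^ 2 * s.card
      = ∑ _c ∈ s, (charDegree (θ : X → ℂ) : ℝ) ^ 2 := by
        rw [Finset.sum_const, nsmul_eq_mul]; ring
    _ = ∑ c ∈ s, Complex.normSq ((θ : X → ℂ) c) :=
        Finset.sum_congr rfl (fun c hc => (hval c hc).symm)
    _ ≤ ∑ c : X, Complex.normSq ((θ : X → ℂ) c) :=
        Finset.sum_le_sum_of_subset_of_nonneg (Finset.subset_univ _)
          (fun _ _ _ => Complex.normSq_nonneg _)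
    _ = Nat.card X := irr_sum_normSq θ

end Cfsg.Agent.Helper11
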