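import Mathlib
import Cfsg.Agent.Helper7.Clifford
import Cfsg.Agent.Helper2.Ind
import Cfsg.Agent.S0854

/-!
# The Clifford correspondence (helper11), reverse direction

`H ⊴ G`, `θ ∈ Irr(H)`, `T` the inertia group.  For `ψ ∈ Irr(T)` lying over `θ`, the induced
function `ψ^G` is irreducible, `[ (ψ^G)_H, θ ] = [ψ_H, θ]`, and `ψ ↦ ψ^G` is injective.
(Adapted from helper7's proof of `S0854`.)
-/

set_option autoImplicit false

namespace Cfsg.Agent.Helper11

open Cfsg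

universe u

section CC

variable {G : Type u} [Group G] [Fintype G] (H T : Subgroup G) [hN : H.Normal] [Fintype H]
  [Fintype T] (θ : H → ℂ) (hHT : H ≤ T)

omit [Fintype G] hN [Fintype T] in
/-- `[ψ_H, θ]` is a natural number. -/
theorem cc_b_nat (hθ : IsIrrCharacter H θ) (ψ : T → ℂ) (hψ : IsCharacter T ψ) :
    ∃ m : ℕ, classInner (fun n : H => ψ ⟨(n : G), hHT n.2⟩) θ = m := by
  apply Cfsg.Agent.Helper2.classInner_char_nat _ (Cfsg.Agent.Helper2.isCharacter_of_isIrrCharacter hθ)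
  exact Cfsg.Agent.Helper2.isCharacter_comp (Subgroup.inclusion hHT) hψ

omit hN in
/-- Expansion of `[α_H, θ]` along the irreducible characters of `T`. -/
theorem cc_star (α : G → ℂ) (hα : IsCharacter G α) :
    classInner (fun n : H => α n) θ
      = ∑ ψ' : IrrCharacter T, classInner (fun t : T => α t) (ψ' : T → ℂ) *
          classInner (fun n : H => (ψ' : T → ℂ) ⟨(n : G), hHT n.2⟩) θ := by
  have hαT : IsCharacter T (fun t : T => α t) := Cfsg.Agent.Helper2.isCharacter_restrict T hα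
  exact Cfsg.Agent.S0854.classInner_comp_expand (fun n : H => (⟨(n : G), hHT n.2⟩ : T))
    (fun t : T => α t) (Cfsg.Agent.Helper2.isClassFunction_of_isCharacter hαT) θ

variable (hT : ∀ g : G, g ∈ T ↔ ∀ h : H, θ ⟨g * h * g⁻¹, hN.conj_mem h h.2 g⟩ = θ h)

include hT in
/-- Clifford: an irreducible character of the inertia group lying over `θ` restricts to a
multiple of `θ`. -/
theorem cc_restrict (hθ : IsIrrCharacter H θ) (ψ : T → ℂ) (hψ : IsIrrCharacter T ψ)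
    (hne : classInner (fun n : H => ψ ⟨(n : G), hHT n.2⟩) θ ≠ 0) (n : H) :
    ψ ⟨(n : G), hHT n.2⟩ = classInner (fun n : H => ψ ⟨(n : G), hHT n.2⟩) θ * θ n := by
  classical
  let _ : Fintype (H.subgroupOf T) := Fintype.ofFinite _
  let rH : H → T := fun n => ⟨(n : G), hHT n.2⟩
  let θ' : H.subgroupOf T → ℂ := fun x => θ ⟨((x : T) : G), Subgroup.mem_subgroupOf.mp x.2⟩
  have hθ' : IsIrrCharacter (H.subgroupOf T) θ' :=
    Cfsg.Agent.Helper2.isIrrCharacter_comp_of_surjective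
      (Subgroup.subgroupOfEquivOfLe hHT).toMonoidHom (Subgroup.subgroupOfEquivOfLe hHT).surjective hθ
  have hinv' : ∀ (t : T) (n : H.subgroupOf T),
      θ' ⟨t * n * t⁻¹, (inferInstance : (H.subgroupOf T).Normal).conj_mem (n : T) n.2 t⟩ = θ' n := by
    intro t n
    exact (hT t).mp t.2 ⟨((n : T) : G), Subgroup.mem_subgroupOf.mp n.2⟩
  have hinner : classInner (fun n : H.subgroupOf T => ψ n) θ'
      = classInner (fun n : H => ψ (rH n)) θ :=
    Cfsg.Agent.S0854.classInner_equiv (Subgroup.subgroupOfEquivOfLe hHT).toEquiv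
      (fun n : H => ψ (rH n)) θ
  obtain ⟨f, hf0, hfun, hfinner⟩ := Cfsg.Agent.Helper7.clifford_invariant (H.subgroupOf T) θ' hθ'
    hinv' ψ hψ (by rw [hinner]; exact hne)
  have hfb : (f : ℂ) = classInner (fun n : H => ψ (rH n)) θ := by rw [← hfinner, hinner]
  have := congrFun hfun ⟨rH n, Subgroup.mem_subgroupOf.mpr n.2⟩
  rw [← hfb]
  exact this

include hT in
/-- `[(ψ^G)_H, θ] = [ψ_H, θ]` for `ψ ∈ Irr(T)` over `θ`. -/
theorem cc_ind_inner (hθ : IsIrrCharacter H θ) (ψ : T → ℂ) (hψ : IsIrrCharacter T ψ)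
    (hne : classInner (fun n : H => ψ ⟨(n : G), hHT n.2⟩) θ ≠ 0) :
    classInner (fun n : H => indFun T ψ (n : G)) θ
      = classInner (fun n : H => ψ ⟨(n : G), hHT n.2⟩) θ := by
  classical
  set b : ℂ := classInner (fun n : H => ψ ⟨(n : G), hHT n.2⟩) θ with hb
  let rH : H → T := fun n => ⟨(n : G), hHT n.2⟩
  have hψH : ∀ n : H, ψ (rH n) = b * θ n := cc_restrict H T θ hHT hT hθ ψ hψ hne
  have hTne : (Nat.card T : ℂ) ≠ 0 := Nat.cast_ne_zero.mpr Nat.card_pos.ne'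
  have h1 : (fun n : H => indFun T ψ (n : G))
      = ∑ x : G, ((Nat.card T : ℂ)⁻¹ * b) •
          (fun n : H => θ (MulAut.conjNormal x⁻¹ n)) := by
    funext n
    rw [Finset.sum_apply]
    show (Nat.card T : ℂ)⁻¹ * ∑ x : G, extendByZero T ψ (x⁻¹ * (n : G) * x) = _
    rw [Finset.mul_sum]
    apply Finset.sum_congr rfl
    intro x _
    have hm : x⁻¹ * (n : G) * x ∈ H := by
      have := hN.conj_mem _ n.2 x⁻¹
      simpa using this
    have e1 : x⁻¹ * (n : G) * x = ((rH ⟨_, hm⟩ : T) : G) := rfl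
    rw [e1, Cfsg.Agent.Helper7.extendByZero_apply_mem, hψH]
    show _ = (Nat.card T : ℂ)⁻¹ * b * θ (MulAut.conjNormal x⁻¹ n)
    have e2 : (⟨x⁻¹ * (n : G) * x, hm⟩ : H) = MulAut.conjNormal x⁻¹ n := by
      apply Subtype.ext
      rw [MulAut.conjNormal_apply, inv_inv]
    rw [e2, mul_assoc]
  have h2 : ∀ x : G, classInner (fun n : H => θ (MulAut.conjNormal x⁻¹ n)) θ
      = if x ∈ T then 1 else 0 := by
    intro x
    have hirr : IsIrrCharacter H (fun n : H => θ (MulAut.conjNormal x⁻¹ n)) :=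
      Cfsg.Agent.Helper2.isIrrCharacter_comp_of_surjective
        (MulAut.conjNormal x⁻¹ : H ≃* H).toMonoidHom (MulAut.conjNormal x⁻¹ : H ≃* H).surjective hθ
    have h3 := Cfsg.Agent.Helper2.classInner_irr_irr
      (⟨_, hirr⟩ : IrrCharacter H) (⟨θ, hθ⟩ : IrrCharacter H)
    have hiff : ((⟨_, hirr⟩ : IrrCharacter H) = ⟨θ, hθ⟩) ↔ x ∈ T := by
      rw [Subtype.mk.injEq]
      constructor
      · intro h
        have hx : x⁻¹ ∈ T := by
          rw [hT]
          intro n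
          have := congrFun h n
          rw [← this]
          congr 1
        have := T.inv_mem hx
        rwa [inv_inv] at this
      · intro hx
        funext n
        have := (hT x⁻¹).mp (T.inv_mem hx) n
        rw [← this]
        congr 1
    by_cases hx : x ∈ T
    · rw [if_pos hx]
      rw [if_pos (hiff.mpr hx)] at h3
      exact h3
    · rw [if_neg hx]
      rw [if_neg (fun h => hx (hiff.mp h))] at h3
      exact h3
  rw [h1, Cfsg.Agent.Helper2.classInner_sum_left]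
  have h4 : ∀ x : G, classInner (((Nat.card T : ℂ)⁻¹ * b) •
      (fun n : H => θ (MulAut.conjNormal x⁻¹ n))) θ
      = ((Nat.card T : ℂ)⁻¹ * b) * (if x ∈ T then 1 else 0) := by
    intro x
    rw [Cfsg.Agent.Helper2.classInner_smul_left, h2]
  rw [Finset.sum_congr rfl (fun x _ => h4 x), ← Finset.mul_sum, Finset.sum_boole]
  have h5 : (Finset.univ.filter (fun x : G => x ∈ T)).card = Nat.card T := by
    rw [Nat.card_eq_fintype_card]
    exact (Fintype.card_of_subtype _ (by simp)).symm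
  rw [h5]
  field_simp

include hT in
/-- **Clifford correspondence**: `ψ^G` is irreducible for `ψ ∈ Irr(T)` lying over `θ`. -/
theorem cc_irr (hθ : IsIrrCharacter H θ) (ψ : T → ℂ) (hψ : IsIrrCharacter T ψ)
    (hne : classInner (fun n : H => ψ ⟨(n : G), hHT n.2⟩) θ ≠ 0) :
    IsIrrCharacter G (indFun T ψ) := by
  classical
  have hθch : IsCharacter H θ := Cfsg.Agent.Helper2.isCharacter_of_isIrrCharacter hθ
  have hbnat : ∀ ψ' : IrrCharacter T, ∃ m : ℕ,
      classInner (fun n : H => (ψ' : T → ℂ) ⟨(n : G), hHT n.2⟩) θ = m := fun ψ' =>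
    cc_b_nat H T θ hHT hθ _ (Cfsg.Agent.Helper2.isCharacter_of_isIrrCharacter ψ'.2)
  choose b hb using hbnat
  obtain ⟨ψ₀, hψ₀⟩ : ∃ ψ₀ : IrrCharacter T, (ψ₀ : T → ℂ) = ψ := ⟨⟨ψ, hψ⟩, rfl⟩
  have hb0 : b ψ₀ ≠ 0 := by
    intro h
    apply hne
    have := hb ψ₀
    rw [hψ₀, h, Nat.cast_zero] at this
    exact this
  have hB : classInner (fun n : H => indFun T ψ (n : G)) θ = (b ψ₀ : ℂ) := by
    rw [cc_ind_inner H T θ hHT hT hθ ψ hψ hne, ← hb ψ₀, hψ₀]
  have hΨ : IsCharacter G (indFun T ψ) :=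
    Cfsg.Agent.Helper2.isCharacter_indFun T (Cfsg.Agent.Helper2.isCharacter_of_isIrrCharacter hψ)
  -- the numbers c χ' = [χ'_T, ψ], d χ' = [χ'_H, θ]
  have hcd : ∀ χ' : IrrCharacter G, ∃ (A D : ℕ),
      classInner (fun t : T => (χ' : G → ℂ) t) ψ = A ∧
      classInner (fun n : H => (χ' : G → ℂ) n) θ = D ∧ A * b ψ₀ ≤ D := by
    intro χ'
    have hα := Cfsg.Agent.Helper2.isCharacter_of_isIrrCharacter χ'.2
    have hαT : IsCharacter T (fun t : T => (χ' : G → ℂ) t) :=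
      Cfsg.Agent.Helper2.isCharacter_restrict T hα
    have hA : ∀ ψ' : IrrCharacter T, ∃ m : ℕ,
        classInner (fun t : T => (χ' : G → ℂ) t) (ψ' : T → ℂ) = m := fun ψ' =>
      Cfsg.Agent.Helper2.classInner_char_nat hαT
        (Cfsg.Agent.Helper2.isCharacter_of_isIrrCharacter ψ'.2)
    choose A hA using hA
    have hD : classInner (fun n : H => (χ' : G → ℂ) n) θ
        = ((∑ ψ' : IrrCharacter T, A ψ' * b ψ' : ℕ) : ℂ) := by
      rw [Nat.cast_sum, cc_star H T θ hHT _ hα]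
      apply Finset.sum_congr rfl
      intro ψ' _
      rw [hA, hb, Nat.cast_mul]
    refine ⟨A ψ₀, _, ?_, hD, ?_⟩
    · rw [← hψ₀]; exact hA ψ₀
    · exact Finset.single_le_sum (f := fun ψ' => A ψ' * b ψ') (fun _ _ => Nat.zero_le _)
        (Finset.mem_univ ψ₀)
  choose c d hc hd hcd using hcd
  have hfrob : ∀ χ' : IrrCharacter G,
      classInner (indFun T ψ) (χ' : G → ℂ) = (c χ' : ℂ) := by
    intro χ'
    rw [Cfsg.Agent.Helper2.frobenius_reciprocity T ψ χ'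
      (Cfsg.Agent.Helper2.isClassFunction_of_isCharacter
        (Cfsg.Agent.Helper2.isCharacter_of_isIrrCharacter χ'.2)),
      Cfsg.Agent.Helper2.classInner_conj_symm (fun t : T => (χ' : G → ℂ) t) ψ, hc,
      Complex.conj_natCast]
  have hf : b ψ₀ = ∑ χ' : IrrCharacter G, c χ' * d χ' := by
    have hexp := Cfsg.Agent.S0854.classInner_comp_expand (fun n : H => (n : G)) (indFun T ψ)
      (Cfsg.Agent.Helper2.isClassFunction_of_isCharacter hΨ) θ
    rw [hB] at hexp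
    have : ((b ψ₀ : ℕ) : ℂ) = ((∑ χ' : IrrCharacter G, c χ' * d χ' : ℕ) : ℂ) := by
      rw [hexp, Nat.cast_sum]
      apply Finset.sum_congr rfl
      intro χ' _
      rw [hfrob, hd, Nat.cast_mul]
    exact_mod_cast this
  -- some χ₀ has c χ₀ ≠ 0
  obtain ⟨χ₀, hcχ⟩ : ∃ χ₀ : IrrCharacter G, c χ₀ ≠ 0 := by
    by_contra hno
    push Not at hno
    apply hb0
    rw [hf]
    apply Finset.sum_eq_zero
    intro χ' _
    rw [hno χ', zero_mul]
  have hle : ∑ χ' : IrrCharacter G, c χ' * (c χ' * b ψ₀) ≤ b ψ₀ := by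
    calc _ ≤ ∑ χ' : IrrCharacter G, c χ' * d χ' :=
          Finset.sum_le_sum (fun χ' _ => Nat.mul_le_mul_left _ (hcd χ'))
      _ = b ψ₀ := hf.symm
  have hone : ∀ χ' : IrrCharacter G, c χ' ≠ 0 → b ψ₀ ≤ c χ' * (c χ' * b ψ₀) := by
    intro χ' h0
    calc b ψ₀ = 1 * (1 * b ψ₀) := by ring
      _ ≤ _ := Nat.mul_le_mul (Nat.one_le_iff_ne_zero.mpr h0)
        (Nat.mul_le_mul_right _ (Nat.one_le_iff_ne_zero.mpr h0))
  have hbpos : 0 < b ψ₀ := Nat.pos_of_ne_zero hb0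
  have hcother : ∀ χ' : IrrCharacter G, χ' ≠ χ₀ → c χ' = 0 := by
    intro χ' hne'
    by_contra h0
    have h1 : c χ₀ * (c χ₀ * b ψ₀) + c χ' * (c χ' * b ψ₀)
        ≤ ∑ χ'' : IrrCharacter G, c χ'' * (c χ'' * b ψ₀) := by
      rw [← Finset.sum_pair (f := fun χ'' => c χ'' * (c χ'' * b ψ₀)) hne'.symm]
      exact Finset.sum_le_sum_of_subset_of_nonneg (Finset.subset_univ _)
        (fun _ _ _ => Nat.zero_le _)
    have h2 := hone χ₀ hcχ
    have h3 := hone χ' h0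
    have : b ψ₀ + b ψ₀ ≤ b ψ₀ := le_trans (Nat.add_le_add h2 h3) (le_trans h1 hle)
    omega
  have hcone : c χ₀ = 1 := by
    by_contra hne'
    have h2' : 2 ≤ c χ₀ := by omega
    have h1 : c χ₀ * (c χ₀ * b ψ₀) ≤ b ψ₀ :=
      le_trans (Finset.single_le_sum (f := fun χ'' => c χ'' * (c χ'' * b ψ₀))
        (fun _ _ => Nat.zero_le _) (Finset.mem_univ χ₀)) hle
    have h3 : 2 * (2 * b ψ₀) ≤ c χ₀ * (c χ₀ * b ψ₀) :=
      Nat.mul_le_mul h2' (Nat.mul_le_mul_right _ h2')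
    omega
  have hind : indFun T ψ = (χ₀ : G → ℂ) := by
    rw [Cfsg.Agent.Helper2.classFun_eq_sum_classInner
      (Cfsg.Agent.Helper2.isClassFunction_of_isCharacter hΨ)]
    rw [Finset.sum_eq_single χ₀]
    · rw [hfrob, hcone, Nat.cast_one, one_smul]
    · intro χ' _ hne'
      rw [hfrob, hcother χ' hne', Nat.cast_zero, zero_smul]
    · intro h; exact absurd (Finset.mem_univ _) h
  rw [hind]
  exact χ₀.2

include hT in
/-- **Clifford correspondence**: `ψ ↦ ψ^G` is injective on the irreducible characters of `T`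
lying over `θ`. -/
theorem cc_inj (hθ : IsIrrCharacter H θ) (ψ ψ' : T → ℂ) (hψ : IsIrrCharacter T ψ)
    (hψ' : IsIrrCharacter T ψ')
    (hne : classInner (fun n : H => ψ ⟨(n : G), hHT n.2⟩) θ ≠ 0)
    (hne' : classInner (fun n : H => ψ' ⟨(n : G), hHT n.2⟩) θ ≠ 0)
    (heq : indFun T ψ = indFun T ψ') : ψ = ψ' := by
  classical
  by_contra hdiff
  have hθch : IsCharacter H θ := Cfsg.Agent.Helper2.isCharacter_of_isIrrCharacter hθ
  have hbnat : ∀ ψ'' : IrrCharacter T, ∃ m : ℕ,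
      classInner (fun n : H => (ψ'' : T → ℂ) ⟨(n : G), hHT n.2⟩) θ = m := fun ψ'' =>
    cc_b_nat H T θ hHT hθ _ (Cfsg.Agent.Helper2.isCharacter_of_isIrrCharacter ψ''.2)
  choose b hb using hbnat
  obtain ⟨ψ₀, hψ₀⟩ : ∃ ψ₀ : IrrCharacter T, (ψ₀ : T → ℂ) = ψ := ⟨⟨ψ, hψ⟩, rfl⟩
  obtain ⟨ψ₁, hψ₁⟩ : ∃ ψ₁ : IrrCharacter T, (ψ₁ : T → ℂ) = ψ' := ⟨⟨ψ', hψ'⟩, rfl⟩
  have h01 : ψ₀ ≠ ψ₁ := by
    intro h
    apply hdiff
    rw [← hψ₀, ← hψ₁, h]
  have hb1 : b ψ₁ ≠ 0 := by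
    intro h
    apply hne'
    have := hb ψ₁
    rw [hψ₁, h, Nat.cast_zero] at this
    exact this
  have hirr : IsIrrCharacter G (indFun T ψ) := cc_irr H T θ hHT hT hθ ψ hψ hne
  have hα := Cfsg.Agent.Helper2.isCharacter_of_isIrrCharacter hirr
  have hαT : IsCharacter T (fun t : T => indFun T ψ t) :=
    Cfsg.Agent.Helper2.isCharacter_restrict T hα
  have hA : ∀ ψ'' : IrrCharacter T, ∃ m : ℕ,
      classInner (fun t : T => indFun T ψ t) (ψ'' : T → ℂ) = m := fun ψ'' =>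
    Cfsg.Agent.Helper2.classInner_char_nat hαT
      (Cfsg.Agent.Helper2.isCharacter_of_isIrrCharacter ψ''.2)
  choose A hA using hA
  have hself : classInner (indFun T ψ) (indFun T ψ) = 1 := by
    have := Cfsg.Agent.Helper2.classInner_irr_irr (⟨_, hirr⟩ : IrrCharacter G) ⟨_, hirr⟩
    rw [if_pos rfl] at this
    exact this
  have hcl := Cfsg.Agent.Helper2.isClassFunction_of_isCharacter hα
  have hA0 : A ψ₀ = 1 := by
    have h1 : classInner (fun t : T => indFun T ψ t) (ψ₀ : T → ℂ) = 1 := by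
      rw [Cfsg.Agent.Helper2.classInner_conj_symm (ψ₀ : T → ℂ) (fun t : T => indFun T ψ t), hψ₀,
        ← Cfsg.Agent.Helper2.frobenius_reciprocity T ψ (indFun T ψ) hcl, hself, map_one]
    rw [hA ψ₀] at h1
    exact_mod_cast h1
  have hA1 : A ψ₁ = 1 := by
    have h1 : classInner (fun t : T => indFun T ψ t) (ψ₁ : T → ℂ) = 1 := by
      rw [Cfsg.Agent.Helper2.classInner_conj_symm (ψ₁ : T → ℂ) (fun t : T => indFun T ψ t), hψ₁,
        ← Cfsg.Agent.Helper2.frobenius_reciprocity T ψ' (indFun T ψ) hcl, ← heq, hself, map_one]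
    rw [hA ψ₁] at h1
    exact_mod_cast h1
  have hD : (b ψ₀ : ℂ) = ((∑ ψ'' : IrrCharacter T, A ψ'' * b ψ'' : ℕ) : ℂ) := by
    rw [Nat.cast_sum, ← hb ψ₀, hψ₀, ← cc_ind_inner H T θ hHT hT hθ ψ hψ hne, cc_star H T θ hHT _ hα]
    apply Finset.sum_congr rfl
    intro ψ'' _
    rw [hA, hb, Nat.cast_mul]
  have hD' : b ψ₀ = ∑ ψ'' : IrrCharacter T, A ψ'' * b ψ'' := by exact_mod_cast hD
  have h1 : A ψ₀ * b ψ₀ + A ψ₁ * b ψ₁ ≤ ∑ ψ'' : IrrCharacter T, A ψ'' * b ψ'' := by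
    rw [← Finset.sum_pair (f := fun ψ'' => A ψ'' * b ψ'') h01]
    exact Finset.sum_le_sum_of_subset_of_nonneg (Finset.subset_univ _)
      (fun _ _ _ => Nat.zero_le _)
  rw [← hD', hA0, hA1] at h1
  omega

end CC

end Cfsg.Agent.Helper11
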