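import Mathlib
import Cfsg.Prelude.Def_Characters

set_option autoImplicit false

namespace Cfsg.Agent.Helper11

open Cfsg

/-- Subrepresentations of `ρ ∘ σ` and of `ρ` correspond when `σ` is surjective. -/
def subrepEquiv {k G G' V : Type*} [Field k] [Monoid G] [Monoid G'] [AddCommGroup V] [Module k V]
    (ρ : Representation k G V) (σ : G' →* G) (hσ : Function.Surjective σ) :
    Subrepresentation (ρ.comp σ) ≃o Subrepresentation ρ where
  toFun S := ⟨S.toSubmodule, fun g v hv => by
    obtain ⟨g', rfl⟩ := hσ g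
    exact S.apply_mem_toSubmodule g' hv⟩
  invFun S := ⟨S.toSubmodule, fun g v hv => S.apply_mem_toSubmodule (σ g) hv⟩
  left_inv S := rfl
  right_inv S := rfl
  map_rel_iff' := Iff.rfl

theorem isIrreducible_comp {k G G' V : Type*} [Field k] [Monoid G] [Monoid G'] [AddCommGroup V]
    [Module k V] (ρ : Representation k G V) (σ : G' →* G) (hσ : Function.Surjective σ)
    (hρ : ρ.IsIrreducible) : Representation.IsIrreducible (ρ.comp σ) :=
  (subrepEquiv ρ σ hσ).isSimpleOrder_iff.mpr hρ

/-- Precomposing an irreducible character with an automorphism gives an irreducible character. -/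
theorem isIrrCharacter_comp_mulEquiv {H : Type*} [Group H] (σ : H ≃* H) {θ : H → ℂ}
    (hθ : IsIrrCharacter H θ) : IsIrrCharacter H (fun h => θ (σ h)) := by
  obtain ⟨n, ρ, hρ, rfl⟩ := hθ
  exact ⟨n, ρ.comp σ.toMonoidHom, isIrreducible_comp ρ σ.toMonoidHom σ.surjective hρ, rfl⟩

/-- The same for characters. -/
theorem isCharacter_comp_monoidHom {H H' : Type*} [Group H] [Group H'] (σ : H' →* H) {θ : H → ℂ}
    (hθ : IsCharacter H θ) : IsCharacter H' (fun h => θ (σ h)) := by
  obtain ⟨n, ρ, rfl⟩ := hθ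
  exact ⟨n, ρ.comp σ, rfl⟩

end Cfsg.Agent.Helper11
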