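import Mathlib
import Cfsg.Agent.Helper11.FrobFixed
import Cfsg.Agent.Helper4.MinNormal
import Cfsg.Agent.Helper10.NormP
import Cfsg.Agent.S0003

set_option autoImplicit false

namespace Cfsg.Agent.Helper11

universe u

/-- A nontrivial finite group has a minimal normal subgroup. -/
theorem exists_min_normal (G : Type*) [Group G] [Finite G] [Nontrivial G] :
    ∃ M : Subgroup G, M.Normal ∧ M ≠ ⊥ ∧
      ∀ K : Subgroup G, K.Normal → K ≤ M → K = ⊥ ∨ K = M := by
  classical
  have hne : {N : Subgroup G | N.Normal ∧ N ≠ ⊥}.Nonempty :=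
    ⟨⊤, inferInstance, top_ne_bot⟩
  obtain ⟨M, ⟨hMn, hM1⟩, hmin⟩ := WellFounded.has_min (wellFounded_lt (α := Subgroup G)) _ hne
  refine ⟨M, hMn, hM1, fun K hK hKM => ?_⟩
  by_cases hK1 : K = ⊥
  · exact Or.inl hK1
  · right
    by_contra hne'
    exact hmin K ⟨hK, hK1⟩ (lt_of_le_of_ne hKM hne')

/-- In a group all of whose elements have prime power order, nonidentity elements of coprime
orders do not commute. -/
theorem eppo_no_coprime_commute {G : Type*} [Group G] [Finite G]
    (h : ∀ g : G, IsPrimePow (orderOf g) ∨ g = 1) (x w : G) (hx : x ≠ 1) (hw : w ≠ 1)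
    (hc : x * w = w * x) (hcop : (orderOf x).Coprime (orderOf w)) : False := by
  have ho : orderOf (x * w) = orderOf x * orderOf w :=
    Commute.orderOf_mul_eq_mul_orderOf_of_coprime hc hcop
  have hx' : orderOf x ≠ 1 := fun h => hx (orderOf_eq_one_iff.mp h)
  have hw' : orderOf w ≠ 1 := fun h => hw (orderOf_eq_one_iff.mp h)
  rcases h (x * w) with hpp | h1
  · rw [ho] at hpp
    rcases (Nat.Coprime.isPrimePow_dvd_mul hcop hpp).mp dvd_rfl with h2 | h2
    · have h3 : orderOf x * orderOf w ∣ orderOf x * 1 := by rwa [mul_one]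
      exact hw' (Nat.dvd_one.mp ((Nat.mul_dvd_mul_iff_left (orderOf_pos x)).mp h3))
    · have h3 : orderOf x * orderOf w ∣ 1 * orderOf w := by rwa [one_mul]
      exact hx' (Nat.dvd_one.mp ((Nat.mul_dvd_mul_iff_right (orderOf_pos w)).mp h3))
  · have h2 : orderOf (x * w) = 1 := by rw [h1, orderOf_one]
    rw [ho] at h2
    exact hx' (Nat.eq_one_of_mul_eq_one_right h2)

/-- **Higman**: a finite solvable group all of whose elements have prime power order has order
divisible by at most two primes. -/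
theorem eppo_solvable_two_primes {G : Type u} [Group G] [Finite G] [Group.IsSolvable G]
    (h : ∀ g : G, IsPrimePow (orderOf g) ∨ g = 1) : (Nat.card G).primeFactors.card ≤ 2 := by
  classical
  by_contra hcon
  push Not at hcon
  have hGnt : Nontrivial G := by
    by_contra hnt
    rw [not_nontrivial_iff_subsingleton] at hnt
    have h1 : Nat.card G = 1 := Nat.card_unique
    rw [h1] at hcon
    simp at hcon
  obtain ⟨V, hVn, hV1, hVmin⟩ := exists_min_normal G
  haveI := hVn
  have hVab := Helper4.abelian_of_min_normal V hV1 hVmin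
  obtain ⟨p, hp, hVp⟩ := Helper4.isPGroup_of_min_normal V hV1 hVmin
  haveI : Fact p.Prime := ⟨hp⟩
  haveI hVcomm : IsMulCommutative V := ⟨⟨fun a b => Subtype.ext (hVab a a.2 b b.2)⟩⟩
  set N := Nat.card G with hNdef
  have hN0 : N ≠ 0 := Nat.card_pos.ne'
  obtain ⟨K, hK⟩ := S0003.result (G := G) (N / p ^ N.factorization p) (p ^ N.factorization p)
    (by rw [mul_comm]; exact (Nat.ordProj_mul_ordCompl_eq_self N p).symm)
    (Nat.Coprime.pow_right _ (Nat.coprime_ordCompl hp hN0).symm)
  have hKpf : ∀ q : ℕ, q.Prime → q ∣ N → q ≠ p → q ∣ Nat.card K := by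
    intro q hq hqN hqp
    rw [hK]
    have h1 : q ∣ p ^ N.factorization p * (N / p ^ N.factorization p) := by
      rw [Nat.ordProj_mul_ordCompl_eq_self]; exact hqN
    exact (Nat.Coprime.dvd_mul_left
      (Nat.Coprime.pow_right _ ((Nat.coprime_primes hq hp).mpr hqp))).mp h1
  have hKcop : (Nat.card K).Coprime p := by
    rw [hK]; exact (Nat.coprime_ordCompl hp hN0).symm
  -- a prime q ≠ p
  obtain ⟨q, hq, hqN, hqp⟩ : ∃ q : ℕ, q.Prime ∧ q ∣ N ∧ q ≠ p := by
    by_contra hno
    push Not at hno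
    have hsub : N.primeFactors ⊆ {p, p} := by
      intro q hq
      have := hno q (Nat.prime_of_mem_primeFactors hq) (Nat.dvd_of_mem_primeFactors hq)
      simp [this]
    have := (Finset.card_le_card hsub).trans Finset.card_le_two
    omega
  haveI hKnt : Nontrivial K := by
    rw [← Finite.one_lt_card_iff_nontrivial]
    have := Nat.le_of_dvd Nat.card_pos (hKpf q hq hqN hqp)
    have := hq.two_le
    omega
  obtain ⟨M, hMn, hM1, hMmin⟩ := exists_min_normal K
  haveI := hMn
  obtain ⟨s, hs, hMs⟩ := Helper4.isPGroup_of_min_normal M hM1 hMmin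
  haveI : Fact s.Prime := ⟨hs⟩
  obtain ⟨jM, hjM⟩ := IsPGroup.iff_card.mp hMs
  have hsp : s ≠ p := by
    intro hsp
    have hjM0 : jM ≠ 0 := by
      intro h0
      rw [h0, pow_zero] at hjM
      exact hM1 (Subgroup.card_eq_one.mp hjM)
    have h1 : s ∣ Nat.card M := by rw [hjM]; exact dvd_pow_self s hjM0
    have h2 : s ∣ Nat.card K := h1.trans (Subgroup.card_subgroup_dvd_card M)
    rw [hsp] at h2
    exact hp.ne_one (Nat.Coprime.eq_one_of_dvd hKcop.symm h2)
  obtain ⟨t, ht, htN, htp, hts⟩ : ∃ t : ℕ, t.Prime ∧ t ∣ N ∧ t ≠ p ∧ t ≠ s := by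
    by_contra hno
    push Not at hno
    have hsub : N.primeFactors ⊆ {p, s} := by
      intro t ht
      by_cases htp : t = p
      · simp [htp]
      · have := hno t (Nat.prime_of_mem_primeFactors ht) (Nat.dvd_of_mem_primeFactors ht) htp
        simp [this]
    have := (Finset.card_le_card hsub).trans Finset.card_le_two
    omega
  haveI : Fact t.Prime := ⟨ht⟩
  obtain ⟨y, hy⟩ := exists_prime_orderOf_dvd_card' (G := K) t (hKpf t ht htN htp)
  have hy' : orderOf (y : G) = t := by rw [Subgroup.orderOf_coe]; exact hy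
  have hyt : (y : G) ^ t = 1 := by rw [← hy']; exact pow_orderOf_eq_one _
  set M' : Subgroup G := M.map K.subtype with hM'
  have hM'p : IsPGroup s M' := hMs.map _
  have hM'1 : M' ≠ ⊥ := by
    intro h0
    exact hM1 ((Subgroup.map_eq_bot_iff_of_injective _ K.subtype_injective).mp h0)
  have hM'ord : ∀ n ∈ M', ∃ k : ℕ, orderOf n ∣ s ^ k := by
    intro n hn
    obtain ⟨k, hk⟩ := hM'p ⟨n, hn⟩
    refine ⟨k, orderOf_dvd_of_pow_eq_one ?_⟩
    simpa using congrArg Subtype.val hk
  have hVord : ∀ v ∈ V, ∃ k : ℕ, orderOf v ∣ p ^ k := by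
    intro v hv
    obtain ⟨k, hk⟩ := hVp ⟨v, hv⟩
    refine ⟨k, orderOf_dvd_of_pow_eq_one ?_⟩
    simpa using congrArg Subtype.val hk
  have hst : Nat.Coprime s t := (Nat.coprime_primes hs ht).mpr (Ne.symm hts)
  have hsp' : Nat.Coprime s p := (Nat.coprime_primes hs hp).mpr hsp
  have htp' : Nat.Coprime t p := (Nat.coprime_primes ht hp).mpr htp
  have hyM : (y : G) ∈ Subgroup.normalizer (M' : Set G) :=
    Helper10.le_normalizer_map_subtype K M y.2
  have hfpf : ∀ n ∈ M', ∀ i : ℕ, 0 < i → i < t → n * (y : G) ^ i = (y : G) ^ i * n → n = 1 := by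
    intro n hn i hi0 hit hc
    by_contra hn1
    obtain ⟨k, hk⟩ := hM'ord n hn
    have hyi1 : (y : G) ^ i ≠ 1 := pow_ne_one_of_lt_orderOf hi0.ne' (by rw [hy']; exact hit)
    have hcop : (orderOf n).Coprime (orderOf ((y : G) ^ i)) := by
      apply Nat.Coprime.coprime_dvd_left hk
      apply Nat.Coprime.coprime_dvd_right (orderOf_pow_dvd i)
      rw [hy']
      exact Nat.Coprime.pow_left k hst
    exact eppo_no_coprime_commute h n ((y : G) ^ i) hn1 hyi1 hc hcop
  have hCM : ∀ v ∈ V, (∀ m ∈ M', m * v * m⁻¹ = v) → v = 1 := by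
    intro v hv hfix
    by_contra hv1
    obtain ⟨n, hn1⟩ := (Subgroup.ne_bot_iff_exists_ne_one).mp hM'1
    have hnG : (n : G) ≠ 1 := fun h0 => hn1 (Subtype.ext h0)
    obtain ⟨k, hk⟩ := hM'ord n n.2
    obtain ⟨k', hk'⟩ := hVord v hv
    have hc : (n : G) * v = v * n := by
      have := hfix n n.2
      calc (n : G) * v = ((n : G) * v * (n : G)⁻¹) * n := by group
        _ = v * n := by rw [this]
    have hcop : (orderOf (n : G)).Coprime (orderOf v) := by
      apply Nat.Coprime.coprime_dvd_left hk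
      apply Nat.Coprime.coprime_dvd_right hk'
      exact Nat.Coprime.pow _ _ hsp'
    exact eppo_no_coprime_commute h n v hnG hv1 hc hcop
  have hcop : (Nat.card M').Coprime (Nat.card V) := by
    obtain ⟨k, hk⟩ := IsPGroup.iff_card.mp hM'p
    obtain ⟨k', hk'⟩ := IsPGroup.iff_card.mp hVp
    rw [hk, hk']
    exact Nat.Coprime.pow _ _ hsp'
  have hNV : Subgroup.normalizer (V : Set G) = ⊤ := Subgroup.normalizer_eq_top V
  obtain ⟨v, hvV, hv1, hvy⟩ := frob_fixed_point V M' (y : G) t ht.pos hyt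
    (by rw [hNV]; exact le_top) (by rw [hNV]; trivial) hyM hfpf hCM hcop hV1
  obtain ⟨k', hk'⟩ := hVord v hvV
  have hyG1 : (y : G) ≠ 1 := by
    intro h0
    rw [h0, orderOf_one] at hy'
    exact ht.one_lt.ne hy'
  have hc : (y : G) * v = v * y := by
    calc (y : G) * v = ((y : G) * v * (y : G)⁻¹) * y := by group
      _ = v * y := by rw [hvy]
  have hcop2 : (orderOf (y : G)).Coprime (orderOf v) := by
    rw [hy']
    apply Nat.Coprime.coprime_dvd_right hk'
    exact Nat.Coprime.pow_right _ htp'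
  exact eppo_no_coprime_commute h (y : G) v hyG1 hv1 hc hcop2

end Cfsg.Agent.Helper11
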