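import Mathlib

/-!
# Counting in Frobenius-like sections, and nilpotent groups with abelianization a `p`-group
(helper11)

* `orbit_count`: if all points of a stable finite set have the same stabilizer `S₀`, then
  `|Γ : S₀|` divides the size of the set.
* `frob_count`: if `L/H₁` is Frobenius-like with kernel `K/H₁` (abelian) and `H₁ ≤ N ≤ K` is
  normal in `L`, then `|L:K|` divides `|N:H₁| - 1`.
* `odd_dvd_pred_ge`, `dvd_pred_of_mul`: arithmetic.
* `nilpotent_pgroup_of_abelianization`: a finite nilpotent group whose abelianization is a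
  `p`-group is a `p`-group.
* `commutator_quotient_index`: `|K/M : (K/M)'| = |K : K'M|`.
* `exists_primary_between`: the `p`-primary part of an abelian section.
-/

set_option autoImplicit false

namespace Cfsg.Agent.Helper11

open scoped commutatorElement

theorem orbit_count {Γ α : Type*} [Group Γ] [Fintype α] (act : Γ → α → α)
    (h1 : ∀ x, act 1 x = x) (hmul : ∀ γ γ' x, act (γ * γ') x = act γ (act γ' x))
    (X : Finset α) (hX : ∀ γ, ∀ x ∈ X, act γ x ∈ X) (S₀ : Subgroup Γ)
    (hstab : ∀ x ∈ X, ∀ γ : Γ, act γ x = x ↔ γ ∈ S₀) : S₀.index ∣ X.card := by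
  classical
  let _inst : MulAction Γ α := { smul := act, one_smul := h1, mul_smul := hmul }
  have hsm : ∀ (γ : Γ) (x : α), γ • x = act γ x := fun _ _ => rfl
  let Q := MulAction.orbitRel.Quotient Γ α
  have _instQ : Fintype Q := Fintype.ofFinite _
  have hcard : X.card = ∑ q : Q, (X.filter (fun x => (Quotient.mk'' x : Q) = q)).card :=
    Finset.card_eq_sum_card_fiberwise (fun x _ => Finset.mem_coe.mpr (Finset.mem_univ _))
  rw [hcard]
  apply Finset.dvd_sum
  intro q _
  by_cases hq : q.out ∈ X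
  · have hfib : (X.filter (fun x => (Quotient.mk'' x : Q) = q)).card = S₀.index := by
      have hstab' : MulAction.stabilizer Γ q.out = S₀ := by
        ext γ
        rw [MulAction.mem_stabilizer_iff, hsm]
        exact hstab _ hq γ
      rw [← hstab', MulAction.index_stabilizer, ← Set.ncard_coe_finset]
      congr 1
      ext x
      simp only [Finset.coe_filter, Set.mem_ofPred_eq]
      constructor
      · rintro ⟨_, hx⟩
        have h1' : (Quotient.mk'' x : Q) = Quotient.mk'' q.out := by rw [hx, Quotient.out_eq']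
        exact Quotient.exact' h1'
      · intro hx
        obtain ⟨γ, rfl⟩ := hx
        refine ⟨hX γ _ hq, ?_⟩
        have h5 : (Quotient.mk'' (γ • q.out) : Q) = Quotient.mk'' q.out := by
          apply Quotient.sound'
          exact ⟨γ, rfl⟩
        rw [h5, Quotient.out_eq']
    rw [hfib]
  · have hfib : X.filter (fun x => (Quotient.mk'' x : Q) = q) = ∅ := by
      apply Finset.filter_eq_empty_iff.mpr
      intro x hx hxq
      apply hq
      have h1' : (Quotient.mk'' q.out : Q) = Quotient.mk'' x := by rw [hxq, Quotient.out_eq']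
      have h2 : q.out ∈ MulAction.orbit Γ x := Quotient.exact' h1'
      obtain ⟨γ, hγ⟩ := h2
      rw [← hγ]
      exact hX γ x hx
    rw [hfib, Finset.card_empty]
    exact dvd_zero _

theorem frob_count {L : Type*} [Group L] [Finite L] (K H₁ N : Subgroup L)
    [hH₁n : H₁.Normal] [hNn : N.Normal] (hH₁N : H₁ ≤ N) (hNK : N ≤ K) (hab : ⁅K, K⁆ ≤ H₁)
    (hfrob : ∀ k ∈ K, k ∉ H₁ → ∀ x : L, x * k * x⁻¹ * k⁻¹ ∈ H₁ → x ∈ K) :
    K.index ∣ H₁.relIndex N - 1 := by
  classical
  let _instL : Fintype L := Fintype.ofFinite L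
  obtain ⟨π, hπ⟩ : ∃ π : L →* L ⧸ H₁, π = QuotientGroup.mk' H₁ := ⟨_, rfl⟩
  have hπs : Function.Surjective π := by
    rw [hπ]
    exact QuotientGroup.mk'_surjective H₁
  have hπ1 : ∀ x : L, π x = 1 ↔ x ∈ H₁ := by
    intro x
    rw [hπ]
    exact QuotientGroup.eq_one_iff x
  obtain ⟨Nb, hNb⟩ : ∃ Nb : Subgroup (L ⧸ H₁), Nb = N.map π := ⟨_, rfl⟩
  have hNbn : Nb.Normal := by
    rw [hNb]
    exact Subgroup.Normal.map hNn π hπs
  obtain ⟨X, hXdef⟩ : ∃ X : Finset (L ⧸ H₁),
      X = Finset.univ.filter (fun q => q ∈ Nb ∧ q ≠ 1) := ⟨_, rfl⟩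
  have hstable : ∀ g : L, ∀ q ∈ X, π g * q * (π g)⁻¹ ∈ X := by
    intro g q hq
    rw [hXdef, Finset.mem_filter] at hq ⊢
    refine ⟨Finset.mem_univ _, hNbn.conj_mem q hq.2.1 (π g), ?_⟩
    intro h
    apply hq.2.2
    have := congrArg (fun z => (π g)⁻¹ * z * π g) h
    simpa [mul_assoc] using this
  have hstab : ∀ q ∈ X, ∀ g : L, π g * q * (π g)⁻¹ = q ↔ g ∈ K := by
    intro q hq g
    rw [hXdef, Finset.mem_filter, hNb] at hq
    obtain ⟨-, ⟨n, hn, rfl⟩, hne⟩ := hq
    have hnH : n ∉ H₁ := fun h => hne ((hπ1 n).mpr h)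
    have hiff : (π g * π n * (π g)⁻¹ = π n) ↔ g * n * g⁻¹ * n⁻¹ ∈ H₁ := by
      rw [← hπ1, map_mul, map_mul, map_mul, map_inv, map_inv]
      exact mul_inv_eq_one.symm
    rw [hiff]
    constructor
    · exact hfrob n (hNK hn) hnH g
    · intro hg
      apply hab
      have := Subgroup.commutator_mem_commutator hg (hNK hn)
      rwa [commutatorElement_def] at this
  have hdiv := orbit_count (Γ := L) (α := L ⧸ H₁) (fun g q => π g * q * (π g)⁻¹)
    (by intro x; simp) (by intro a b x; simp [mul_assoc]) X hstable K hstab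
  have hcardNb : Nat.card Nb = H₁.relIndex N := by
    have h1 : Nb.index = N.index := by
      rw [hNb]
      apply Subgroup.index_map_eq N hπs
      rw [hπ, QuotientGroup.ker_mk']
      exact hH₁N
    have h2 := Nb.card_mul_index
    have h3 : Nat.card (L ⧸ H₁) = H₁.index := rfl
    have h4 := Subgroup.relIndex_mul_index hH₁N
    have h5 : 0 < N.index := Nat.pos_of_ne_zero Subgroup.index_ne_zero_of_finite
    rw [h1, h3, ← h4] at h2
    exact Nat.eq_of_mul_eq_mul_right h5 h2
  have hXcard : X.card + 1 = Nat.card Nb := by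
    have h1 : X = (Finset.univ.filter (fun q => q ∈ Nb)).erase 1 := by
      ext q
      simp only [hXdef, Finset.mem_filter, Finset.mem_univ, true_and, Finset.mem_erase]
      tauto
    have h2 : (1 : L ⧸ H₁) ∈ Finset.univ.filter (fun q => q ∈ Nb) := by
      simp [Nb.one_mem]
    have h3 : (Finset.univ.filter (fun q => q ∈ Nb)).card = Nat.card Nb := by
      rw [← Fintype.card_subtype]
      exact Nat.card_eq_fintype_card.symm
    rw [h1, Finset.card_erase_of_mem h2, h3]
    have : 0 < Nat.card Nb := Nat.card_pos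
    omega
  rw [← hcardNb, ← hXcard, Nat.add_sub_cancel]
  exact hdiv

theorem odd_dvd_pred_ge (e r : ℕ) (he : Odd e) (hr : Odd r) (hr1 : r ≠ 1)
    (hdvd : e ∣ r - 1) : 2 * e + 1 ≤ r := by
  obtain ⟨s, hs⟩ := hdvd
  have hev : Even (r - 1) := Nat.Odd.sub_odd hr odd_one
  rw [hs, Nat.even_mul] at hev
  rcases hev with h | h
  · exact absurd h (Nat.not_even_iff_odd.mpr he)
  · obtain ⟨w, hw⟩ := h
    have hrpos : 0 < r := hr.pos
    have hw0 : w ≠ 0 := by
      intro h0
      have hs0 : s = 0 := by omega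
      rw [hs0, mul_zero] at hs
      omega
    have h2 : e * 2 ≤ e * s := by
      apply Nat.mul_le_mul_left
      omega
    omega

theorem dvd_pred_of_mul (e a b : ℕ) (ha : 0 < a) (hb : 0 < b) (h1 : e ∣ a - 1)
    (h2 : e ∣ a * b - 1) : e ∣ b - 1 := by
  have m1 : 1 ≡ a [MOD e] := (Nat.modEq_iff_dvd' ha).mpr h1
  have m2 : 1 ≡ a * b [MOD e] := (Nat.modEq_iff_dvd' (Nat.mul_pos ha hb)).mpr h2
  have m3 : 1 * b ≡ a * b [MOD e] := Nat.ModEq.mul_right b m1
  rw [one_mul] at m3
  exact (Nat.modEq_iff_dvd' hb).mp (m2.trans m3.symm)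

theorem frob_ge {L : Type*} [Group L] [Finite L] (hodd : Odd (Nat.card L)) (K H₁ N : Subgroup L)
    [hH₁n : H₁.Normal] [hNn : N.Normal] (hH₁N : H₁ ≤ N) (hNK : N ≤ K) (hab : ⁅K, K⁆ ≤ H₁)
    (hfrob : ∀ k ∈ K, k ∉ H₁ → ∀ x : L, x * k * x⁻¹ * k⁻¹ ∈ H₁ → x ∈ K) (hne : ¬ N ≤ H₁) :
    2 * K.index + 1 ≤ H₁.relIndex N := by
  apply odd_dvd_pred_ge
  · exact Odd.of_dvd_nat hodd (Subgroup.index_dvd_card K)
  · exact Odd.of_dvd_nat hodd (dvd_trans (Subgroup.relIndex_dvd_card H₁ N)
      (Subgroup.card_subgroup_dvd_card N))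
  · intro h
    exact hne (Subgroup.relIndex_eq_one.mp h)
  · exact frob_count K H₁ N hH₁N hNK hab hfrob

theorem frob_ge_top {L : Type*} [Group L] [Finite L] (hodd : Odd (Nat.card L))
    (K H₁ N : Subgroup L) [hKn : K.Normal]
    [hH₁n : H₁.Normal] [hNn : N.Normal] (hH₁N : H₁ ≤ N) (hNK : N ≤ K) (hab : ⁅K, K⁆ ≤ H₁)
    (hfrob : ∀ k ∈ K, k ∉ H₁ → ∀ x : L, x * k * x⁻¹ * k⁻¹ ∈ H₁ → x ∈ K) (hne : ¬ K ≤ N) :
    2 * K.index + 1 ≤ N.relIndex K := by
  apply odd_dvd_pred_ge
  · exact Odd.of_dvd_nat hodd (Subgroup.index_dvd_card K)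
  · exact Odd.of_dvd_nat hodd (dvd_trans (Subgroup.relIndex_dvd_card N K)
      (Subgroup.card_subgroup_dvd_card K))
  · intro h
    exact hne (Subgroup.relIndex_eq_one.mp h)
  · have h1 := frob_count K H₁ N hH₁N hNK hab hfrob
    have h2 := frob_count K H₁ K (hH₁N.trans hNK) le_rfl hab hfrob
    rw [← Subgroup.relIndex_mul_relIndex H₁ N K hH₁N hNK] at h2
    exact dvd_pred_of_mul _ _ _
      (Nat.pos_of_ne_zero (Subgroup.index_ne_zero_of_finite (H := H₁.subgroupOf N)))
      (Nat.pos_of_ne_zero (Subgroup.index_ne_zero_of_finite (H := N.subgroupOf K))) h1 h2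

theorem nilpotent_pgroup_of_abelianization {Q : Type*} [Group Q] [Finite Q]
    (hnil : Group.IsNilpotent Q) (p : ℕ) (hp : p.Prime) (n : ℕ)
    (hidx : (commutator Q).index = p ^ n) : ∃ m, Nat.card Q = p ^ m := by
  have _hpf : Fact p.Prime := ⟨hp⟩
  obtain ⟨P⟩ := (inferInstance : Nonempty (Sylow p Q))
  have h03 : Group.IsNilpotent Q ↔
      ∀ (p : ℕ) (_ : Fact p.Prime) (P : Sylow p Q), (P : Subgroup Q).Normal :=
    (Group.isNilpotent_of_finite_tfae (G := Q)).out 0 3
  have hPn : (P : Subgroup Q).Normal := h03.mp hnil p _hpf P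
  by_cases htop : (P : Subgroup Q) = ⊤
  · obtain ⟨m, hm⟩ := IsPGroup.iff_card.mp P.isPGroup'
    refine ⟨m, ?_⟩
    rw [← hm, htop]
    exact Subgroup.card_top.symm
  · exfalso
    have _i1 : Nontrivial (Q ⧸ (P : Subgroup Q)) := QuotientGroup.nontrivial_iff.mpr htop
    have hc := Group.IsSolvable.commutator_lt_top_of_nontrivial (Q ⧸ (P : Subgroup Q))
    have _i2 : Finite (Abelianization (Q ⧸ (P : Subgroup Q))) :=
      inferInstanceAs (Finite ((Q ⧸ (P : Subgroup Q)) ⧸ commutator (Q ⧸ (P : Subgroup Q))))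
    obtain ⟨f, hf⟩ : ∃ f : Q →* Abelianization (Q ⧸ (P : Subgroup Q)),
        f = (Abelianization.of).comp (QuotientGroup.mk' (P : Subgroup Q)) := ⟨_, rfl⟩
    have hfs : Function.Surjective f := by
      rw [hf]
      exact (QuotientGroup.mk'_surjective _).comp (QuotientGroup.mk'_surjective _)
    have hker : commutator Q ≤ f.ker := Abelianization.commutator_subset_ker f
    have h1 : f.ker.index ∣ p ^ n := by
      rw [← hidx]
      exact Subgroup.index_dvd_of_le hker
    have h2 : f.ker.index = Nat.card (Abelianization (Q ⧸ (P : Subgroup Q))) := by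
      rw [Subgroup.index_ker, MonoidHom.range_eq_top.mpr hfs, Subgroup.card_top]
    have h3 : Nat.card (Abelianization (Q ⧸ (P : Subgroup Q))) ∣ (P : Subgroup Q).index := by
      show (commutator (Q ⧸ (P : Subgroup Q))).index ∣ _
      rw [Subgroup.index_eq_card (P : Subgroup Q)]
      exact Subgroup.index_dvd_card _
    have h4 : ¬ p ∣ (P : Subgroup Q).index := P.not_dvd_index
    have h5 : Nat.card (Abelianization (Q ⧸ (P : Subgroup Q))) = 1 := by
      rw [h2] at h1
      obtain ⟨i, -, hi⟩ := (Nat.dvd_prime_pow hp).mp h1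
      rcases Nat.eq_zero_or_pos i with h0 | h0
      · rw [hi, h0, pow_zero]
      · exfalso
        apply h4
        refine dvd_trans ?_ h3
        rw [hi]
        exact dvd_pow_self p h0.ne'
    have _i3 : Nontrivial (Abelianization (Q ⧸ (P : Subgroup Q))) :=
      QuotientGroup.nontrivial_iff.mpr hc.ne
    have h6 := Finite.one_lt_card (α := Abelianization (Q ⧸ (P : Subgroup Q)))
    omega

theorem commutator_sup_subgroupOf {L : Type*} [Group L] (K M : Subgroup L) [K.Normal]
    (hMK : M ≤ K) : (⁅K, K⁆ ⊔ M).subgroupOf K = commutator K ⊔ M.subgroupOf K := by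
  rw [Subgroup.subgroupOf_sup (Subgroup.commutator_le_left K K) hMK]
  congr 1
  rw [← Subgroup.map_subtype_commutator K]
  exact Subgroup.comap_map_eq_self_of_injective K.subtype_injective _

theorem commutator_quotient_index {L : Type*} [Group L] (K M : Subgroup L) [K.Normal]
    [(M.subgroupOf K).Normal] (hMK : M ≤ K) :
    (commutator (↥K ⧸ M.subgroupOf K)).index = (⁅K, K⁆ ⊔ M).relIndex K := by
  have hs : Function.Surjective (QuotientGroup.mk' (M.subgroupOf K)) :=
    QuotientGroup.mk'_surjective _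
  have h1 : commutator (↥K ⧸ M.subgroupOf K) =
      (commutator K).map (QuotientGroup.mk' (M.subgroupOf K)) := by
    rw [commutator_def, commutator_def, Subgroup.map_commutator,
      Subgroup.map_top_of_surjective _ hs]
  have h2 : ((commutator K).map (QuotientGroup.mk' (M.subgroupOf K))).comap
      (QuotientGroup.mk' (M.subgroupOf K)) = commutator K ⊔ M.subgroupOf K := by
    rw [Subgroup.comap_map_eq, QuotientGroup.ker_mk']
  have h3 := commutator_sup_subgroupOf K M hMK
  rw [← Subgroup.index_comap_of_surjective _ hs, h1, h2, ← h3]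
  rfl

theorem exists_primary_between {L : Type*} [Group L] [Finite L] (K H₁ : Subgroup L)
    [hKn : K.Normal] [hH₁n : H₁.Normal] (hH₁K : H₁ ≤ K) (hab : ⁅K, K⁆ ≤ H₁) (p : ℕ)
    (hp : p.Prime) (hpd : p ∣ H₁.relIndex K) (hnp : ¬ ∃ n, H₁.relIndex K = p ^ n) :
    ∃ N : Subgroup L, N.Normal ∧ H₁ < N ∧ N < K := by
  classical
  have _hpf : Fact p.Prime := ⟨hp⟩
  have hπ1 : ∀ x : L, (QuotientGroup.mk' H₁ x = 1) ↔ x ∈ H₁ := fun x =>
    QuotientGroup.eq_one_iff x
  have hcomm : ∀ x ∈ K, ∀ y ∈ K, Commute (QuotientGroup.mk' H₁ x) (QuotientGroup.mk' H₁ y) := by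
    intro x hx y hy
    have h1 : x * y * x⁻¹ * y⁻¹ ∈ H₁ := by
      apply hab
      have := Subgroup.commutator_mem_commutator hx hy
      rwa [commutatorElement_def] at this
    rw [← hπ1, map_mul, map_mul, map_mul, map_inv, map_inv] at h1
    show _ * _ = _ * _
    have h2 := mul_inv_eq_one.mp h1
    have h3 := mul_inv_eq_iff_eq_mul.mp h2
    exact h3
  let N : Subgroup L :=
    { carrier := {x | x ∈ K ∧ ∃ a : ℕ, x ^ (p ^ a) ∈ H₁}
      mul_mem' := by
        rintro x y ⟨hx, a, ha⟩ ⟨hy, b, hb⟩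
        refine ⟨K.mul_mem hx hy, a + b, ?_⟩
        rw [← hπ1, map_pow, map_mul, (hcomm x hx y hy).mul_pow]
        rw [← hπ1, map_pow] at ha hb
        rw [pow_add, pow_mul, ha, one_pow, one_mul, mul_comm (p ^ a), pow_mul, hb, one_pow]
      one_mem' := ⟨K.one_mem, 0, by simp [H₁.one_mem]⟩
      inv_mem' := by
        rintro x ⟨hx, a, ha⟩
        refine ⟨K.inv_mem hx, a, ?_⟩
        rw [inv_pow]
        exact H₁.inv_mem ha }
  have hNmem : ∀ x : L, x ∈ N ↔ x ∈ K ∧ ∃ a : ℕ, x ^ (p ^ a) ∈ H₁ := fun x => Iff.rfl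
  have hNn : N.Normal := by
    constructor
    intro x hx g
    rw [hNmem] at hx ⊢
    obtain ⟨hxK, a, ha⟩ := hx
    refine ⟨hKn.conj_mem x hxK g, a, ?_⟩
    rw [conj_pow]
    exact hH₁n.conj_mem _ ha g
  have hH₁N : H₁ ≤ N := by
    intro x hx
    rw [hNmem]
    exact ⟨hH₁K hx, 0, by simpa using hx⟩
  have hNK : N ≤ K := fun x hx => ((hNmem x).mp hx).1
  have hcard : Nat.card (↥K ⧸ H₁.subgroupOf K) = H₁.relIndex K := rfl
  refine ⟨N, hNn, lt_of_le_of_ne hH₁N ?_, lt_of_le_of_ne hNK ?_⟩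
  · intro heq
    rw [← hcard] at hpd
    obtain ⟨z, hz⟩ := exists_prime_orderOf_dvd_card' p hpd
    obtain ⟨k, rfl⟩ := QuotientGroup.mk_surjective z
    have hk1 : (k : L) ^ p ∈ H₁ := by
      have h1 : ((k ^ p : K) : ↥K ⧸ H₁.subgroupOf K) = 1 := by
        rw [QuotientGroup.mk_pow, ← hz]
        exact pow_orderOf_eq_one _
      have h2 := (QuotientGroup.eq_one_iff _).mp h1
      rw [Subgroup.mem_subgroupOf] at h2
      simpa using h2
    have hk2 : (k : L) ∉ H₁ := by
      intro h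
      have h1 : ((k : K) : ↥K ⧸ H₁.subgroupOf K) = 1 :=
        (QuotientGroup.eq_one_iff _).mpr (Subgroup.mem_subgroupOf.mpr h)
      rw [h1, orderOf_one] at hz
      exact hp.one_lt.ne hz
    apply hk2
    rw [heq, hNmem]
    exact ⟨k.2, 1, by simpa using hk1⟩
  · intro heq
    apply hnp
    rw [← hcard]
    apply IsPGroup.iff_card.mp
    intro z
    obtain ⟨k, rfl⟩ := QuotientGroup.mk_surjective z
    have hk : (k : L) ∈ N := by
      rw [heq]
      exact k.2
    obtain ⟨-, a, ha⟩ := (hNmem _).mp hk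
    refine ⟨a, ?_⟩
    rw [← QuotientGroup.mk_pow]
    apply (QuotientGroup.eq_one_iff _).mpr
    rw [Subgroup.mem_subgroupOf]
    simpa using ha

end Cfsg.Agent.Helper11
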