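import Mathlib
import Cfsg.Agent.Helper11.FrobCount
import Cfsg.Agent.S0033

/-!
# Group theory for Feit's coherence theorem (helper11)

* `eq_top_of_sylow_le`: a subgroup containing a Sylow `p`-subgroup for every prime is everything.
* `nilpotent_sylow_complement`: in a finite nilpotent group a Sylow `p`-subgroup has a
  characteristic complement centralizing it.
* `nilpotent_split`: a normal nilpotent subgroup `H` of `N` that is neither abelian nor of prime
  power order is the product of two `N`-normal subgroups `P`, `Q` with `P ⊓ Q = ⊥`, `[P, Q] = 1`,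
  `P` non-abelian and `Q ≠ ⊥`.
* `frob_kernel_nilpotent`: a proper normal subgroup containing the centralizers of its
  non-identity elements is nilpotent (Thompson).
* `commutator_sup_lt`: `⁅K, K⁆ ⊔ M < K` for `M < K` with `K` solvable.
-/

set_option autoImplicit false

namespace Cfsg.Agent.Helper11

open Cfsg

universe u

theorem eq_top_of_sylow_le {Γ : Type*} [Group Γ] [Finite Γ] (T : Subgroup Γ)
    (h : ∀ p : ℕ, p.Prime → ∃ S : Sylow p Γ, (S : Subgroup Γ) ≤ T) : T = ⊤ := by
  rw [← Subgroup.index_eq_one]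
  by_contra hne
  obtain ⟨p, hp, hpd⟩ := Nat.exists_prime_and_dvd hne
  have _hfact : Fact p.Prime := ⟨hp⟩
  obtain ⟨S, hS⟩ := h p hp
  exact S.not_dvd_index (dvd_trans hpd (Subgroup.index_dvd_of_le hS))

/-- In a finite nilpotent group, a Sylow `p`-subgroup has a characteristic complement which
centralizes it. -/
theorem nilpotent_sylow_complement {Γ : Type*} [Group Γ] [Finite Γ] (hnil : Group.IsNilpotent Γ)
    (p : ℕ) [hp : Fact p.Prime] (P : Sylow p Γ) :
    ∃ Q : Subgroup Γ, Q.Characteristic ∧ (P : Subgroup Γ) ⊓ Q = ⊥ ∧ (P : Subgroup Γ) ⊔ Q = ⊤ ∧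
      (∀ x ∈ (P : Subgroup Γ), ∀ y ∈ Q, x * y = y * x) := by
  classical
  obtain ⟨𝒮, h𝒮⟩ : ∃ 𝒮 : Set (Subgroup Γ),
      𝒮 = {T | ∃ q : ℕ, q.Prime ∧ q ≠ p ∧ ∃ S : Sylow q Γ, (S : Subgroup Γ) = T} := ⟨_, rfl⟩
  have hPn : (P : Subgroup Γ).Normal := inferInstance
  have hmem : ∀ T ∈ 𝒮, ∃ q : ℕ, q.Prime ∧ q ≠ p ∧ ∃ S : Sylow q Γ, (S : Subgroup Γ) = T := by
    intro T hT
    rw [h𝒮] at hT
    exact hT
  have hcommS : ∀ T ∈ 𝒮, ∀ y ∈ T, ∀ x ∈ (P : Subgroup Γ), x * y = y * x := by
    intro T hT y hy x hx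
    obtain ⟨q, hq, hqp, S, rfl⟩ := hmem T hT
    have _hfact : Fact q.Prime := ⟨hq⟩
    have hSn : (S : Subgroup Γ).Normal := inferInstance
    have hdis : Disjoint (P : Subgroup Γ) (S : Subgroup Γ) :=
      IsPGroup.disjoint_of_ne p q (Ne.symm hqp) _ _ P.isPGroup' S.isPGroup'
    exact Subgroup.commute_of_normal_of_disjoint _ _ hPn hSn hdis x y hx hy
  refine ⟨sSup 𝒮, ?_, ?_, ?_, ?_⟩
  · rw [Subgroup.characteristic_iff_le_comap]
    intro ϕ
    apply sSup_le
    intro T hT x hx
    obtain ⟨q, hq, hqp, S, rfl⟩ := hmem T hT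
    have _hfact : Fact q.Prime := ⟨hq⟩
    have hSn : (S : Subgroup Γ).Normal := inferInstance
    have hSc : (S : Subgroup Γ).Characteristic := Sylow.characteristic_of_normal S hSn
    have h1 : (S : Subgroup Γ).comap ϕ.toMonoidHom = (S : Subgroup Γ) :=
      Subgroup.characteristic_iff_comap_eq.mp hSc ϕ
    have h2 : x ∈ (S : Subgroup Γ).comap ϕ.toMonoidHom := by
      rw [h1]
      exact hx
    exact (le_sSup hT : (S : Subgroup Γ) ≤ sSup 𝒮) (Subgroup.mem_comap.mp h2)
  · obtain ⟨K, hK⟩ := Subgroup.exists_right_complement'_of_coprime (N := (P : Subgroup Γ))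
      P.card_coprime_index
    have hle : sSup 𝒮 ≤ K := by
      apply sSup_le
      intro T hT x hx
      obtain ⟨q, hq, hqp, S, rfl⟩ := hmem T hT
      have _hfact : Fact q.Prime := ⟨hq⟩
      obtain ⟨⟨⟨u, hu⟩, ⟨k, hk⟩⟩, hxk, -⟩ := (Subgroup.isComplement_iff_existsUnique.mp hK) x
      have hxk' : u * k = x := hxk
      have hu' : u ∈ (P : Subgroup Γ) := hu
      have hk'' : k ∈ K := hk
      have hcomm : Commute u⁻¹ x := hcommS _ hT x hx u⁻¹ (Subgroup.inv_mem _ hu')
      have hk' : k = u⁻¹ * x := by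
        rw [← hxk']
        group
      have hou : orderOf u ∣ Nat.card (P : Subgroup Γ) := Subgroup.orderOf_dvd_natCard _ hu'
      have hox : orderOf x ∣ Nat.card (S : Subgroup Γ) := Subgroup.orderOf_dvd_natCard _ hx
      have hok : orderOf k ∣ Nat.card K := Subgroup.orderOf_dvd_natCard _ hk''
      obtain ⟨n, hn⟩ := IsPGroup.iff_card.mp P.isPGroup'
      obtain ⟨m, hm⟩ := IsPGroup.iff_card.mp S.isPGroup'
      have hcop : (orderOf u⁻¹).Coprime (orderOf x) := by
        rw [orderOf_inv]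
        apply Nat.Coprime.coprime_dvd_left hou
        apply Nat.Coprime.coprime_dvd_right hox
        have e1 : Nat.card (P : Subgroup Γ) = p ^ n := hn
        have e2 : Nat.card (S : Subgroup Γ) = q ^ m := hm
        rw [e1, e2]
        exact Nat.Coprime.pow _ _ ((Nat.coprime_primes hp.out hq).mpr (Ne.symm hqp))
      have hord : orderOf k = orderOf u⁻¹ * orderOf x := by
        rw [hk']
        exact hcomm.orderOf_mul_eq_mul_orderOf_of_coprime hcop
      have hcardK : (P : Subgroup Γ).index = Nat.card K := hK.symm.index_eq_card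
      have hu1 : orderOf u = 1 := by
        have h1 : orderOf u ∣ Nat.card K := by
          refine dvd_trans ?_ hok
          rw [hord, orderOf_inv]
          exact dvd_mul_right _ _
        have h2 : (Nat.card (P : Subgroup Γ)).Coprime (Nat.card K) := by
          rw [← hcardK]
          exact P.card_coprime_index
        exact Nat.eq_one_of_dvd_coprimes h2 hou h1
      have hu1' : u = 1 := orderOf_eq_one_iff.mp hu1
      rw [hu1', one_mul] at hxk'
      rw [← hxk']
      exact hk''
    have h1 : (P : Subgroup Γ) ⊓ sSup 𝒮 ≤ (P : Subgroup Γ) ⊓ K := inf_le_inf_left _ hle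
    rw [hK.disjoint.eq_bot] at h1
    exact le_bot_iff.mp h1
  · apply eq_top_of_sylow_le
    intro r hr
    by_cases hrp : r = p
    · subst hrp
      exact ⟨P, le_sup_left⟩
    · have _hfact : Fact r.Prime := ⟨hr⟩
      obtain ⟨S⟩ : Nonempty (Sylow r Γ) := inferInstance
      refine ⟨S, le_trans (le_sSup ?_) le_sup_right⟩
      rw [h𝒮]
      exact ⟨r, hr, hrp, S, rfl⟩
  · intro x hx y hy
    have hle : sSup 𝒮 ≤ Subgroup.centralizer ((P : Subgroup Γ) : Set Γ) := by
      apply sSup_le
      intro T hT y hy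
      rw [Subgroup.mem_centralizer_iff]
      intro x hx
      exact hcommS T hT y hy x hx
    exact Subgroup.mem_centralizer_iff.mp (hle hy) x hx

/-- Splitting a nilpotent normal subgroup that is neither abelian nor of prime power order. -/
theorem nilpotent_split {N : Type*} [Group N] [Finite N] (H : Subgroup N) [hHn : H.Normal]
    (hnil : Group.IsNilpotent H) (hnab : ¬ IsMulCommutative H)
    (hnp : ¬ ∃ p m : ℕ, p.Prime ∧ Nat.card H = p ^ m) :
    ∃ P Q : Subgroup N, P.Normal ∧ Q.Normal ∧ P ≤ H ∧ Q ≤ H ∧ P ⊓ Q = ⊥ ∧ P ⊔ Q = H ∧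
      (∀ x ∈ P, ∀ y ∈ Q, x * y = y * x) ∧ (∃ x ∈ P, ∃ y ∈ P, x * y ≠ y * x) ∧ Q ≠ ⊥ := by
  classical
  have hex : ∃ p : ℕ, p.Prime ∧ ∃ S : Sylow p H, ¬ (S : Subgroup H) ≤ Subgroup.center H := by
    by_contra hcon
    push Not at hcon
    have h1 : Subgroup.center H = ⊤ := by
      apply eq_top_of_sylow_le
      intro p hp
      have _hfact : Fact p.Prime := ⟨hp⟩
      obtain ⟨S⟩ : Nonempty (Sylow p H) := inferInstance
      exact ⟨S, hcon p hp S⟩
    exact hnab ((commutator_eq_bot_iff H).mp ((commutator_eq_bot_iff_center_eq_top H).mpr h1))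
  obtain ⟨p, hp, S, hS⟩ := hex
  have _hfact : Fact p.Prime := ⟨hp⟩
  obtain ⟨Q₀, hQc, hinf, hsup, hcomm⟩ := nilpotent_sylow_complement hnil p S
  have hSn : (S : Subgroup H).Normal := inferInstance
  have hSc : (S : Subgroup H).Characteristic := Sylow.characteristic_of_normal S hSn
  refine ⟨(S : Subgroup H).map H.subtype, Q₀.map H.subtype, ?_, ?_, ?_, ?_, ?_, ?_, ?_, ?_, ?_⟩
  · exact ConjAct.normal_of_characteristic_of_normal
  · exact ConjAct.normal_of_characteristic_of_normal
  · exact Subgroup.map_subtype_le _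
  · exact Subgroup.map_subtype_le _
  · rw [← Subgroup.map_inf _ _ H.subtype H.subtype_injective, hinf, Subgroup.map_bot]
  · rw [← Subgroup.map_sup, hsup, ← MonoidHom.range_eq_map, Subgroup.range_subtype]
  · rintro x ⟨x', hx', rfl⟩ y ⟨y', hy', rfl⟩
    have h1 := hcomm x' hx' y' hy'
    have h2 := congrArg Subtype.val h1
    exact h2
  · by_contra hcon
    push Not at hcon
    apply hS
    intro s hs
    rw [Subgroup.mem_center_iff]
    have hle : (S : Subgroup H) ⊔ Q₀ ≤ Subgroup.centralizer ({s} : Set H) := by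
      apply sup_le
      · intro t ht
        rw [Subgroup.mem_centralizer_singleton_iff]
        have h1 := hcon (t : N) ⟨t, ht, rfl⟩ (s : N) ⟨s, hs, rfl⟩
        exact Subtype.ext h1
      · intro q hq
        rw [Subgroup.mem_centralizer_singleton_iff]
        exact (hcomm s hs q hq).symm
    intro g
    have hg : g ∈ (S : Subgroup H) ⊔ Q₀ := by
      rw [hsup]
      exact Subgroup.mem_top g
    exact Subgroup.mem_centralizer_singleton_iff.mp (hle hg)
  · intro hQ
    rw [Subgroup.map_eq_bot_iff_of_injective _ H.subtype_injective] at hQ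
    rw [hQ, sup_bot_eq] at hsup
    obtain ⟨n, hn⟩ := IsPGroup.iff_card.mp S.isPGroup'
    apply hnp
    refine ⟨p, n, hp, ?_⟩
    have e1 : Nat.card (S : Subgroup H) = p ^ n := hn
    rw [← e1, hsup, Subgroup.card_top]

/-- A proper normal subgroup containing the centralizers of its non-identity elements is
nilpotent (by Thompson's theorem). -/
theorem frob_kernel_nilpotent {N : Type u} [Group N] [Finite N] (H : Subgroup N) [hHn : H.Normal]
    (hC : ∀ h ∈ H, h ≠ 1 → Subgroup.centralizer ({h} : Set N) ≤ H) (hH2 : H ≠ ⊤) :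
    Group.IsNilpotent H := by
  have hidx : Nat.card (N ⧸ H) ≠ 1 := by
    rw [← Subgroup.index_eq_card]
    exact fun h => hH2 (Subgroup.index_eq_one.mp h)
  obtain ⟨p, hp, hpd⟩ := Nat.exists_prime_and_dvd hidx
  have _hfact : Fact p.Prime := ⟨hp⟩
  obtain ⟨x, hx⟩ := exists_prime_orderOf_dvd_card' (G := N ⧸ H) p hpd
  obtain ⟨z, rfl⟩ := QuotientGroup.mk_surjective x
  have hzH : z ∉ H := by
    intro hz
    have h1 : (QuotientGroup.mk z : N ⧸ H) = 1 := (QuotientGroup.eq_one_iff z).mpr hz
    rw [h1, orderOf_one] at hx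
    exact hp.one_lt.ne hx
  have hzpH : z ^ p ∈ H := by
    rw [← QuotientGroup.eq_one_iff, QuotientGroup.mk_pow, ← hx]
    exact pow_orderOf_eq_one _
  have hzp : z ^ p = 1 := by
    by_contra hne
    apply hzH
    apply hC (z ^ p) hzpH hne
    rw [Subgroup.mem_centralizer_singleton_iff]
    exact (pow_succ' z p).symm.trans (pow_succ z p)
  refine Cfsg.Agent.S0033.thompson_pow (MulAut.conjNormal z : H ≃* H) ?_ p hp ?_
  · intro n hn
    by_contra hn1
    have hn' : z * n * z⁻¹ = n := congrArg Subtype.val hn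
    apply hzH
    apply hC n n.2 (fun h => hn1 (Subtype.ext h))
    rw [Subgroup.mem_centralizer_singleton_iff]
    calc z * n = z * n * z⁻¹ * z := by group
      _ = n * z := by rw [hn']
  · rw [← map_pow, hzp, map_one]

/-- `⁅K, K⁆ ⊔ M < K` for a proper `M < K` when `K` is solvable. -/
theorem commutator_sup_lt {Γ : Type*} [Group Γ] [Finite Γ] (K M : Subgroup Γ) [K.Normal]
    [M.Normal] (hsolv : Group.IsSolvable K) (hMK : M < K) : ⁅K, K⁆ ⊔ M < K := by
  have hN : M.subgroupOf K ≠ ⊤ := by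
    intro h
    rw [Subgroup.subgroupOf_eq_top] at h
    exact (not_le_of_gt hMK) h
  have _i0 : (M.subgroupOf K).Normal := inferInstance
  have _i1 : Nontrivial (K ⧸ M.subgroupOf K) := QuotientGroup.nontrivial_iff.mpr hN
  have hc := Group.IsSolvable.commutator_lt_top_of_nontrivial (K ⧸ M.subgroupOf K)
  have h1 : (commutator (K ⧸ M.subgroupOf K)).index ≠ 1 :=
    fun h => hc.ne (Subgroup.index_eq_one.mp h)
  rw [commutator_quotient_index K M hMK.le] at h1
  refine lt_of_le_of_ne (sup_le (Subgroup.commutator_le_self K) hMK.le) ?_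
  intro h
  apply h1
  rw [h]
  exact Subgroup.relIndex_self K

end Cfsg.Agent.Helper11
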