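import Mathlib
import Cfsg.Agent.Helper11.Coh9
import Cfsg.Agent.Helper11.Feit2
import Cfsg.Agent.Helper11.Feit3
import Cfsg.Agent.Helper17.LocChar
import Cfsg.Agent.S1514
import Cfsg.Agent.S0161

/-!
# Induction from the normaliser of a TI-subset

For a subgroup `N` of a finite group `G` and a set `A` with `g A g⁻¹ ∩ A ⊆ 1` for `g ∉ N`,
induction from `N` to `G` is an isometry on class functions of `N` vanishing off `A ∖ 1`
(`ti_classInner_indFun`), keeps their values on `A ∖ 1` (`ti_indFun_apply`), and hence gives a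
coherence system on the characters induced from a Frobenius kernel (`ti_frob_coherence_system`).
-/

set_option autoImplicit false

namespace Cfsg.Agent.Helper11

open Cfsg

section TI

variable {G : Type*} [Group G] [Fintype G]

/-- Induction from the normaliser `N` of a TI-set `A` keeps the values on `A ∖ 1`. -/
theorem ti_indFun_apply (N : Subgroup G) [Fintype N] (A : Set G)
    (hTI : ∀ g : G, g ∉ N → ∀ x ∈ A, g * x * g⁻¹ ∈ A → x = 1)
    (α : N → ℂ) (hα : IsClassFunction N α) (hαA : ∀ x : N, (x : G) ∉ A → α x = 0)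
    (y : N) (hy : (y : G) ∈ A) (hy1 : y ≠ 1) : indFun N α (y : G) = α y := by
  classical
  rw [Cfsg.Agent.Helper2.indFun_apply]
  have h1 : ∀ x : G, extendByZero N α (x⁻¹ * (y : G) * x) =
      extendByZero N (fun _ => α y) x := by
    intro x
    by_cases hx : x ∈ N
    · have h2 : x⁻¹ * (y : G) * x = (((⟨x, hx⟩ : N)⁻¹ * y * ((⟨x, hx⟩ : N)⁻¹)⁻¹ : N) : G) := by
        simp
      rw [h2, Cfsg.Agent.Helper2.extendByZero_coe, Cfsg.Agent.Helper2.extendByZero_of_mem N _ hx]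
      exact hα y (⟨x, hx⟩ : N)⁻¹
    · rw [Cfsg.Agent.Helper2.extendByZero_of_not_mem N _ hx]
      by_cases hm : x⁻¹ * (y : G) * x ∈ N
      · rw [Cfsg.Agent.Helper2.extendByZero_of_mem N _ hm]
        apply hαA
        intro hA
        have hx' : x⁻¹ ∉ N := fun h => hx (by simpa using N.inv_mem h)
        have h3 := hTI x⁻¹ hx' (y : G) hy (by simpa using hA)
        exact hy1 (Subtype.ext h3)
      · exact Cfsg.Agent.Helper2.extendByZero_of_not_mem N _ hm
  rw [Finset.sum_congr rfl (fun x _ => h1 x), Cfsg.Agent.Helper2.sum_extendByZero]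
  rw [Finset.sum_const, Finset.card_univ, nsmul_eq_mul, ← Nat.card_eq_fintype_card]
  have hN : (Nat.card N : ℂ) ≠ 0 := Cfsg.Agent.Helper2.natCard_ne_zero_complex N
  field_simp

/-- Induction from the normaliser `N` of a TI-set `A` is an isometry on class functions
vanishing off `A ∖ 1`. -/
theorem ti_classInner_indFun (N : Subgroup G) [Fintype N] (A : Set G)
    (hTI : ∀ g : G, g ∉ N → ∀ x ∈ A, g * x * g⁻¹ ∈ A → x = 1)
    (α β : N → ℂ) (hα1 : α 1 = 0) (hαA : ∀ x : N, (x : G) ∉ A → α x = 0)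
    (hβ : IsClassFunction N β) (hβA : ∀ x : N, (x : G) ∉ A → β x = 0) :
    classInner (indFun N α) (indFun N β) = classInner α β := by
  classical
  rw [Cfsg.Agent.Helper2.frobenius_reciprocity N α (indFun N β)
    (Cfsg.Agent.Helper2.indFun_isClassFunction N β)]
  unfold classInner
  congr 1
  apply Finset.sum_congr rfl
  intro x _
  by_cases hx : (x : G) ∈ A ∧ x ≠ 1
  · beta_reduce
    rw [ti_indFun_apply N A hTI β hβ hβA x hx.1 hx.2]
  · have h0 : α x = 0 := by
      by_cases hxA : (x : G) ∈ A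
      · have hx1 : x = 1 := by
          by_contra h
          exact hx ⟨hxA, h⟩
        rw [hx1, hα1]
      · exact hαA x hxA
    rw [h0, zero_mul, zero_mul]

end TI

section Span

theorem zspan_isGeneralizedCharacter {L : Type*} [Group L] {S : Set (L → ℂ)}
    (hS : ∀ χ ∈ S, IsGeneralizedCharacter L χ) {α : L → ℂ} (hα : α ∈ zspan S) :
    IsGeneralizedCharacter L α := by
  unfold zspan at hα
  rw [SetLike.mem_coe] at hα
  induction hα using Submodule.span_induction with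
  | mem x hx => exact hS x hx
  | zero =>
    obtain ⟨χ, ψ, hχ, hψ, -⟩ : ∃ χ ψ : L → ℂ, IsCharacter L χ ∧ IsCharacter L ψ ∧ True :=
      ⟨_, _, Cfsg.Agent.Helper25.isCharacter_of_irr (Cfsg.Agent.Helper25.trivChar L).2,
        Cfsg.Agent.Helper25.isCharacter_of_irr (Cfsg.Agent.Helper25.trivChar L).2, trivial⟩
    exact ⟨χ, χ, hχ, hχ, (sub_self χ).symm⟩
  | add x y _ _ hx hy => exact Cfsg.Agent.Helper7.isGeneralizedCharacter_add hx hy
  | smul n x _ hx => exact Cfsg.Agent.Helper7.isGeneralizedCharacter_zsmul n hx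

theorem zspan_vanish {L : Type*} {S : Set (L → ℂ)} (B : Set L)
    (hS : ∀ χ ∈ S, ∀ x, x ∉ B → χ x = 0) {α : L → ℂ} (hα : α ∈ zspan S) :
    ∀ x, x ∉ B → α x = 0 := by
  unfold zspan at hα
  rw [SetLike.mem_coe] at hα
  induction hα using Submodule.span_induction with
  | mem x hx => exact hS x hx
  | zero => intro x _; rfl
  | add x y _ _ hx hy =>
    intro z hz
    rw [Pi.add_apply, hx z hz, hy z hz, add_zero]
  | smul n x _ hx =>
    intro z hz
    rw [Pi.smul_apply, hx z hz, smul_zero]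

end Span

section Frob

variable {G : Type*} [Group G] [Fintype G]

/-- Induction from the normaliser `N` of a TI-subgroup `P` is a linear isometry on the integer
combinations, vanishing at `1`, of the characters of `N` induced from `P`. -/
theorem ti_isLinearIsometryOn (N : Subgroup G) [Fintype N] (P : Subgroup G)
    (hTI : ∀ g : G, g ∉ N → ∀ x ∈ P, g * x * g⁻¹ ∈ P → x = 1)
    [hK : (P.subgroupOf N).Normal] :
    IsLinearIsometryOn (zspanOn (inducedIrrAbove (P.subgroupOf N) ⊥) {1}ᶜ)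
        (fun α => indFun N α) ∧
      ∀ α ∈ zspanOn (inducedIrrAbove (P.subgroupOf N) ⊥) {1}ᶜ, indFun N α 1 = 0 := by
  classical
  have hgen : ∀ χ ∈ inducedIrrAbove (P.subgroupOf N) ⊥, IsGeneralizedCharacter N χ := by
    rintro χ ⟨θ, hθ, -, -, rfl⟩
    exact Cfsg.Agent.Helper7.isGeneralizedCharacter_of_isCharacter
      (Cfsg.Agent.Helper2.isCharacter_indFun _ (Cfsg.Agent.Helper25.isCharacter_of_irr hθ))
  have hvan : ∀ χ ∈ inducedIrrAbove (P.subgroupOf N) ⊥, ∀ x : N,
      x ∉ ((P.subgroupOf N : Subgroup N) : Set N) → χ x = 0 := by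
    rintro χ ⟨θ, hθ, -, -, rfl⟩ x hx
    exact Cfsg.Agent.Helper7.indFun_apply_of_not_mem_normal _ θ x hx
  have hcls : ∀ α ∈ zspanOn (inducedIrrAbove (P.subgroupOf N) ⊥) {1}ᶜ, IsClassFunction N α := by
    intro α hα
    obtain ⟨a, b, ha, hb, rfl⟩ := zspan_isGeneralizedCharacter hgen hα.1
    intro g h
    rw [Pi.sub_apply, Pi.sub_apply, Cfsg.Agent.Helper25.char_isClassFunction ha g h,
      Cfsg.Agent.Helper25.char_isClassFunction hb g h]
  have hoff : ∀ α ∈ zspanOn (inducedIrrAbove (P.subgroupOf N) ⊥) {1}ᶜ, ∀ x : N,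
      (x : G) ∉ ((P : Subgroup G) : Set G) → α x = 0 := by
    intro α hα x hx
    exact zspan_vanish _ hvan hα.1 x (fun h => hx (Subgroup.mem_subgroupOf.mp h))
  refine ⟨⟨?_, ?_, ?_, ?_⟩, ?_⟩
  · intro α _ β _
    exact Cfsg.Agent.Helper2.indFun_add N α β
  · intro α _ n
    show indFun N (n • α) = n • indFun N α
    rw [zsmul_fun_eq, zsmul_fun_eq, Cfsg.Agent.Helper2.indFun_smul]
  · intro α hα β hβ
    exact ti_classInner_indFun N ((P : Subgroup G) : Set G) hTI α β
      (zspanOn_compl_one_apply hα) (hoff α hα) (hcls β hβ) (hoff β hβ)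
  · intro α hα
    exact Cfsg.Agent.Helper2.isGeneralizedCharacter_indFun N
      (zspan_isGeneralizedCharacter hgen hα.1)
  · intro α hα
    rw [Cfsg.Agent.Helper2.indFun_one_apply, zspanOn_compl_one_apply hα, mul_zero]

/-- The coherence system attached to a TI Frobenius kernel `P` with normaliser `N` of odd
order. -/
theorem ti_frob_coherence_system (N : Subgroup G) [Fintype N] (P : Subgroup G)
    (hTI : ∀ g : G, g ∉ N → ∀ x ∈ P, g * x * g⁻¹ ∈ P → x = 1)
    [hK : (P.subgroupOf N).Normal]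
    (hC : ∀ h ∈ P.subgroupOf N, h ≠ 1 →
      Subgroup.centralizer ({h} : Set N) ≤ P.subgroupOf N)
    (hK1 : P.subgroupOf N ≠ ⊥) (hK2 : P.subgroupOf N ≠ ⊤) (hodd : Odd (Nat.card N)) :
    ∃ R : (N → ℂ) → Finset (G → ℂ),
      IsCoherenceSystem (inducedIrrAbove (P.subgroupOf N) ⊥) (fun α => indFun N α) R := by
  classical
  obtain ⟨hτ, hτ1⟩ := ti_isLinearIsometryOn N P hTI
  have hirr : ∀ χ ∈ inducedIrrAbove (P.subgroupOf N) ⊥, IsIrrCharacter N χ :=
    fun χ hχ => frob_irr_of_mem (P.subgroupOf N) hC hχ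
  apply Cfsg.Agent.S1514.result _ _ hirr _ _ hτ hτ1
  · obtain ⟨θ, a, -, hne⟩ := exists_irr_nontrivial_on (P.subgroupOf N) (P.subgroupOf N) hK1 le_rfl
    refine ⟨indFun (P.subgroupOf N) (θ : (P.subgroupOf N) → ℂ), (θ : (P.subgroupOf N) → ℂ), θ.2,
      ?_, ?_, rfl⟩
    · intro h
      apply hne
      rw [h]
    · intro b hb
      have h1 : b = 1 := Subtype.ext (Subgroup.mem_bot.mp hb)
      rw [h1]
  · intro χ hχ
    refine ⟨conj_mem_inducedIrrAbove (P.subgroupOf N) ⊥ hχ, ?_⟩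
    intro hconj
    have hreal : ∀ g : N, (χ g).im = 0 := by
      intro g
      have h1 := congrFun hconj g
      exact Complex.conj_eq_iff_im.mp h1
    have h1 := Cfsg.Agent.S0161.result hodd ⟨χ, hirr χ hχ⟩ hreal
    obtain ⟨x, hx⟩ : ∃ x : N, x ∉ P.subgroupOf N := by
      by_contra hcon
      push Not at hcon
      exact hK2 ((Subgroup.eq_top_iff' _).mpr hcon)
    have h2 : χ x = 0 := by
      obtain ⟨θ, -, -, -, rfl⟩ := hχ
      exact Cfsg.Agent.Helper7.indFun_apply_of_not_mem_normal (P.subgroupOf N) θ x hx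
    have h3 := congrFun h1 x
    simp only at h3
    rw [h2] at h3
    exact zero_ne_one h3

end Frob

section FrobQuot

/-- In a Frobenius group with kernel `K`, an element centralising some `k ∈ K ∖ M` modulo a
normal subgroup `M ≤ K` lies in `K`. -/
theorem frob_comm_quot {L : Type*} [Group L] [Finite L] (K : Subgroup L)
    (hC : ∀ h ∈ K, h ≠ 1 → Subgroup.centralizer ({h} : Set L) ≤ K) (M : Subgroup L)
    [hM : M.Normal] (hMK : M ≤ K) :
    ∀ k ∈ K, k ∉ M → ∀ x : L, x * k * x⁻¹ * k⁻¹ ∈ M → x ∈ K := by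
  intro k hk hkM x hx
  by_contra hxK
  have hinj : ∀ a ∈ K, ∀ b ∈ K, x * a * x⁻¹ * a⁻¹ = x * b * x⁻¹ * b⁻¹ → a = b := by
    intro a ha b hb hab
    by_contra hne
    have h1 : b⁻¹ * a ≠ 1 := fun h => hne (by rw [inv_mul_eq_one] at h; exact h.symm)
    have h3 : a * x⁻¹ * a⁻¹ = b * x⁻¹ * b⁻¹ := by
      have := congrArg (fun t => x⁻¹ * t) hab
      simpa [mul_assoc] using this
    have h4 : (b⁻¹ * a) * x⁻¹ = x⁻¹ * (b⁻¹ * a) := by
      calc (b⁻¹ * a) * x⁻¹ = b⁻¹ * (a * x⁻¹ * a⁻¹) * a := by group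
        _ = b⁻¹ * (b * x⁻¹ * b⁻¹) * a := by rw [h3]
        _ = x⁻¹ * (b⁻¹ * a) := by group
    have h5 : (b⁻¹ * a) * x = x * (b⁻¹ * a) := by
      calc (b⁻¹ * a) * x = x * (x⁻¹ * (b⁻¹ * a)) * x := by group
        _ = x * ((b⁻¹ * a) * x⁻¹) * x := by rw [h4]
        _ = x * (b⁻¹ * a) := by group
    have h2 : x ∈ Subgroup.centralizer ({b⁻¹ * a} : Set L) := by
      rw [Subgroup.mem_centralizer_iff]
      intro h hh
      rw [Set.mem_singleton_iff] at hh
      rw [hh]
      exact h5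
    exact hxK (hC _ (K.mul_mem (K.inv_mem hb) ha) h1 h2)
  have hfM : ∀ m : M, x * (m : L) * x⁻¹ * (m : L)⁻¹ ∈ M := fun m =>
    M.mul_mem (hM.conj_mem _ m.2 x) (M.inv_mem m.2)
  have hfinj : Function.Injective (fun m : M => (⟨x * (m : L) * x⁻¹ * (m : L)⁻¹, hfM m⟩ : M)) := by
    intro a b hab
    have h1 := congrArg Subtype.val hab
    exact Subtype.ext (hinj _ (hMK a.2) _ (hMK b.2) h1)
  obtain ⟨m, hm⟩ := Finite.surjective_of_injective hfinj ⟨x * k * x⁻¹ * k⁻¹, hx⟩
  have h1 := congrArg Subtype.val hm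
  have h2 := hinj _ (hMK m.2) _ hk h1
  exact hkM (h2 ▸ m.2)

/-- A group admitting a fixed-point-free involutory conjugation is abelian: if `t * t = 1`,
`t` normalises `P` and commutes with no non-identity element of `P`, then `P` is
commutative. -/
theorem comm_of_fpf_involution {G : Type*} [Group G] [Finite G] (P : Subgroup G) (t : G)
    (ht2 : t * t = 1) (hnorm : t ∈ Subgroup.normalizer (P : Set G))
    (hfpf : ∀ w ∈ P, t * w = w * t → w = 1) : ∀ a ∈ P, ∀ b ∈ P, a * b = b * a := by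
  have hinv := Cfsg.Agent.Helper17.inverts_of_fixedPointFree hnorm ht2 hfpf
  intro a ha b hb
  have h1 := hinv (a * b) (P.mul_mem ha hb)
  have h2 : t * (a * b) * t⁻¹ = (t * a * t⁻¹) * (t * b * t⁻¹) := by group
  rw [h2, hinv a ha, hinv b hb] at h1
  have h3 : (a⁻¹ * b⁻¹)⁻¹ = ((a * b)⁻¹)⁻¹ := by rw [h1]
  simpa using h3.symm

end FrobQuot

section Central

/-- Coherence of the irreducible characters of the normaliser `N` of a TI Frobenius kernel `P`
that are nontrivial on an `N`-invariant central subgroup `Z` of `P`, when `N` has odd order. -/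
theorem ti_frob_coherent_central {G : Type*} [Group G] [Fintype G] (N : Subgroup G) [Fintype N]
    (P : Subgroup G) (hPN : P ≤ N)
    (hTI : ∀ g : G, g ∉ N → ∀ x ∈ P, g * x * g⁻¹ ∈ P → x = 1)
    (hnorm : ∀ n ∈ N, ∀ x ∈ P, n * x * n⁻¹ ∈ P)
    (hC : ∀ k ∈ P, k ≠ 1 → Subgroup.centralizer ({k} : Set G) ≤ P)
    (hP1 : P ≠ ⊥) (hPN' : P ≠ N) (hodd : Odd (Nat.card N))
    (Z : Subgroup G) (hZ1 : Z ≠ ⊥) (hZP : ∀ z ∈ Z, z ∈ P ∧ ∀ y ∈ P, z * y = y * z)
    (hZn : ∀ x ∈ N, ∀ z ∈ Z, x * z * x⁻¹ ∈ Z) :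
    IsCoherent {χ : N → ℂ | IsIrrCharacter N χ ∧ ∃ z : N, (z : G) ∈ Z ∧ χ z ≠ χ 1} {1}ᶜ
      (fun α => indFun N α) := by
  classical
  have hKn : (P.subgroupOf N).Normal := ⟨fun k hk x => by
    rw [Subgroup.mem_subgroupOf] at hk ⊢
    simpa using hnorm x x.2 k hk⟩
  have hCL : ∀ h ∈ P.subgroupOf N, h ≠ 1 →
      Subgroup.centralizer ({h} : Set N) ≤ P.subgroupOf N := by
    intro h hh h1 x hx
    rw [Subgroup.mem_subgroupOf]
    apply hC (h : G) (Subgroup.mem_subgroupOf.mp hh) (fun h0 => h1 (Subtype.ext h0))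
    rw [Subgroup.mem_centralizer_iff] at hx ⊢
    intro y hy
    rw [Set.mem_singleton_iff] at hy
    rw [hy]
    have := hx h (Set.mem_singleton h)
    exact congrArg Subtype.val this
  have hK1 : P.subgroupOf N ≠ ⊥ := by
    intro h
    apply hP1
    rw [Subgroup.subgroupOf_eq_bot, disjoint_iff, inf_eq_left.mpr hPN] at h
    exact h
  have hK2 : P.subgroupOf N ≠ ⊤ := by
    intro h
    rw [Subgroup.subgroupOf_eq_top] at h
    exact hPN' (le_antisymm hPN h)
  have hnil : Group.IsNilpotent (P.subgroupOf N) := frob_kernel_nilpotent (P.subgroupOf N) hCL hK2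
  have hsolv : Group.IsSolvable (P.subgroupOf N) := by
    have _i := hnil
    infer_instance
  have hH'lt : ⁅P.subgroupOf N, P.subgroupOf N⁆ < P.subgroupOf N := by
    have := commutator_sup_lt (P.subgroupOf N) ⊥ hsolv (bot_lt_iff_ne_bot.mpr hK1)
    rwa [sup_bot_eq] at this
  have hfrob := frob_comm_quot (P.subgroupOf N) hCL ⁅P.subgroupOf N, P.subgroupOf N⁆ hH'lt.le
  have hZN : Z ≤ N := fun z hz => hPN (hZP z hz).1
  have hZ'n : (Z.subgroupOf N).Normal := ⟨fun z hz x => by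
    rw [Subgroup.mem_subgroupOf] at hz ⊢
    simpa using hZn x x.2 z hz⟩
  have hZ'1 : Z.subgroupOf N ≠ ⊥ := by
    intro h
    apply hZ1
    rw [Subgroup.subgroupOf_eq_bot, disjoint_iff, inf_eq_left.mpr hZN] at h
    exact h
  have hZ'K : Z.subgroupOf N ≤ P.subgroupOf N := fun z hz =>
    Subgroup.mem_subgroupOf.mpr (hZP z (Subgroup.mem_subgroupOf.mp hz)).1
  have hZc : ∀ z ∈ Z.subgroupOf N, ∀ k ∈ P.subgroupOf N, z * k = k * z := fun z hz k hk =>
    Subtype.ext ((hZP z (Subgroup.mem_subgroupOf.mp hz)).2 k (Subgroup.mem_subgroupOf.mp hk))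
  have hirr : ∀ χ ∈ inducedIrrAbove (P.subgroupOf N) ⊥ \
      inducedIrrAbove (P.subgroupOf N) (Z.subgroupOf N), IsIrrCharacter N χ :=
    fun χ hχ => frob_irr_of_mem (P.subgroupOf N) hCL hχ.1
  obtain ⟨R, hS⟩ := ti_frob_coherence_system N P hTI hCL hK1 hK2 hodd
  have hcoh := coherent_sdiff_central (P.subgroupOf N) hsolv _ R hS hodd hnil hH'lt hfrob
    (Z.subgroupOf N) hZ'1 hZ'K hZc hirr
  rw [sdiff_inducedIrrAbove_eq (P.subgroupOf N) (Z.subgroupOf N) hZ'K hirr] at hcoh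
  exact hcoh

end Central

end Cfsg.Agent.Helper11
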