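import Mathlib
import Cfsg.Agent.Helper11.TIInd
import Cfsg.Agent.Helper11.CentralTI
import Cfsg.Agent.S1529
import Cfsg.Agent.S1531

/-!
# Sibley's coherence argument (helper11), part 1: abstract lemmas

* `bessel4`: Bessel's inequality for an orthonormal family of four functions with integer
  coefficients, with the equality case.
* `swap_isometry`, `swap_agree`: for a conjugation-closed set of irreducible characters,
  `f ↦ -τ (conj f)` is again a linear isometry; on a set `{η, conj η}` it still extends the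
  original map on the combinations vanishing at `1`.
* `sibley_core`: the union of two coherent sets `X`, `Y` of irreducible characters of `N` is
  coherent for induction provided one inner product is divisible by `a = χ₀(1)/η₀(1)`.
-/

set_option autoImplicit false

namespace Cfsg.Agent.Helper11

open Cfsg

open Cfsg.Agent.Helper2 in
/-- Bessel's inequality for four orthonormal functions, with integer coefficients. -/
theorem bessel4 {G : Type*} [Group G] [Fintype G] (e0 e1 e2 e3 v : G → ℂ)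
    (h00 : classInner e0 e0 = 1) (h11 : classInner e1 e1 = 1) (h22 : classInner e2 e2 = 1)
    (h33 : classInner e3 e3 = 1) (h01 : classInner e0 e1 = 0) (h02 : classInner e0 e2 = 0)
    (h03 : classInner e0 e3 = 0) (h12 : classInner e1 e2 = 0) (h13 : classInner e1 e3 = 0)
    (h23 : classInner e2 e3 = 0) (m0 m1 m2 m3 : ℤ) (hm0 : classInner v e0 = (m0 : ℂ))
    (hm1 : classInner v e1 = (m1 : ℂ)) (hm2 : classInner v e2 = (m2 : ℂ))
    (hm3 : classInner v e3 = (m3 : ℂ)) (n : ℤ) (hn : classInner v v = (n : ℂ)) :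
    m0 ^ 2 + m1 ^ 2 + m2 ^ 2 + m3 ^ 2 ≤ n ∧
      (m0 ^ 2 + m1 ^ 2 + m2 ^ 2 + m3 ^ 2 = n →
        v = m0 • e0 + m1 • e1 + m2 • e2 + m3 • e3) := by
  have hsym : ∀ {f g : G → ℂ}, classInner f g = 0 → classInner g f = 0 := by
    intro f g h
    rw [classInner_conj_symm f g, h, map_zero]
  have h10 := hsym h01
  have h20 := hsym h02
  have h30 := hsym h03
  have h21 := hsym h12
  have h31 := hsym h13
  have h32 := hsym h23
  have hb := bessel_decomp (Finset.univ : Finset (Fin 4)) ![e0, e1, e2, e3]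
    (by
      intro i _ j _
      fin_cases i <;> fin_cases j <;>
        simp [h00, h11, h22, h33, h01, h02, h03, h12, h13, h23, h10, h20, h30, h21, h31, h32])
    v ![m0, m1, m2, m3]
    (by
      intro i _
      fin_cases i <;> simp [hm0, hm1, hm2, hm3])
  obtain ⟨-, hb2⟩ := hb
  have hsum : (∑ i : Fin 4, (![m0, m1, m2, m3] i) ^ 2 : ℤ) = m0 ^ 2 + m1 ^ 2 + m2 ^ 2 + m3 ^ 2 := by
    simp [Fin.sum_univ_four]
  have hsum2 : (∑ i : Fin 4, (![m0, m1, m2, m3] i) • (![e0, e1, e2, e3] i) : G → ℂ) =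
      m0 • e0 + m1 • e1 + m2 • e2 + m3 • e3 := by
    simp [Fin.sum_univ_four]
  rw [hsum, hsum2, hn] at hb2
  have hb3 : classInner (v - (m0 • e0 + m1 • e1 + m2 • e2 + m3 • e3))
      (v - (m0 • e0 + m1 • e1 + m2 • e2 + m3 • e3)) =
      ((n - (m0 ^ 2 + m1 ^ 2 + m2 ^ 2 + m3 ^ 2) : ℤ) : ℂ) := by
    rw [hb2]
    push_cast
    ring
  have hnn := classInner_self_int_nonneg hb3
  refine ⟨by linarith, ?_⟩
  intro heq
  rw [heq, sub_self, Int.cast_zero] at hb3
  have := (classInner_self_eq_zero_iff _).mp hb3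
  exact sub_eq_zero.mp this

section Lin

variable {L : Type*} [Group L] [Fintype L] {G : Type*} [Group G] [Fintype G]

theorem isLinIso_map_zsmul_sub {X : Set (L → ℂ)} {σ : (L → ℂ) → (G → ℂ)}
    (hσ : IsLinearIsometryOn (zspan X) σ) {f g : L → ℂ} (hf : f ∈ zspan X) (hg : g ∈ zspan X)
    (m n : ℤ) : σ (m • f - n • g) = m • σ f - n • σ g := by
  have h1 : m • f - n • g = m • f + (-n) • g := by rw [neg_smul, sub_eq_add_neg]
  have hmf : m • f ∈ zspan X := Submodule.smul_mem _ m hf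
  have hng : (-n) • g ∈ zspan X := Submodule.smul_mem _ (-n) hg
  rw [h1, hσ.1 _ hmf _ hng, hσ.2.1 f hf m, hσ.2.1 g hg (-n), neg_smul, sub_eq_add_neg]

theorem isLinIso_map_sub {X : Set (L → ℂ)} {σ : (L → ℂ) → (G → ℂ)}
    (hσ : IsLinearIsometryOn (zspan X) σ) {f g : L → ℂ} (hf : f ∈ zspan X) (hg : g ∈ zspan X) :
    σ (f - g) = σ f - σ g := by
  have h := isLinIso_map_zsmul_sub hσ hf hg 1 1
  rwa [one_smul, one_smul, one_smul, one_smul] at h

omit [Group L] [Fintype L] in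
theorem conjFun_mem_zspan {Y : Set (L → ℂ)} (hYc : ∀ η ∈ Y, conjFun η ∈ Y) {f : L → ℂ}
    (hf : f ∈ zspan Y) : conjFun f ∈ zspan Y := by
  unfold zspan at hf ⊢
  rw [SetLike.mem_coe] at hf ⊢
  induction hf using Submodule.span_induction with
  | mem x hx => exact Submodule.subset_span (hYc x hx)
  | zero =>
    have : conjFun (0 : L → ℂ) = 0 := by
      funext g
      simp [conjFun]
    rw [this]
    exact Submodule.zero_mem _
  | add x y _ _ hx hy =>
    have : conjFun (x + y) = conjFun x + conjFun y := by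
      funext g
      simp [conjFun]
    rw [this]
    exact Submodule.add_mem _ hx hy
  | smul n x _ hx =>
    have : conjFun (n • x) = n • conjFun x := by
      funext g
      simp [conjFun]
    rw [this]
    exact Submodule.smul_mem _ n hx

omit [Group L] [Fintype L] in
theorem conjFun_add (f g : L → ℂ) : conjFun (f + g) = conjFun f + conjFun g := by
  funext x
  simp [conjFun]

omit [Group L] [Fintype L] in
theorem conjFun_zsmul (n : ℤ) (f : L → ℂ) : conjFun (n • f) = n • conjFun f := by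
  funext x
  simp [conjFun]

/-- Composing a linear isometry on `ℤ[Y]` with complex conjugation and a sign. -/
theorem swap_isometry (Y : Set (L → ℂ)) (hirr : ∀ ξ ∈ Y, IsIrrCharacter L ξ)
    (hYc : ∀ η ∈ Y, conjFun η ∈ Y) (τ : (L → ℂ) → (G → ℂ))
    (hτ : IsLinearIsometryOn (zspan Y) τ) :
    IsLinearIsometryOn (zspan Y) (fun f => -τ (conjFun f)) := by
  have hgen : ∀ ξ ∈ Y, IsGeneralizedCharacter L ξ := fun ξ hξ =>
    Cfsg.Agent.Helper7.isGeneralizedCharacter_of_isCharacter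
      (Cfsg.Agent.Helper25.isCharacter_of_irr (hirr ξ hξ))
  refine ⟨?_, ?_, ?_, ?_⟩
  · intro f hf g hg
    show -τ (conjFun (f + g)) = -τ (conjFun f) + -τ (conjFun g)
    rw [conjFun_add, hτ.1 _ (conjFun_mem_zspan hYc hf) _ (conjFun_mem_zspan hYc hg), neg_add]
  · intro f hf n
    show -τ (conjFun (n • f)) = n • -τ (conjFun f)
    rw [conjFun_zsmul, hτ.2.1 _ (conjFun_mem_zspan hYc hf) n, smul_neg]
  · intro f hf g hg
    show classInner (-τ (conjFun f)) (-τ (conjFun g)) = classInner f g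
    rw [Cfsg.Agent.Helper2.classInner_neg_left, Cfsg.Agent.Helper2.classInner_neg_right, neg_neg,
      hτ.2.2.1 _ (conjFun_mem_zspan hYc hf) _ (conjFun_mem_zspan hYc hg),
      classInner_conjFun_conjFun]
    obtain ⟨k, hk⟩ := classInner_virtual_int (zspan_isGeneralizedCharacter hgen hf)
      (zspan_isGeneralizedCharacter hgen hg)
    rw [hk, map_intCast]
  · intro f hf
    exact Cfsg.Agent.Helper7.isGeneralizedCharacter_neg (hτ.2.2.2 _ (conjFun_mem_zspan hYc hf))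

/-- On a set inside `{η, conj η}`, the swapped isometry still agrees with the original map on
the combinations vanishing at `1`. -/
theorem swap_agree (Y : Set (L → ℂ)) (η₀ : L → ℂ) (hY : ∀ η ∈ Y, η = η₀ ∨ η = conjFun η₀)
    (hne0 : η₀ 1 ≠ 0) (hreal : conjFun η₀ 1 = η₀ 1) (τ τ₀ : (L → ℂ) → (G → ℂ))
    (hτ : IsLinearIsometryOn (zspan Y) τ) (hagree : ∀ θ ∈ zspanOn Y {1}ᶜ, τ θ = τ₀ θ) :
    ∀ θ ∈ zspanOn Y {1}ᶜ, -τ (conjFun θ) = τ₀ θ := by
  intro θ hθ
  have hsub : Y ⊆ ({η₀, conjFun η₀} : Set (L → ℂ)) := by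
    intro η hη
    rcases hY η hη with h | h
    · rw [h]; exact Set.mem_insert _ _
    · rw [h]; exact Set.mem_insert_of_mem _ rfl
  have h1 : θ ∈ Submodule.span ℤ ({η₀, conjFun η₀} : Set (L → ℂ)) := Submodule.span_mono hsub hθ.1
  obtain ⟨m, n, hmn⟩ := Submodule.mem_span_pair.mp h1
  have h2 : θ 1 = 0 := zspanOn_compl_one_apply hθ
  have h3 : (m : ℂ) + (n : ℂ) = 0 := by
    rw [← hmn] at h2
    rw [Pi.add_apply, Pi.smul_apply, Pi.smul_apply, zsmul_eq_mul, zsmul_eq_mul, hreal] at h2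
    have h4 : ((m : ℂ) + (n : ℂ)) * η₀ 1 = 0 := by linear_combination h2
    rcases mul_eq_zero.mp h4 with h | h
    · exact h
    · exact absurd h hne0
  have h4 : n = -m := by
    have : ((m + n : ℤ) : ℂ) = 0 := by push_cast; exact h3
    have h5 : m + n = 0 := by exact_mod_cast this
    omega
  have h5 : conjFun θ = (-1 : ℤ) • θ := by
    rw [← hmn, h4]
    funext x
    simp [conjFun]
    ring
  rw [h5, hτ.2.1 θ hθ.1 (-1), neg_smul, one_smul, neg_neg]
  exact hagree θ hθ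

end Lin

theorem generalized_isClassFunction {Γ : Type*} [Group Γ] {θ : Γ → ℂ}
    (h : IsGeneralizedCharacter Γ θ) : IsClassFunction Γ θ := by
  obtain ⟨A, B, hA, hB, rfl⟩ := h
  intro g x
  rw [Pi.sub_apply, Pi.sub_apply, Cfsg.Agent.Helper25.char_isClassFunction hA g x,
    Cfsg.Agent.Helper25.char_isClassFunction hB g x]

section Core

variable {G : Type*} [Group G] [Fintype G]

open Cfsg.Agent.Helper2 in
/-- The core of Sibley's argument: `X`, `Y` coherent sets of irreducible characters of `N`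
(for induction to `G`), `χ₀ ∈ X` of degree `a * e`, all of `Y` of degree `e`, and `a` dividing
the multiplicity of `χ₀` in the restriction of `τ (conj η₀)`.  Then `X ∪ Y` is coherent. -/
theorem sibley_core (N : Subgroup G) [Fintype N] (S X Y : Set (N → ℂ))
    (hirr : ∀ ξ ∈ S, IsIrrCharacter N ξ) (hXS : X ⊆ S) (hYS : Y ⊆ S) (hXY : Disjoint X Y)
    (hα : IsLinearIsometryOn (zspanOn S {1}ᶜ) (fun f : N → ℂ => indFun N f))
    (hα1 : ∀ θ ∈ zspanOn S {1}ᶜ, indFun N θ 1 = 0)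
    (hXc : ∀ χ ∈ X, conjFun χ ∈ X ∧ conjFun χ ≠ χ)
    (hYc : ∀ η ∈ Y, conjFun η ∈ Y ∧ conjFun η ≠ η)
    (σ τ : (N → ℂ) → (G → ℂ)) (hσ : IsLinearIsometryOn (zspan X) σ)
    (hσα : ∀ θ ∈ zspanOn X {1}ᶜ, σ θ = indFun N θ) (hτ : IsLinearIsometryOn (zspan Y) τ)
    (hτα : ∀ θ ∈ zspanOn Y {1}ᶜ, τ θ = indFun N θ)
    (χ₀ η₀ : N → ℂ) (hχ₀ : χ₀ ∈ X) (hη₀ : η₀ ∈ Y) (a e : ℕ) (ha : 0 < a) (he : 0 < e)
    (hχ₀d : χ₀ 1 = (a : ℂ) * (e : ℂ)) (hYdeg : ∀ η ∈ Y, η 1 = (e : ℂ))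
    (hdiv : ∃ k : ℤ, classInner χ₀ (fun h : N => τ (conjFun η₀) h) = (k : ℂ) * (a : ℂ)) :
    IsCoherent (X ∪ Y) {1}ᶜ (fun f : N → ℂ => indFun N f) := by
  classical
  obtain ⟨χ₁, hχ₁def⟩ : ∃ χ₁, χ₁ = conjFun χ₀ := ⟨_, rfl⟩
  obtain ⟨η₁, hη₁def⟩ : ∃ η₁, η₁ = conjFun η₀ := ⟨_, rfl⟩
  have hχ₁ : χ₁ ∈ X := hχ₁def ▸ (hXc χ₀ hχ₀).1
  have hχ₁ne : χ₁ ≠ χ₀ := hχ₁def ▸ (hXc χ₀ hχ₀).2
  have hη₁ : η₁ ∈ Y := hη₁def ▸ (hYc η₀ hη₀).1
  have hη₁ne : η₁ ≠ η₀ := hη₁def ▸ (hYc η₀ hη₀).2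
  have hX2 : ∃ a ∈ X, ∃ b ∈ X, a ≠ b := ⟨χ₁, hχ₁, χ₀, hχ₀, hχ₁ne⟩
  have hY2 : ∃ a ∈ Y, ∃ b ∈ Y, a ≠ b := ⟨η₁, hη₁, η₀, hη₀, hη₁ne⟩
  have hin : ∀ ξ ∈ S, ∀ ξ' ∈ S, classInner ξ ξ' = if ξ = ξ' then 1 else 0 :=
    fun ξ hξ ξ' hξ' => irr_inner_fun (hirr ξ hξ) (hirr ξ' hξ')
  have hdisj : ∀ χ ∈ X, ∀ η ∈ Y, χ ≠ η :=
    fun χ hχ η hη h => (Set.disjoint_left.mp hXY hχ) (h ▸ hη)
  have hmemX : ∀ χ ∈ X, χ ∈ zspan X := fun χ hχ => Submodule.subset_span hχ
  have hmemY : ∀ χ ∈ Y, χ ∈ zspan Y := fun χ hχ => Submodule.subset_span hχ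
  have hmemS : ∀ χ ∈ S, χ ∈ zspan S := fun χ hχ => Submodule.subset_span hχ
  have hη₀d : η₀ 1 = (e : ℂ) := hYdeg η₀ hη₀
  have hae0 : (a : ℂ) * (e : ℂ) ≠ 0 := by
    have : (0 : ℝ) < (a : ℝ) * (e : ℝ) := by positivity
    exact_mod_cast this.ne'
  have h1531 := fun (σ' τ' : (N → ℂ) → (G → ℂ)) (hσ' : IsLinearIsometryOn (zspan X) σ')
      (hσα' : ∀ θ ∈ zspanOn X {1}ᶜ, σ' θ = indFun N θ) (hτ' : IsLinearIsometryOn (zspan Y) τ')
      (hτα' : ∀ θ ∈ zspanOn Y {1}ᶜ, τ' θ = indFun N θ) =>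
    Cfsg.Agent.S1531.result N S X Y hirr hXS hYS hXY hX2 hY2 (fun f : N → ℂ => indFun N f) hα hα1
      σ' τ' hσ' hσα' hτ' hτα'
  have horth := (h1531 σ τ hσ hσα hτ hτα).1
  have horth' : ∀ χ ∈ X, ∀ η ∈ Y, classInner (τ η) (σ χ) = 0 := by
    intro χ hχ η hη
    rw [classInner_conj_symm (σ χ) (τ η), horth χ hχ η hη, map_zero]
  -- β and v
  obtain ⟨β, hβdef⟩ : ∃ β : N → ℂ, β = (a : ℤ) • η₀ - χ₀ := ⟨_, rfl⟩
  have hβS : β ∈ zspan S := by
    rw [hβdef]
    exact Submodule.sub_mem _ (Submodule.smul_mem _ _ (hmemS η₀ (hYS hη₀))) (hmemS χ₀ (hXS hχ₀))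
  have hβmem : β ∈ zspanOn S {1}ᶜ := by
    apply mem_zspanOn_compl_one hβS
    rw [hβdef, Pi.sub_apply, Pi.smul_apply, hχ₀d, hη₀d, zsmul_eq_mul]
    push_cast
    ring
  obtain ⟨v, hvdef⟩ : ∃ v : G → ℂ, v = indFun N β := ⟨_, rfl⟩
  have hvgen : IsGeneralizedCharacter G v := hvdef ▸ hα.2.2.2 β hβmem
  have hβin : ∀ ξ ∈ S, classInner β ξ =
      (a : ℂ) * (if η₀ = ξ then 1 else 0) - (if χ₀ = ξ then 1 else 0) := by
    intro ξ hξ
    rw [hβdef, classInner_sub_left, zsmul_fun_eq, classInner_smul_left, hin η₀ (hYS hη₀) ξ hξ,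
      hin χ₀ (hXS hχ₀) ξ hξ]
    push_cast
    rfl
  have hviso : ∀ θ ∈ zspanOn S {1}ᶜ, classInner v (indFun N θ) = classInner β θ := by
    intro θ hθ
    rw [hvdef]
    exact hα.2.2.1 β hβmem θ hθ
  have hnorm : classInner v v = ((a ^ 2 + 1 : ℤ) : ℂ) := by
    rw [hvdef]
    have h1 := hα.2.2.1 β hβmem β hβmem
    simp only at h1
    rw [h1]
    nth_rewrite 2 [hβdef]
    rw [classInner_sub_right, zsmul_fun_eq, classInner_smul_right, hβin η₀ (hYS hη₀),
      hβin χ₀ (hXS hχ₀), if_pos rfl, if_pos rfl, if_neg (hdisj χ₀ hχ₀ η₀ hη₀),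
      if_neg (fun h => hdisj χ₀ hχ₀ η₀ hη₀ h.symm)]
    simp
    ring
  -- coefficients along `τ(Y)`
  have hYcoef : ∀ η' ∈ Y, classInner v (τ η') =
      classInner v (τ η₁) + (a : ℂ) * (if η₀ = η' then 1 else 0) := by
    intro η' hη'
    have hθmem : η' - η₁ ∈ zspanOn Y {1}ᶜ := by
      apply mem_zspanOn_compl_one (Submodule.sub_mem _ (hmemY η' hη') (hmemY η₁ hη₁))
      rw [Pi.sub_apply, hYdeg η' hη', hYdeg η₁ hη₁, sub_self]
    have h1 : τ (η' - η₁) = τ η' - τ η₁ := isLinIso_map_sub hτ (hmemY η' hη') (hmemY η₁ hη₁)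
    have h2 := hviso (η' - η₁) (zspanOn_mono hYS _ hθmem)
    rw [← hτα _ hθmem, h1, classInner_sub_right, classInner_sub_right, hβin η' (hYS hη'),
      hβin η₁ (hYS hη₁), if_neg (show ¬ η₀ = η₁ from fun h => hη₁ne h.symm),
      if_neg (show ¬ χ₀ = η' from hdisj χ₀ hχ₀ η' hη'),
      if_neg (show ¬ χ₀ = η₁ from hdisj χ₀ hχ₀ η₁ hη₁)] at h2
    linear_combination h2
  -- coefficients along `σ(X)`
  have hXcoef : ∀ χ' ∈ X, (a : ℂ) * (e : ℂ) * classInner v (σ χ') =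
      (charDegree χ' : ℂ) * (classInner v (σ χ₀) + 1) -
        (a : ℂ) * (e : ℂ) * (if χ₀ = χ' then 1 else 0) := by
    intro χ' hχ'
    have hd' : χ' 1 = (charDegree χ' : ℂ) :=
      Cfsg.Agent.Helper25.irr_one_eq_degree (⟨χ', hirr χ' (hXS hχ')⟩ : IrrCharacter N)
    have hθmem : ((a * e : ℕ) : ℤ) • χ' - ((charDegree χ' : ℕ) : ℤ) • χ₀ ∈ zspanOn X {1}ᶜ := by
      apply mem_zspanOn_compl_one (Submodule.sub_mem _ (Submodule.smul_mem _ _ (hmemX χ' hχ'))
        (Submodule.smul_mem _ _ (hmemX χ₀ hχ₀)))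
      rw [Pi.sub_apply, Pi.smul_apply, Pi.smul_apply, hd', hχ₀d, zsmul_eq_mul, zsmul_eq_mul]
      push_cast
      ring
    have h1 := isLinIso_map_zsmul_sub hσ (hmemX χ' hχ') (hmemX χ₀ hχ₀) ((a * e : ℕ) : ℤ)
      ((charDegree χ' : ℕ) : ℤ)
    have h2 := hviso _ (zspanOn_mono hXS _ hθmem)
    rw [← hσα _ hθmem, h1, classInner_sub_right, classInner_sub_right, zsmul_fun_eq,
      zsmul_fun_eq, zsmul_fun_eq, zsmul_fun_eq, classInner_smul_right, classInner_smul_right,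
      classInner_smul_right, classInner_smul_right, hβin χ' (hXS hχ'), hβin χ₀ (hXS hχ₀),
      if_pos (rfl : χ₀ = χ₀), if_neg (show ¬ η₀ = χ' from fun h => hdisj χ' hχ' η₀ hη₀ h.symm),
      if_neg (show ¬ η₀ = χ₀ from fun h => hdisj χ₀ hχ₀ η₀ hη₀ h.symm)] at h2
    simp only [map_natCast, map_mul, Int.cast_natCast, Int.cast_mul, Nat.cast_mul] at h2
    linear_combination h2
  -- integrality
  obtain ⟨k, hk⟩ := hdiv
  rw [← hη₁def] at hk
  have hτcls : IsClassFunction G (τ η₁) := generalized_isClassFunction (hτ.2.2.2 η₁ (hmemY η₁ hη₁))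
  obtain ⟨q, hq⟩ : ∃ q : ℤ, classInner η₀ (fun h : N => τ η₁ h) = (q : ℂ) := by
    rw [← frobenius_reciprocity N η₀ (τ η₁) hτcls]
    exact classInner_virtual_int (Cfsg.Agent.Helper7.isGeneralizedCharacter_of_isCharacter
      (isCharacter_indFun N (Cfsg.Agent.Helper25.isCharacter_of_irr (hirr η₀ (hYS hη₀)))))
      (hτ.2.2.2 η₁ (hmemY η₁ hη₁))
  obtain ⟨s, hsdef⟩ : ∃ s : ℤ, s = q - k := ⟨_, rfl⟩
  have hx1 : classInner v (τ η₁) = (((a : ℤ) * s : ℤ) : ℂ) := by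
    rw [hvdef, frobenius_reciprocity N β (τ η₁) hτcls, hβdef, classInner_sub_left, zsmul_fun_eq,
      classInner_smul_left, hq, hk, hsdef]
    push_cast
    ring
  have hx0 : classInner v (τ η₀) = (((a : ℤ) * (s + 1) : ℤ) : ℂ) := by
    rw [hYcoef η₀ hη₀, if_pos rfl, hx1]
    push_cast
    ring
  obtain ⟨y₀, hy₀⟩ := classInner_virtual_int hvgen (hσ.2.2.2 χ₀ (hmemX χ₀ hχ₀))
  have hy1 : classInner v (σ χ₁) = ((y₀ + 1 : ℤ) : ℂ) := by
    have h1 := hXcoef χ₁ hχ₁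
    have hd1 : χ₁ 1 = (charDegree χ₁ : ℂ) :=
      Cfsg.Agent.Helper25.irr_one_eq_degree (⟨χ₁, hirr χ₁ (hXS hχ₁)⟩ : IrrCharacter N)
    have hχ₁d : χ₁ 1 = (a : ℂ) * (e : ℂ) := by
      rw [hχ₁def]
      show (starRingEnd ℂ) (χ₀ 1) = _
      rw [hχ₀d]
      simp
    rw [← hd1, hχ₁d, if_neg (fun h => hχ₁ne h.symm), hy₀, mul_zero, sub_zero] at h1
    have h2 := mul_left_cancel₀ hae0 h1
    rw [h2]
    push_cast
    ring
  -- orthonormality of the four vectors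
  have hinτ : ∀ η ∈ Y, ∀ η' ∈ Y, classInner (τ η) (τ η') = if η = η' then 1 else 0 := by
    intro η hη η' hη'
    rw [hτ.2.2.1 η (hmemY η hη) η' (hmemY η' hη'), hin η (hYS hη) η' (hYS hη')]
  have hinσ : ∀ χ ∈ X, ∀ χ' ∈ X, classInner (σ χ) (σ χ') = if χ = χ' then 1 else 0 := by
    intro χ hχ χ' hχ'
    rw [hσ.2.2.1 χ (hmemX χ hχ) χ' (hmemX χ' hχ'), hin χ (hXS hχ) χ' (hXS hχ')]
  have hb := bessel4 (τ η₀) (τ η₁) (σ χ₀) (σ χ₁) v
    (by rw [hinτ η₀ hη₀ η₀ hη₀, if_pos rfl]) (by rw [hinτ η₁ hη₁ η₁ hη₁, if_pos rfl])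
    (by rw [hinσ χ₀ hχ₀ χ₀ hχ₀, if_pos rfl]) (by rw [hinσ χ₁ hχ₁ χ₁ hχ₁, if_pos rfl])
    (by rw [hinτ η₀ hη₀ η₁ hη₁, if_neg (fun h => hη₁ne h.symm)])
    (horth' χ₀ hχ₀ η₀ hη₀) (horth' χ₁ hχ₁ η₀ hη₀) (horth' χ₀ hχ₀ η₁ hη₁) (horth' χ₁ hχ₁ η₁ hη₁)
    (by rw [hinσ χ₀ hχ₀ χ₁ hχ₁, if_neg (fun h => hχ₁ne h.symm)])
    ((a : ℤ) * (s + 1)) ((a : ℤ) * s) y₀ (y₀ + 1) hx0 hx1 hy₀ hy1 (a ^ 2 + 1) hnorm
  obtain ⟨hle, heqv⟩ := hb
  have ha1 : (1 : ℤ) ≤ (a : ℤ) := by exact_mod_cast ha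
  have hs0 : 0 ≤ s * (s + 1) := by
    rcases le_or_gt 0 s with h | h
    · exact mul_nonneg h (by linarith)
    · exact mul_nonneg_of_nonpos_of_nonpos (by linarith) (by omega)
  have hy0' : 0 ≤ y₀ * (y₀ + 1) := by
    rcases le_or_gt 0 y₀ with h | h
    · exact mul_nonneg h (by linarith)
    · exact mul_nonneg_of_nonpos_of_nonpos (by linarith) (by omega)
  have ha2 : (1 : ℤ) ≤ (a : ℤ) ^ 2 := by nlinarith
  have hAs : 0 ≤ (a : ℤ) ^ 2 * (s * (s + 1)) := mul_nonneg (by positivity) hs0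
  have hsum0 : (a : ℤ) ^ 2 * (s * (s + 1)) + y₀ * (y₀ + 1) ≤ 0 := by nlinarith
  have hs1 : s * (s + 1) = 0 := by
    have h1 : (a : ℤ) ^ 2 * (s * (s + 1)) = 0 := by linarith
    rcases mul_eq_zero.mp h1 with h | h
    · exfalso
      have : (a : ℤ) ^ 2 ≠ 0 := by positivity
      exact this h
    · exact h
  have hy1' : y₀ * (y₀ + 1) = 0 := by nlinarith
  have hveq : v = ((a : ℤ) * (s + 1)) • τ η₀ + ((a : ℤ) * s) • τ η₁ + y₀ • σ χ₀ +
      (y₀ + 1) • σ χ₁ := by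
    apply heqv
    linear_combination (2 * (a : ℤ) ^ 2) * hs1 + 2 * hy1'
  have hvτ : ∀ η' ∈ Y, η' ≠ η₀ → η' ≠ η₁ → classInner v (τ η') = 0 := by
    intro η' hη' h0 h1
    rw [hveq, classInner_add_left, classInner_add_left, classInner_add_left, zsmul_fun_eq,
      zsmul_fun_eq, zsmul_fun_eq, zsmul_fun_eq, classInner_smul_left, classInner_smul_left,
      classInner_smul_left, classInner_smul_left, hinτ η₀ hη₀ η' hη', hinτ η₁ hη₁ η' hη',
      horth χ₀ hχ₀ η' hη', horth χ₁ hχ₁ η' hη', if_neg (fun h => h0 h.symm),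
      if_neg (fun h => h1 h.symm)]
    simp
  have hvσ : ∀ χ' ∈ X, χ' ≠ χ₀ → χ' ≠ χ₁ → classInner v (σ χ') = 0 := by
    intro χ' hχ' h0 h1
    rw [hveq, classInner_add_left, classInner_add_left, classInner_add_left, zsmul_fun_eq,
      zsmul_fun_eq, zsmul_fun_eq, zsmul_fun_eq, classInner_smul_left, classInner_smul_left,
      classInner_smul_left, classInner_smul_left, hinσ χ₀ hχ₀ χ' hχ', hinσ χ₁ hχ₁ χ' hχ',
      horth' χ' hχ' η₀ hη₀, horth' χ' hχ' η₁ hη₁, if_neg (fun h => h0 h.symm),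
      if_neg (fun h => h1 h.symm)]
    simp
  have haC : (a : ℂ) ≠ 0 := Nat.cast_ne_zero.mpr ha.ne'
  have hT : ∃ τ' : (N → ℂ) → (G → ℂ), IsLinearIsometryOn (zspan Y) τ' ∧
      (∀ θ ∈ zspanOn Y {1}ᶜ, τ' θ = indFun N θ) ∧
      ((a : ℤ) * (s + 1)) • τ η₀ + ((a : ℤ) * s) • τ η₁ = (a : ℤ) • τ' η₀ := by
    rcases mul_eq_zero.mp hs1 with h | h
    · refine ⟨τ, hτ, hτα, ?_⟩
      rw [h]
      simp
    · have hs : s = -1 := by omega
      have hYsub : ∀ η' ∈ Y, η' = η₀ ∨ η' = conjFun η₀ := by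
        intro η' hη'
        by_contra hcon
        push Not at hcon
        have h1 := hvτ η' hη' hcon.1 (hη₁def ▸ hcon.2)
        rw [hYcoef η' hη', hx1, if_neg (fun h => hcon.1 h.symm), hs] at h1
        have : (a : ℂ) = 0 := by
          push_cast at h1
          linear_combination -h1
        exact haC this
      refine ⟨fun f => -τ (conjFun f),
        swap_isometry Y (fun ξ hξ => hirr ξ (hYS hξ)) (fun η hη => (hYc η hη).1) τ hτ,
        swap_agree Y η₀ hYsub ?_ ?_ τ (fun f => indFun N f) hτ hτα, ?_⟩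
      · rw [hη₀d]
        exact_mod_cast he.ne'
      · show (starRingEnd ℂ) (η₀ 1) = η₀ 1
        rw [hη₀d]
        simp
      · show _ = (a : ℤ) • -τ (conjFun η₀)
        rw [hs, ← hη₁def]
        simp
  have hSx : ∃ σ' : (N → ℂ) → (G → ℂ), IsLinearIsometryOn (zspan X) σ' ∧
      (∀ θ ∈ zspanOn X {1}ᶜ, σ' θ = indFun N θ) ∧
      y₀ • σ χ₀ + (y₀ + 1) • σ χ₁ = -σ' χ₀ := by
    rcases mul_eq_zero.mp hy1' with h | h
    · have hXsub : ∀ χ' ∈ X, χ' = χ₀ ∨ χ' = conjFun χ₀ := by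
        intro χ' hχ'
        by_contra hcon
        push Not at hcon
        have h1 := hXcoef χ' hχ'
        rw [hvσ χ' hχ' hcon.1 (hχ₁def ▸ hcon.2), hy₀, h, if_neg (fun h' => hcon.1 h'.symm)] at h1
        have hpos := Cfsg.Agent.Helper25.irr_degree_pos (⟨χ', hirr χ' (hXS hχ')⟩ : IrrCharacter N)
        have : (charDegree χ' : ℂ) = 0 := by
          push_cast at h1
          linear_combination -h1
        exact (Nat.cast_ne_zero.mpr hpos.ne') this
      refine ⟨fun f => -σ (conjFun f),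
        swap_isometry X (fun ξ hξ => hirr ξ (hXS hξ)) (fun χ hχ => (hXc χ hχ).1) σ hσ,
        swap_agree X χ₀ hXsub ?_ ?_ σ (fun f => indFun N f) hσ hσα, ?_⟩
      · rw [hχ₀d]
        exact hae0
      · show (starRingEnd ℂ) (χ₀ 1) = χ₀ 1
        rw [hχ₀d]
        simp
      · show _ = - -σ (conjFun χ₀)
        rw [h, ← hχ₁def]
        simp
    · have hy : y₀ = -1 := by omega
      refine ⟨σ, hσ, hσα, ?_⟩
      rw [hy]
      simp
  obtain ⟨τ', hτ', hτα', hTeq⟩ := hT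
  obtain ⟨σ', hσ', hσα', hSeq⟩ := hSx
  apply (h1531 σ' τ' hσ' hσα' hτ' hτα').2
  refine ⟨χ₀, hχ₀, η₀, hη₀, ?_⟩
  have h1 : χ₀ 1 • η₀ - η₀ 1 • χ₀ = (e : ℂ) • β := by
    rw [hβdef, hχ₀d, hη₀d, zsmul_fun_eq]
    funext x
    simp only [Pi.sub_apply, Pi.smul_apply, smul_eq_mul]
    push_cast
    ring
  have h2 : v = (a : ℤ) • τ' η₀ - σ' χ₀ := by
    rw [hveq, hTeq, add_assoc, hSeq, sub_eq_add_neg]
  rw [h1, indFun_smul, ← hvdef, h2, hχ₀d, hη₀d, zsmul_fun_eq]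
  funext g
  simp only [Pi.sub_apply, Pi.smul_apply, smul_eq_mul]
  push_cast
  ring

end Core

section Div

variable {G : Type*} [Group G] [Fintype G]

open Cfsg.Agent.Helper2 in
/-- The divisibility needed in `sibley_core`: if `ψ` is (up to sign) an irreducible character of
`G` orthogonal to the images of the characters of `N = N_G(P)` nontrivial on `Z`, then the
multiplicity of `χ₀` in the restriction of `ψ` to `N` is divisible by `χ₀(1) / |N : P|`. -/
theorem sibley_div (p : ℕ) [Fact p.Prime] (P : Sylow p G)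
    (hTI : IsTISubset ((P : Subgroup G) : Set G))
    [Fintype ↥(Subgroup.normalizer ((P : Subgroup G) : Set G))]
    (hodd : Odd (Nat.card (Subgroup.normalizer ((P : Subgroup G) : Set G))))
    (Z : Subgroup G) (hZ1 : Z ≠ ⊥)
    (hZP : ∀ z ∈ Z, z ∈ (P : Subgroup G) ∧ ∀ y ∈ (P : Subgroup G), z * y = y * z)
    (hZn : ∀ x ∈ Subgroup.normalizer ((P : Subgroup G) : Set G), ∀ z ∈ Z, x * z * x⁻¹ ∈ Z)
    (X : Set (↥(Subgroup.normalizer ((P : Subgroup G) : Set G)) → ℂ))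
    (hX : X = {χ | IsIrrCharacter ↥(Subgroup.normalizer ((P : Subgroup G) : Set G)) χ ∧
      ∃ z : ↥(Subgroup.normalizer ((P : Subgroup G) : Set G)), (z : G) ∈ Z ∧ χ z ≠ χ 1})
    (σ : (↥(Subgroup.normalizer ((P : Subgroup G) : Set G)) → ℂ) → (G → ℂ))
    (hσ : IsLinearIsometryOn (zspan X) σ)
    (hσα : ∀ θ ∈ zspanOn X {1}ᶜ,
      σ θ = indFun (Subgroup.normalizer ((P : Subgroup G) : Set G)) θ)
    (ψ : G → ℂ) (ε : ℂ) (hε : ε = 1 ∨ ε = -1) (hψ : IsIrrCharacter G (ε • ψ))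
    (horth : ∀ χ ∈ X, classInner (σ χ) ψ = 0)
    (χ₀ : ↥(Subgroup.normalizer ((P : Subgroup G) : Set G)) → ℂ) (hχ₀ : χ₀ ∈ X) (a : ℕ)
    (ha : 0 < a)
    (hdeg : χ₀ 1 = (a : ℂ) * (((P : Subgroup G).subgroupOf
      (Subgroup.normalizer ((P : Subgroup G) : Set G))).index : ℂ)) :
    ∃ k : ℤ, classInner χ₀
      (fun h : ↥(Subgroup.normalizer ((P : Subgroup G) : Set G)) => ψ h) = (k : ℂ) * (a : ℂ) := by
  classical
  have hε2 : ε * ε = 1 := by rcases hε with h | h <;> rw [h] <;> ring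
  have hεc : (starRingEnd ℂ) ε = ε := by rcases hε with h | h <;> rw [h] <;> simp
  have hε0 : ε ≠ 0 := by
    rintro rfl
    simp at hε2
  have hPN : (P : Subgroup G) ≤ Subgroup.normalizer ((P : Subgroup G) : Set G) :=
    Subgroup.le_normalizer
  have hψcls : IsClassFunction G ψ := by
    have h1 := Cfsg.Agent.Helper25.char_isClassFunction (Cfsg.Agent.Helper25.isCharacter_of_irr hψ)
    intro g x
    have h2 := h1 g x
    simp only [Pi.smul_apply, smul_eq_mul] at h2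
    exact mul_left_cancel₀ hε0 h2
  have hirrX : ∀ χ ∈ X, IsIrrCharacter ↥(Subgroup.normalizer ((P : Subgroup G) : Set G)) χ := by
    intro χ hχ
    rw [hX] at hχ
    exact hχ.1
  have hdX : ∀ χ ∈ X, χ 1 = (charDegree χ : ℂ) := fun χ hχ =>
    Cfsg.Agent.Helper25.irr_one_eq_degree
      (⟨χ, hirrX χ hχ⟩ : IrrCharacter ↥(Subgroup.normalizer ((P : Subgroup G) : Set G)))
  obtain ⟨res, hres⟩ : ∃ res : ↥(Subgroup.normalizer ((P : Subgroup G) : Set G)) → ℂ,
      res = fun h : ↥(Subgroup.normalizer ((P : Subgroup G) : Set G)) => ψ (h : G) := ⟨_, rfl⟩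
  have hrescls : IsClassFunction ↥(Subgroup.normalizer ((P : Subgroup G) : Set G)) res := by
    intro g x
    rw [hres]
    exact hψcls (g : G) (x : G)
  have hmemX : ∀ χ ∈ X, χ ∈ zspan X := fun χ hχ => Submodule.subset_span hχ
  have hstep1 : ∀ χ ∈ X, classInner χ res * χ₀ 1 = classInner χ₀ res * χ 1 := by
    intro χ hχ
    have hθmem : ((charDegree χ₀ : ℕ) : ℤ) • χ - ((charDegree χ : ℕ) : ℤ) • χ₀ ∈
        zspanOn X {1}ᶜ := by
      apply mem_zspanOn_compl_one (Submodule.sub_mem _ (Submodule.smul_mem _ _ (hmemX χ hχ))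
        (Submodule.smul_mem _ _ (hmemX χ₀ hχ₀)))
      rw [Pi.sub_apply, Pi.smul_apply, Pi.smul_apply, hdX χ hχ, hdX χ₀ hχ₀, zsmul_eq_mul,
        zsmul_eq_mul]
      push_cast
      ring
    have h1 := frobenius_reciprocity (Subgroup.normalizer ((P : Subgroup G) : Set G))
      (((charDegree χ₀ : ℕ) : ℤ) • χ - ((charDegree χ : ℕ) : ℤ) • χ₀) ψ hψcls
    rw [← hσα _ hθmem, isLinIso_map_zsmul_sub hσ (hmemX χ hχ) (hmemX χ₀ hχ₀), classInner_sub_left,
      zsmul_fun_eq, zsmul_fun_eq, classInner_smul_left, classInner_smul_left, horth χ hχ,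
      horth χ₀ hχ₀, mul_zero, mul_zero, sub_zero] at h1
    rw [classInner_sub_left, zsmul_fun_eq, zsmul_fun_eq, classInner_smul_left,
      classInner_smul_left, ← hres] at h1
    rw [hdX χ hχ, hdX χ₀ hχ₀]
    push_cast at h1
    linear_combination -h1
  have hexp := classFun_eq_sum_classInner hrescls
  have hval : ∀ z : ↥(Subgroup.normalizer ((P : Subgroup G) : Set G)), res 1 - res z =
      ∑ χ : IrrCharacter ↥(Subgroup.normalizer ((P : Subgroup G) : Set G)),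
        classInner res (χ : ↥(Subgroup.normalizer ((P : Subgroup G) : Set G)) → ℂ) *
          ((χ : ↥(Subgroup.normalizer ((P : Subgroup G) : Set G)) → ℂ) 1 -
            (χ : ↥(Subgroup.normalizer ((P : Subgroup G) : Set G)) → ℂ) z) := by
    intro z
    have h1 := congrFun hexp 1
    have hz := congrFun hexp z
    rw [Finset.sum_apply] at h1 hz
    simp only [Pi.smul_apply, smul_eq_mul] at h1 hz
    have h3 : ∑ χ : IrrCharacter ↥(Subgroup.normalizer ((P : Subgroup G) : Set G)),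
        classInner res (χ : ↥(Subgroup.normalizer ((P : Subgroup G) : Set G)) → ℂ) *
          ((χ : ↥(Subgroup.normalizer ((P : Subgroup G) : Set G)) → ℂ) 1 -
            (χ : ↥(Subgroup.normalizer ((P : Subgroup G) : Set G)) → ℂ) z) =
        (∑ χ : IrrCharacter ↥(Subgroup.normalizer ((P : Subgroup G) : Set G)),
          classInner res (χ : ↥(Subgroup.normalizer ((P : Subgroup G) : Set G)) → ℂ) *
            (χ : ↥(Subgroup.normalizer ((P : Subgroup G) : Set G)) → ℂ) 1) -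
        ∑ χ : IrrCharacter ↥(Subgroup.normalizer ((P : Subgroup G) : Set G)),
          classInner res (χ : ↥(Subgroup.normalizer ((P : Subgroup G) : Set G)) → ℂ) *
            (χ : ↥(Subgroup.normalizer ((P : Subgroup G) : Set G)) → ℂ) z := by
      rw [← Finset.sum_sub_distrib]
      exact Finset.sum_congr rfl (fun χ _ => mul_sub _ _ _)
    rw [h3, ← h1, ← hz]
  have hχ₀ne : χ₀ 1 ≠ 0 := by
    rw [hdeg]
    exact mul_ne_zero (Nat.cast_ne_zero.mpr ha.ne')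
      (Nat.cast_ne_zero.mpr Subgroup.index_ne_zero_of_finite)
  have hkey : ∀ z : ↥(Subgroup.normalizer ((P : Subgroup G) : Set G)), (z : G) ∈ Z → z ≠ 1 →
      res 1 - res z = (starRingEnd ℂ) (classInner χ₀ res) *
        (Nat.card ↥(Subgroup.normalizer ((P : Subgroup G) : Set G)) : ℂ) / χ₀ 1 := by
    intro z hz hz1
    rw [hval z]
    have hterm : ∀ χ : IrrCharacter ↥(Subgroup.normalizer ((P : Subgroup G) : Set G)),
        classInner res (χ : ↥(Subgroup.normalizer ((P : Subgroup G) : Set G)) → ℂ) *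
          ((χ : ↥(Subgroup.normalizer ((P : Subgroup G) : Set G)) → ℂ) 1 -
            (χ : ↥(Subgroup.normalizer ((P : Subgroup G) : Set G)) → ℂ) z) =
        ((starRingEnd ℂ) (classInner χ₀ res) / χ₀ 1) *
          ((χ : ↥(Subgroup.normalizer ((P : Subgroup G) : Set G)) → ℂ) 1 *
              (χ : ↥(Subgroup.normalizer ((P : Subgroup G) : Set G)) → ℂ) 1 -
            (χ : ↥(Subgroup.normalizer ((P : Subgroup G) : Set G)) → ℂ) 1 *
              (χ : ↥(Subgroup.normalizer ((P : Subgroup G) : Set G)) → ℂ) z) := by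
      intro χ
      by_cases hχX : (χ : ↥(Subgroup.normalizer ((P : Subgroup G) : Set G)) → ℂ) ∈ X
      · have h1 := hstep1 _ hχX
        have h2 : classInner res (χ : ↥(Subgroup.normalizer ((P : Subgroup G) : Set G)) → ℂ) =
            (starRingEnd ℂ)
              (classInner (χ : ↥(Subgroup.normalizer ((P : Subgroup G) : Set G)) → ℂ) res) :=
          classInner_conj_symm _ res
        have hc1 : (starRingEnd ℂ)
            ((χ : ↥(Subgroup.normalizer ((P : Subgroup G) : Set G)) → ℂ) 1) =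
            (χ : ↥(Subgroup.normalizer ((P : Subgroup G) : Set G)) → ℂ) 1 := by
          rw [hdX _ hχX, Complex.conj_natCast]
        have hc0 : (starRingEnd ℂ) (χ₀ 1) = χ₀ 1 := by
          rw [hdX _ hχ₀, Complex.conj_natCast]
        have h3 := congrArg (starRingEnd ℂ) h1
        rw [map_mul, map_mul, hc1, hc0] at h3
        have hA : (starRingEnd ℂ)
            (classInner (χ : ↥(Subgroup.normalizer ((P : Subgroup G) : Set G)) → ℂ) res) =
            (starRingEnd ℂ) (classInner χ₀ res) *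
              (χ : ↥(Subgroup.normalizer ((P : Subgroup G) : Set G)) → ℂ) 1 / χ₀ 1 := by
          rw [eq_div_iff hχ₀ne]
          exact h3
        rw [h2, hA]
        ring
      · have hz' : (χ : ↥(Subgroup.normalizer ((P : Subgroup G) : Set G)) → ℂ) z =
            (χ : ↥(Subgroup.normalizer ((P : Subgroup G) : Set G)) → ℂ) 1 := by
          by_contra hne
          apply hχX
          rw [hX]
          exact ⟨χ.2, z, hz, hne⟩
        rw [hz']
        ring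
    rw [Finset.sum_congr rfl (fun χ _ => hterm χ), ← Finset.mul_sum, Finset.sum_sub_distrib]
    have hs1 := sum_irr_le_ker (⊥ : Subgroup ↥(Subgroup.normalizer ((P : Subgroup G) : Set G))) 1
    have hsz := sum_irr_le_ker (⊥ : Subgroup ↥(Subgroup.normalizer ((P : Subgroup G) : Set G))) z
    simp only [bot_le, if_true] at hs1 hsz
    rw [hs1, hsz, if_pos (Subgroup.one_mem _), if_neg (fun h => hz1 (Subgroup.mem_bot.mp h)),
      Subgroup.index_bot, sub_zero]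
    ring
  obtain ⟨z₀, hz₀Z, hz₀1⟩ : ∃ z ∈ Z, z ≠ 1 := by
    by_contra hcon
    push Not at hcon
    exact hZ1 ((Subgroup.eq_bot_iff_forall _).mpr hcon)
  have hZN : ∀ z ∈ Z, z ∈ Subgroup.normalizer ((P : Subgroup G) : Set G) :=
    fun z hz => hPN (hZP z hz).1
  have hdiff : ∀ z ∈ Z, z ≠ 1 → ψ 1 - ψ z = (starRingEnd ℂ) (classInner χ₀ res) *
      (Nat.card ↥(Subgroup.normalizer ((P : Subgroup G) : Set G)) : ℂ) / χ₀ 1 := by
    intro z hz hz1
    have h := hkey ⟨z, hZN z hz⟩ hz (fun h => hz1 (congrArg Subtype.val h))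
    have h1 : res 1 = ψ 1 := by rw [hres]; rfl
    have h2 : res ⟨z, hZN z hz⟩ = ψ z := by rw [hres]
    rw [h1, h2] at h
    exact h
  have hconst : ∀ z ∈ Z, ∀ z' ∈ Z, z ≠ 1 → z' ≠ 1 → (ε • ψ) z = (ε • ψ) z' := by
    intro z hz z' hz' h1 h1'
    have e1 := hdiff z hz h1
    have e2 := hdiff z' hz' h1'
    have : ψ z = ψ z' := by linear_combination e2 - e1
    rw [Pi.smul_apply, Pi.smul_apply, this]
  obtain ⟨n, d, hn, hd, hdvd⟩ := central_ti_congruence p P hTI hodd Z hZ1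
    (fun z hz => (hZP z hz).1) hZn (fun z hz => (hZP z hz).2) (ε • ψ) hψ hconst z₀ hz₀Z hz₀1
  obtain ⟨k, hk⟩ := hdvd
  have e1 := hdiff z₀ hz₀Z hz₀1
  have h5 : ε * (ψ 1 - ψ z₀) = (Nat.card (P : Subgroup G) : ℂ) * (k : ℂ) := by
    have h0 : ((d - n : ℤ) : ℂ) = ((Nat.card (P : Subgroup G) : ℤ) : ℂ) * (k : ℂ) := by
      rw [hk]
      push_cast
      ring
    rw [Pi.smul_apply, smul_eq_mul] at hn hd
    push_cast at h0
    linear_combination hd - hn + h0
  have hcard : (Nat.card ↥(Subgroup.normalizer ((P : Subgroup G) : Set G)) : ℂ) =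
      (((P : Subgroup G).subgroupOf (Subgroup.normalizer ((P : Subgroup G) : Set G))).index : ℂ) *
        (Nat.card (P : Subgroup G) : ℂ) := by
    have h1 := Subgroup.index_mul_card
      ((P : Subgroup G).subgroupOf (Subgroup.normalizer ((P : Subgroup G) : Set G)))
    have h2 : Nat.card ((P : Subgroup G).subgroupOf
        (Subgroup.normalizer ((P : Subgroup G) : Set G))) = Nat.card (P : Subgroup G) :=
      Nat.card_congr (Subgroup.subgroupOfEquivOfLe hPN).toEquiv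
    rw [h2] at h1
    exact_mod_cast h1.symm
  have hP0 : (Nat.card (P : Subgroup G) : ℂ) ≠ 0 := Nat.cast_ne_zero.mpr Nat.card_pos.ne'
  have hidx0 : (((P : Subgroup G).subgroupOf
      (Subgroup.normalizer ((P : Subgroup G) : Set G))).index : ℂ) ≠ 0 :=
    Nat.cast_ne_zero.mpr Subgroup.index_ne_zero_of_finite
  have haC : (a : ℂ) ≠ 0 := Nat.cast_ne_zero.mpr ha.ne'
  rw [hres] at e1
  rw [e1, hcard, hdeg] at h5
  obtain ⟨R, hR⟩ : ∃ R : ℂ, R = (starRingEnd ℂ) (classInner χ₀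
      (fun h : ↥(Subgroup.normalizer ((P : Subgroup G) : Set G)) => ψ h)) := ⟨_, rfl⟩
  rw [← hR] at h5
  obtain ⟨idx, hidx⟩ : ∃ idx : ℂ, idx = (((P : Subgroup G).subgroupOf
      (Subgroup.normalizer ((P : Subgroup G) : Set G))).index : ℂ) := ⟨_, rfl⟩
  obtain ⟨cP, hcP⟩ : ∃ cP : ℂ, cP = (Nat.card (P : Subgroup G) : ℂ) := ⟨_, rfl⟩
  rw [← hidx, ← hcP] at h5
  rw [← hidx] at hidx0
  rw [← hcP] at hP0
  have h7 : ε * R = (k : ℂ) * (a : ℂ) := by
    have h5' : ε * (R * (idx * cP) / ((a : ℂ) * idx)) * ((a : ℂ) * idx) =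
        cP * (k : ℂ) * ((a : ℂ) * idx) := by rw [h5]
    have h5'' : ε * (R * (idx * cP) / ((a : ℂ) * idx)) * ((a : ℂ) * idx) = ε * R * (idx * cP) := by
      field_simp
    apply mul_left_cancel₀ (mul_ne_zero hidx0 hP0)
    linear_combination h5''.symm.trans h5'
  have h6 : R = ε * (k : ℂ) * (a : ℂ) := by
    calc R = (ε * ε) * R := by rw [hε2, one_mul]
      _ = ε * (ε * R) := by ring
      _ = ε * ((k : ℂ) * (a : ℂ)) := by rw [h7]
      _ = ε * (k : ℂ) * (a : ℂ) := by ring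
  have h8 := congrArg (starRingEnd ℂ) h6
  rw [hR, Complex.conj_conj, map_mul, map_mul, hεc, map_intCast, map_natCast] at h8
  refine ⟨if ε = 1 then k else -k, ?_⟩
  rw [h8]
  rcases hε with h | h
  · rw [if_pos h, h]
    ring
  · rw [if_neg (by rw [h]; norm_num), h]
    push_cast
    ring

end Div

end Cfsg.Agent.Helper11
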