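import Mathlib
import Cfsg.Agent.Helper11.Sibley1

/-!
# Sibley's coherence theorem, odd non-abelian case (helper11)

`sibley_odd`: if `P` is a non-abelian TI Sylow `p`-subgroup of `G` whose normaliser `N` has odd
order, `P < N`, and `C_G(x) ≤ P` for `1 ≠ x ∈ P`, then the set of characters of `N` induced from
the non-principal irreducible characters of `P` is coherent for induction from `N` to `G`.
-/

set_option autoImplicit false

namespace Cfsg.Agent.Helper11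

open Cfsg

theorem sibley_arith (E mm z t s1 : ℕ) (hE2 : 2 ≤ E) (hmpos : 1 ≤ mm) (hz2 : 2 ≤ z)
    (htpos : 0 < t) (hdm : E ∣ mm - 1) (hdc : E ∣ z * mm - 1)
    (hsq : (E * t) ^ 2 ≤ E * (mm - 1)) (hsd : s1 + E * (mm - 1) = E * (z * mm - 1)) :
    2 * E * (E * t) < s1 := by
  have hEz : E ∣ z - 1 := by
    have h1 : z * mm - 1 = z * (mm - 1) + (z - 1) := by
      obtain ⟨m', rfl⟩ : ∃ m', mm = m' + 1 := ⟨mm - 1, by omega⟩
      obtain ⟨z', rfl⟩ : ∃ z', z = z' + 1 := ⟨z - 1, by omega⟩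
      simp only [Nat.add_sub_cancel]
      have h2 : (z' + 1) * (m' + 1) = (z' + 1) * m' + z' + 1 := by ring
      rw [h2]
      omega
    rw [h1] at hdc
    exact (Nat.dvd_add_right (Dvd.dvd.mul_left hdm z)).mp hdc
  have hzE : E + 1 ≤ z := by
    have := Nat.le_of_dvd (by omega) hEz
    omega
  have hEt : E * t ^ 2 ≤ mm - 1 := by
    have h1 : E * (E * t ^ 2) ≤ E * (mm - 1) := by
      calc E * (E * t ^ 2) = (E * t) ^ 2 := by ring
        _ ≤ E * (mm - 1) := hsq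
    exact Nat.le_of_mul_le_mul_left h1 (by omega)
  have hD : E * t + 1 ≤ mm := by
    have h1 : E * t ≤ E * t ^ 2 := Nat.mul_le_mul_left _ (by nlinarith)
    omega
  have hbig : E * (E * mm) + E * (mm - 1) ≤ E * (z * mm - 1) := by
    have h1 : (E + 1) * mm ≤ z * mm := Nat.mul_le_mul_right _ hzE
    have h2 : (E + 1) * mm = E * mm + mm := by ring
    have h3 : E * mm + (mm - 1) ≤ z * mm - 1 := by omega
    calc E * (E * mm) + E * (mm - 1) = E * (E * mm + (mm - 1)) := by ring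
      _ ≤ E * (z * mm - 1) := Nat.mul_le_mul_left _ h3
  have hsmE : E * (E * mm) ≤ s1 := by omega
  have h2 : 2 * E * (E * t + 1) ≤ E * (E * mm) := by
    calc 2 * E * (E * t + 1) ≤ 2 * E * mm := Nat.mul_le_mul_left _ hD
      _ = E * (2 * mm) := by ring
      _ ≤ E * (E * mm) := Nat.mul_le_mul_left _ (Nat.mul_le_mul_right _ hE2)
  nlinarith

section SibleyOdd

variable {G : Type*} [Group G] [Fintype G]

theorem sibley_odd (p : ℕ) [Fact p.Prime] (P : Sylow p G)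
    (hTI : IsTISubset ((P : Subgroup G) : Set G))
    [Fintype ↥(Subgroup.normalizer ((P : Subgroup G) : Set G))]
    (hodd : Odd (Nat.card (Subgroup.normalizer ((P : Subgroup G) : Set G))))
    (hna : ¬ IsMulCommutative (P : Subgroup G))
    (hlt : (P : Subgroup G) < Subgroup.normalizer ((P : Subgroup G) : Set G))
    (hC : ∀ k ∈ (P : Subgroup G), k ≠ 1 →
      Subgroup.centralizer ({k} : Set G) ≤ (P : Subgroup G)) :
    IsCoherent (inducedIrrAbove ((P : Subgroup G).subgroupOf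
        (Subgroup.normalizer ((P : Subgroup G) : Set G))) ⊥) {1}ᶜ
      (fun α => indFun (Subgroup.normalizer ((P : Subgroup G) : Set G)) α) := by
  classical
  have hPN : (P : Subgroup G) ≤ Subgroup.normalizer ((P : Subgroup G) : Set G) :=
    Subgroup.le_normalizer
  have hnorm : ∀ n ∈ Subgroup.normalizer ((P : Subgroup G) : Set G), ∀ x ∈ (P : Subgroup G),
      n * x * n⁻¹ ∈ (P : Subgroup G) :=
    fun n hn x hx => (Subgroup.mem_normalizer_iff.mp hn x).mp hx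
  have hP1 : (P : Subgroup G) ≠ ⊥ := by
    intro h
    apply hna
    refine ⟨⟨fun a b => ?_⟩⟩
    have hall : ∀ x ∈ (P : Subgroup G), x = 1 := fun x hx => by
      rw [h, Subgroup.mem_bot] at hx
      exact hx
    have ha : a = 1 := Subtype.ext (hall _ a.2)
    have hb : b = 1 := Subtype.ext (hall _ b.2)
    rw [ha, hb]
  have _hKn' : ((P : Subgroup G).subgroupOf
      (Subgroup.normalizer ((P : Subgroup G) : Set G))).Normal := ⟨fun k hk x => by
    rw [Subgroup.mem_subgroupOf] at hk ⊢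
    simpa using hnorm x x.2 k hk⟩
  obtain ⟨hα, hα1⟩ := ti_isLinearIsometryOn (Subgroup.normalizer ((P : Subgroup G) : Set G))
    (P : Subgroup G) hTI
  have hCL' : ∀ h ∈ (P : Subgroup G).subgroupOf (Subgroup.normalizer ((P : Subgroup G) : Set G)),
      h ≠ 1 → Subgroup.centralizer ({h} : Set ↥(Subgroup.normalizer ((P : Subgroup G) : Set G))) ≤
        (P : Subgroup G).subgroupOf (Subgroup.normalizer ((P : Subgroup G) : Set G)) := by
    intro h hh h1 x hx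
    rw [Subgroup.mem_subgroupOf]
    apply hC (h : G) (Subgroup.mem_subgroupOf.mp hh) (fun h0 => h1 (Subtype.ext h0))
    rw [Subgroup.mem_centralizer_iff] at hx ⊢
    intro y hy
    rw [Set.mem_singleton_iff] at hy
    rw [hy]
    have := hx h (Set.mem_singleton h)
    exact congrArg Subtype.val this
  have hK1' : (P : Subgroup G).subgroupOf (Subgroup.normalizer ((P : Subgroup G) : Set G)) ≠ ⊥ := by
    intro h
    apply hP1
    rw [Subgroup.subgroupOf_eq_bot, disjoint_iff, inf_eq_left.mpr hPN] at h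
    exact h
  have hK2' : (P : Subgroup G).subgroupOf (Subgroup.normalizer ((P : Subgroup G) : Set G)) ≠ ⊤ := by
    intro h
    rw [Subgroup.subgroupOf_eq_top] at h
    exact hlt.ne (le_antisymm hPN h)
  obtain ⟨R, hS⟩ := ti_frob_coherence_system (Subgroup.normalizer ((P : Subgroup G) : Set G))
    (P : Subgroup G) hTI hCL' hK1' hK2' hodd
  obtain ⟨K, hKdef⟩ : ∃ K : Subgroup ↥(Subgroup.normalizer ((P : Subgroup G) : Set G)),
      K = (P : Subgroup G).subgroupOf (Subgroup.normalizer ((P : Subgroup G) : Set G)) := ⟨_, rfl⟩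
  rw [← hKdef] at hα hα1 hS hCL' hK1' hK2' ⊢
  have hKn : K.Normal := hKdef ▸ _hKn'
  have hKmem : ∀ x : ↥(Subgroup.normalizer ((P : Subgroup G) : Set G)),
      x ∈ K ↔ (x : G) ∈ (P : Subgroup G) := by
    intro x
    rw [hKdef]
    exact Subgroup.mem_subgroupOf
  have hnil : Group.IsNilpotent K := frob_kernel_nilpotent K hCL' hK2'
  have hsolv : Group.IsSolvable K := by
    have _i := hnil
    infer_instance
  have hH'lt : ⁅K, K⁆ < K := by
    have := commutator_sup_lt K ⊥ hsolv (bot_lt_iff_ne_bot.mpr hK1')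
    rwa [sup_bot_eq] at this
  have hKna : ⁅K, K⁆ ≠ ⊥ := by
    intro h
    apply hna
    have hcen := Subgroup.commutator_eq_bot_iff_le_centralizer.mp h
    refine ⟨⟨fun a b => ?_⟩⟩
    have ha' : (⟨(a : G), hPN a.2⟩ : ↥(Subgroup.normalizer ((P : Subgroup G) : Set G))) ∈ K :=
      (hKmem _).mpr a.2
    have hb' : (⟨(b : G), hPN b.2⟩ : ↥(Subgroup.normalizer ((P : Subgroup G) : Set G))) ∈ K :=
      (hKmem _).mpr b.2
    have h1 := Subgroup.mem_centralizer_iff.mp (hcen hb') _ ha'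
    apply Subtype.ext
    have h2 : (a : G) * (b : G) = (b : G) * (a : G) := congrArg Subtype.val h1
    exact h2
  -- the central subgroup `Z₀ ≤ ⁅K, K⁆`
  have hex : ∃ n, commChain K ⁅K, K⁆ n = ⊥ := commChain_eq_bot K ⁅K, K⁆ hnil hH'lt.le
  obtain ⟨m, hm⟩ : ∃ m, Nat.find hex = m + 1 := by
    cases h : Nat.find hex with
    | zero =>
      exfalso
      have := Nat.find_spec hex
      rw [h, commChain_zero] at this
      exact hKna this
    | succ m => exact ⟨m, rfl⟩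
  obtain ⟨Z₀, hZ₀def⟩ : ∃ Z₀, Z₀ = commChain K ⁅K, K⁆ m := ⟨_, rfl⟩
  have hZ₀ne : Z₀ ≠ ⊥ := by
    rw [hZ₀def]
    exact Nat.find_min hex (by omega)
  have hZ₀n : Z₀.Normal := hZ₀def ▸ commChain_normal K ⁅K, K⁆ m
  have hZ₀le : Z₀ ≤ ⁅K, K⁆ := hZ₀def ▸ commChain_le_zero K ⁅K, K⁆ m
  have hZ₀K : Z₀ ≤ K := hZ₀le.trans hH'lt.le
  have hZ₀c : ⁅Z₀, K⁆ = ⊥ := by
    have := Nat.find_spec hex
    rw [hm, commChain_succ, ← hZ₀def] at this
    exact this
  have hZ₀comm : ∀ z ∈ Z₀, ∀ k ∈ K, z * k = k * z := by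
    intro z hz k hk
    have h1 := Subgroup.commutator_mem_commutator hz hk
    rw [hZ₀c, Subgroup.mem_bot, commutatorElement_def] at h1
    calc z * k = (z * k * z⁻¹ * k⁻¹) * k * z := by group
      _ = k * z := by rw [h1, one_mul]
  -- its image `Z` in `G`
  obtain ⟨Z, hZdef⟩ : ∃ Z : Subgroup G,
      Z = Z₀.map (Subgroup.subtype (Subgroup.normalizer ((P : Subgroup G) : Set G))) := ⟨_, rfl⟩
  have hZcoe : ∀ z : ↥(Subgroup.normalizer ((P : Subgroup G) : Set G)),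
      (z : G) ∈ Z ↔ z ∈ Z₀ := by
    intro z
    rw [hZdef, Subgroup.mem_map]
    constructor
    · rintro ⟨x, hx, hxz⟩
      have : x = z := Subtype.ext hxz
      rw [← this]
      exact hx
    · intro hz
      exact ⟨z, hz, rfl⟩
  have hZmem : ∀ g : G, g ∈ Z → ∃ x ∈ Z₀, (x : G) = g := by
    intro g hg
    rw [hZdef, Subgroup.mem_map] at hg
    exact hg
  have hZ1 : Z ≠ ⊥ := by
    intro h
    apply hZ₀ne
    rw [Subgroup.eq_bot_iff_forall]
    intro x hx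
    have h1 : (x : G) ∈ Z := (hZcoe x).mpr hx
    rw [h, Subgroup.mem_bot] at h1
    exact Subtype.ext h1
  have hZP : ∀ z ∈ Z, z ∈ (P : Subgroup G) ∧ ∀ y ∈ (P : Subgroup G), z * y = y * z := by
    intro z hz
    obtain ⟨x, hx, rfl⟩ := hZmem z hz
    refine ⟨(hKmem x).mp (hZ₀K hx), fun y hy => ?_⟩
    have := hZ₀comm x hx ⟨y, hPN hy⟩ ((hKmem _).mpr hy)
    exact congrArg Subtype.val this
  have hZn : ∀ x ∈ Subgroup.normalizer ((P : Subgroup G) : Set G), ∀ z ∈ Z, x * z * x⁻¹ ∈ Z := by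
    intro x hx z hz
    obtain ⟨w, hw, rfl⟩ := hZmem z hz
    have h1 := hZ₀n.conj_mem w hw ⟨x, hx⟩
    have h2 := (hZcoe _).mpr h1
    simpa using h2
  -- the sets `S`, `X`, `Y`
  have hirrS : ∀ ξ ∈ inducedIrrAbove K ⊥,
      IsIrrCharacter ↥(Subgroup.normalizer ((P : Subgroup G) : Set G)) ξ :=
    fun ξ hξ => frob_irr_of_mem K hCL' hξ
  have hXcoh := ti_frob_coherent_central (Subgroup.normalizer ((P : Subgroup G) : Set G))
    (P : Subgroup G) hPN hTI hnorm hC hP1 hlt.ne hodd Z hZ1 hZP hZn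
  obtain ⟨X, hXdef⟩ : ∃ X : Set (↥(Subgroup.normalizer ((P : Subgroup G) : Set G)) → ℂ),
      X = {χ | IsIrrCharacter ↥(Subgroup.normalizer ((P : Subgroup G) : Set G)) χ ∧
        ∃ z : ↥(Subgroup.normalizer ((P : Subgroup G) : Set G)), (z : G) ∈ Z ∧ χ z ≠ χ 1} :=
    ⟨_, rfl⟩
  rw [← hXdef] at hXcoh
  have hirrsd : ∀ χ ∈ inducedIrrAbove K ⊥ \ inducedIrrAbove K Z₀,
      IsIrrCharacter ↥(Subgroup.normalizer ((P : Subgroup G) : Set G)) χ :=
    fun χ hχ => hirrS χ hχ.1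
  have hXeq : X = inducedIrrAbove K ⊥ \ inducedIrrAbove K Z₀ := by
    rw [hXdef, sdiff_inducedIrrAbove_eq K Z₀ hZ₀K hirrsd]
    ext χ
    constructor
    · rintro ⟨h1, z, hz, hne⟩
      exact ⟨h1, z, (hZcoe z).mp hz, hne⟩
    · rintro ⟨h1, z, hz, hne⟩
      exact ⟨h1, z, (hZcoe z).mpr hz, hne⟩
  have hXS : X ⊆ inducedIrrAbove K ⊥ := by
    rw [hXeq]
    exact Set.sdiff_subset
  have hYS : inducedIrrAbove K ⁅K, K⁆ ⊆ inducedIrrAbove K ⊥ := inducedIrrAbove_mono K bot_le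
  have hYZ : inducedIrrAbove K ⁅K, K⁆ ⊆ inducedIrrAbove K Z₀ := inducedIrrAbove_mono K hZ₀le
  have hXY : Disjoint X (inducedIrrAbove K ⁅K, K⁆) := by
    rw [hXeq, Set.disjoint_left]
    intro χ hχ hχY
    exact hχ.2 (hYZ hχY)
  have hKidx : 0 < K.index := Nat.pos_of_ne_zero Subgroup.index_ne_zero_of_finite
  have hYdeg : ∀ η ∈ inducedIrrAbove K ⁅K, K⁆, η 1 = (K.index : ℂ) := by
    intro φ hφ
    obtain ⟨θ, hθ, rfl⟩ := (mem_inducedIrrAbove_iff K ⁅K, K⁆ φ).mp hφ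
    obtain ⟨-, hker⟩ := (mem_irrAbove K ⁅K, K⁆ θ).mp hθ
    have h1 : (θ : K → ℂ) 1 = 1 := by
      apply irr_one_of_commutator_le_ker
      intro a b
      apply hker
      have := Subgroup.commutator_mem_commutator a.2 b.2
      rw [commutatorElement_def] at this
      simpa using this
    rw [Cfsg.Agent.Helper2.indFun_one_apply, h1, mul_one]
  have hXc : ∀ χ ∈ X, conjFun χ ∈ X ∧ conjFun χ ≠ χ := by
    intro χ hχ
    rw [hXeq] at hχ ⊢
    refine ⟨⟨conj_mem_inducedIrrAbove K ⊥ hχ.1, fun hcon => hχ.2 ?_⟩, hS.conj_ne χ hχ.1⟩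
    have := conj_mem_inducedIrrAbove K Z₀ hcon
    rwa [conjFun_conjFun] at this
  have hYc : ∀ η ∈ inducedIrrAbove K ⁅K, K⁆,
      conjFun η ∈ inducedIrrAbove K ⁅K, K⁆ ∧ conjFun η ≠ η :=
    fun η hη => ⟨conj_mem_inducedIrrAbove K ⁅K, K⁆ hη, hS.conj_ne η (hYS hη)⟩
  -- elements
  obtain ⟨θY, hθY, -⟩ := exists_linear_irrAbove K hsolv ⁅K, K⁆ hH'lt
  obtain ⟨η₀, hη₀⟩ : ∃ η₀, η₀ ∈ inducedIrrAbove K ⁅K, K⁆ :=
    ⟨_, (mem_inducedIrrAbove_iff K ⁅K, K⁆ _).mpr ⟨θY, hθY, rfl⟩⟩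
  obtain ⟨θX, aX, haX, hθXne⟩ := exists_irr_nontrivial_on K Z₀ hZ₀ne hZ₀K
  obtain ⟨χ₀, hχ₀def⟩ : ∃ χ₀, χ₀ = indFun K (θX : K → ℂ) := ⟨_, rfl⟩
  have hχ₀ : χ₀ ∈ X := by
    rw [hXeq, hχ₀def]
    exact (indFun_mem_sdiff K Z₀ hZ₀K (θX : K → ℂ) θX.2 ⟨aX, haX, hθXne⟩).1
  have haXpos : 0 < charDegree (θX : K → ℂ) := Cfsg.Agent.Helper25.irr_degree_pos θX
  have hχ₀d : χ₀ 1 = (charDegree (θX : K → ℂ) : ℂ) * (K.index : ℂ) := by
    rw [hχ₀def, Cfsg.Agent.Helper2.indFun_one_apply, Cfsg.Agent.Helper25.irr_one_eq_degree]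
    ring
  -- coherence of `Y`
  have hYcoh : IsCoherent (inducedIrrAbove K ⁅K, K⁆) {1}ᶜ
      (fun α => indFun (Subgroup.normalizer ((P : Subgroup G) : Set G)) α) := by
    have := coherent_const_degree_irr (indAbove K ⁅K, K⁆)
      (fun ξ hξ => hirrS ξ (hYS ((mem_indAbove K _ ξ).mp hξ)))
      ⟨η₀, (mem_indAbove K _ η₀).mpr hη₀, conjFun η₀, (mem_indAbove K _ _).mpr (hYc η₀ hη₀).1,
        fun h => (hYc η₀ hη₀).2 h.symm⟩
      (fun ξ hξ ξ' hξ' => by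
        rw [hYdeg ξ ((mem_indAbove K _ ξ).mp hξ), hYdeg ξ' ((mem_indAbove K _ ξ').mp hξ')])
      (fun α => indFun (Subgroup.normalizer ((P : Subgroup G) : Set G)) α)
      (by rw [coe_indAbove]; exact isLinearIsometryOn_mono (zspanOn_mono hYS _) hα)
      (by rw [coe_indAbove]; exact fun α hα' => hα1 α (zspanOn_mono hYS _ hα'))
    rwa [coe_indAbove] at this
  obtain ⟨-, τ₁, hτ₁, hτ₁α⟩ := hXcoh
  obtain ⟨-, τ₂, hτ₂, hτ₂α⟩ := hYcoh
  have hX2 : ∃ a ∈ X, ∃ b ∈ X, a ≠ b :=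
    ⟨conjFun χ₀, (hXc χ₀ hχ₀).1, χ₀, hχ₀, (hXc χ₀ hχ₀).2⟩
  have hY2 : ∃ a ∈ inducedIrrAbove K ⁅K, K⁆, ∃ b ∈ inducedIrrAbove K ⁅K, K⁆, a ≠ b :=
    ⟨conjFun η₀, (hYc η₀ hη₀).1, η₀, hη₀, (hYc η₀ hη₀).2⟩
  have horth := (Cfsg.Agent.S1531.result (Subgroup.normalizer ((P : Subgroup G) : Set G))
    (inducedIrrAbove K ⊥) X (inducedIrrAbove K ⁅K, K⁆) hirrS hXS hYS hXY hX2 hY2
    (fun α => indFun (Subgroup.normalizer ((P : Subgroup G) : Set G)) α) hα hα1 τ₁ τ₂ hτ₁ hτ₁α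
    hτ₂ hτ₂α).1
  have h0τ : ∀ α ∈ zspan (inducedIrrAbove K ⁅K, K⁆), α 1 = 0 → τ₂ α 1 = 0 := by
    intro θ hθ h1
    have hm := mem_zspanOn_compl_one hθ h1
    rw [hτ₂α θ hm]
    exact hα1 θ (zspanOn_mono hYS _ hm)
  obtain ⟨ε, hε, hirr2, -⟩ := Cfsg.Agent.S1529.result
    (Subgroup.normalizer ((P : Subgroup G) : Set G)) (inducedIrrAbove K ⁅K, K⁆)
    (fun ξ hξ => hirrS ξ (hYS hξ)) hY2 τ₂ hτ₂ h0τ
  have hdiv := sibley_div p P hTI hodd Z hZ1 hZP hZn X hXdef τ₁ hτ₁ hτ₁α (τ₂ (conjFun η₀)) ε hε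
    (hirr2 _ (hYc η₀ hη₀).1) (fun χ hχ => horth χ hχ _ (hYc η₀ hη₀).1) χ₀ hχ₀
    (charDegree (θX : K → ℂ)) haXpos (hKdef ▸ hχ₀d)
  have hunion := sibley_core (Subgroup.normalizer ((P : Subgroup G) : Set G))
    (inducedIrrAbove K ⊥) X (inducedIrrAbove K ⁅K, K⁆) hirrS hXS hYS hXY hα hα1 hXc hYc τ₁ τ₂
    hτ₁ hτ₁α hτ₂ hτ₂α χ₀ η₀ hχ₀ hη₀ (charDegree (θX : K → ℂ)) K.index haXpos hKidx hχ₀d hYdeg
    hdiv
  -- extension to all of `S`
  have hcoeT : (↑((indAbove K ⊥ \ indAbove K Z₀) ∪ indAbove K ⁅K, K⁆) :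
      Set (↥(Subgroup.normalizer ((P : Subgroup G) : Set G)) → ℂ)) =
      X ∪ inducedIrrAbove K ⁅K, K⁆ := by
    rw [Finset.coe_union, Finset.coe_sdiff, coe_indAbove, coe_indAbove, coe_indAbove, hXeq]
  have hcoh0 : IsCoherent (↑((indAbove K ⊥ \ indAbove K Z₀) ∪ indAbove K ⁅K, K⁆) :
      Set (↥(Subgroup.normalizer ((P : Subgroup G) : Set G)) → ℂ)) {1}ᶜ
      (fun α => indFun (Subgroup.normalizer ((P : Subgroup G) : Set G)) α) := by
    rw [hcoeT]
    exact hunion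
  have hsubZ : indAbove K Z₀ ⊆ indAbove K ⊥ := by
    intro ξ hξ
    exact (mem_indAbove K ⊥ ξ).mpr (inducedIrrAbove_mono K bot_le ((mem_indAbove K Z₀ ξ).mp hξ))
  have hstep : ∀ χ ∈ indAbove K ⊥, χ ∉ (indAbove K ⊥ \ indAbove K Z₀) ∪ indAbove K ⁅K, K⁆ →
      ∃ ψ ∈ (indAbove K ⊥ \ indAbove K Z₀) ∪ indAbove K ⁅K, K⁆,
        charDegree ψ ∣ charDegree χ ∧ 2 * charDegree ψ * charDegree χ <
          ∑ ξ ∈ (indAbove K ⊥ \ indAbove K Z₀) ∪ indAbove K ⁅K, K⁆, charDegree ξ ^ 2 := by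
    intro χ hχ hχT
    have hχZ : χ ∈ indAbove K Z₀ := by
      by_contra hcon
      exact hχT (Finset.mem_union_left _ (Finset.mem_sdiff.mpr ⟨hχ, hcon⟩))
    have hη₀deg : charDegree η₀ = K.index := by
      have h1 := Cfsg.Agent.Helper25.irr_one_eq_degree
        (⟨η₀, hirrS η₀ (hYS hη₀)⟩ : IrrCharacter ↥(Subgroup.normalizer ((P : Subgroup G) : Set G)))
      have h2 : η₀ 1 = (charDegree η₀ : ℂ) := h1
      rw [hYdeg η₀ hη₀] at h2
      exact_mod_cast h2.symm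
    have hsq : charDegree χ ^ 2 ≤ ∑ ξ ∈ indAbove K Z₀, charDegree ξ ^ 2 :=
      Finset.single_le_sum (f := fun ξ => charDegree ξ ^ 2) (fun _ _ => Nat.zero_le _) hχZ
    obtain ⟨θ, hθ, hχθ⟩ := (mem_inducedIrrAbove_iff K Z₀ χ).mp ((mem_indAbove K Z₀ χ).mp hχZ)
    have hdegχ : charDegree χ = K.index * charDegree (θ : K → ℂ) := by
      rw [hχθ]
      exact frob_degree K hCL' θ ((mem_irrAbove K Z₀ θ).mp hθ).1
    have htpos : 0 < charDegree (θ : K → ℂ) := Cfsg.Agent.Helper25.irr_degree_pos θ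
    refine ⟨η₀, Finset.mem_union_right _ ((mem_indAbove K _ η₀).mpr hη₀), ?_, ?_⟩
    · rw [hη₀deg, hdegχ]
      exact dvd_mul_right _ _
    · have hsumbot := frob_sum_degree_sq K hCL' ⊥
      have hsumZ := frob_sum_degree_sq K hCL' Z₀
      have hdm := frob_dvd_relIndex_pred K hCL' Z₀
      have hdc := frob_dvd_relIndex_pred K hCL' ⊥
      have hmul : (⊥ : Subgroup ↥(Subgroup.normalizer ((P : Subgroup G) : Set G))).relIndex Z₀ *
          Z₀.relIndex K = (⊥ : Subgroup ↥(Subgroup.normalizer ((P : Subgroup G) : Set G))).relIndex K :=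
        Subgroup.relIndex_mul_relIndex ⊥ Z₀ K bot_le hZ₀K
      have hz2 : 2 ≤ (⊥ : Subgroup ↥(Subgroup.normalizer ((P : Subgroup G) : Set G))).relIndex Z₀ := by
        rw [Subgroup.relIndex_bot_left]
        exact (Subgroup.one_lt_card_iff_ne_bot Z₀).mpr hZ₀ne
      have hmpos : 1 ≤ Z₀.relIndex K := relIndex_pos_of_finite Z₀ K
      have hE2 : 2 ≤ K.index := by
        have h1 : K.index ≠ 1 := fun h => hK2' (Subgroup.index_eq_one.mp h)
        omega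
      have hsd := Finset.sum_sdiff (f := fun ξ => charDegree ξ ^ 2) hsubZ
      have hle : ∑ ξ ∈ indAbove K ⊥ \ indAbove K Z₀, charDegree ξ ^ 2 ≤
          ∑ ξ ∈ (indAbove K ⊥ \ indAbove K Z₀) ∪ indAbove K ⁅K, K⁆, charDegree ξ ^ 2 :=
        Finset.sum_le_sum_of_subset Finset.subset_union_left
      rw [hη₀deg, hdegχ]
      rw [hdegχ, hsumZ] at hsq
      rw [hsumbot, hsumZ, ← hmul] at hsd
      rw [← hmul] at hdc
      exact lt_of_lt_of_le (sibley_arith K.index (Z₀.relIndex K) _ (charDegree (θ : K → ℂ)) _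
        hE2 hmpos hz2 htpos hdm hdc hsq hsd) hle
  have hfinal := feit_extend_finset (inducedIrrAbove K ⊥) hirrS
    (fun α => indFun (Subgroup.normalizer ((P : Subgroup G) : Set G)) α) hα hα1
    ((indAbove K ⊥ \ indAbove K Z₀) ∪ indAbove K ⁅K, K⁆) (indAbove K ⊥)
    (by rw [hcoeT]; exact Set.union_subset hXS hYS) (by rw [coe_indAbove]) hcoh0 hstep
  have hcoeU : (↑(((indAbove K ⊥ \ indAbove K Z₀) ∪ indAbove K ⁅K, K⁆) ∪ indAbove K ⊥) :
      Set (↥(Subgroup.normalizer ((P : Subgroup G) : Set G)) → ℂ)) = inducedIrrAbove K ⊥ := by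
    rw [Finset.coe_union, hcoeT, coe_indAbove]
    exact Set.union_eq_self_of_subset_left (Set.union_subset hXS hYS)
  rw [hcoeU] at hfinal
  exact hfinal

end SibleyOdd

end Cfsg.Agent.Helper11
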