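import Mathlib
import Cfsg.Agent.Helper11.Sibley2
import Cfsg.Agent.S1535

/-!
# Sibley's coherence theorem for TI Frobenius kernels of odd order (helper11)

* `ti_frob_basic`: the kernel inside its normaliser is a proper nontrivial normal subgroup
  containing the centralisers of its non-identity elements.
* `odd_normalizer_of_nonabelian`: a non-abelian kernel of odd order has a normaliser of odd order.
* `sylow_of_ti_frob`: a TI Frobenius kernel of prime power order is a Sylow subgroup.
* `sibley_ti_frob`: coherence of the characters induced from a TI Frobenius kernel of odd order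
  (not of order `e + 1`).
* `frob_complement_centralizer`: the centraliser form of the Frobenius condition from the
  complement form.
-/

set_option autoImplicit false

namespace Cfsg.Agent.Helper11

open Cfsg

open scoped Pointwise

theorem ti_frob_basic {G : Type*} [Group G] (K : Subgroup G) (hK1 : K ≠ ⊥)
    (hlt : K < Subgroup.normalizer (K : Set G))
    (hC : ∀ k ∈ K, k ≠ 1 → Subgroup.centralizer ({k} : Set G) ≤ K) :
    (K.subgroupOf (Subgroup.normalizer (K : Set G))).Normal ∧
    (∀ h ∈ K.subgroupOf (Subgroup.normalizer (K : Set G)), h ≠ 1 →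
      Subgroup.centralizer ({h} : Set ↥(Subgroup.normalizer (K : Set G))) ≤
        K.subgroupOf (Subgroup.normalizer (K : Set G))) ∧
    K.subgroupOf (Subgroup.normalizer (K : Set G)) ≠ ⊥ ∧
    K.subgroupOf (Subgroup.normalizer (K : Set G)) ≠ ⊤ := by
  have hKN : K ≤ Subgroup.normalizer (K : Set G) := hlt.le
  refine ⟨⟨fun k hk x => ?_⟩, ?_, ?_, ?_⟩
  · rw [Subgroup.mem_subgroupOf] at hk ⊢
    have := (Subgroup.mem_normalizer_iff.mp x.2 k).mp hk
    simpa using this
  · intro h hh h1 x hx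
    rw [Subgroup.mem_subgroupOf]
    apply hC (h : G) (Subgroup.mem_subgroupOf.mp hh) (fun h0 => h1 (Subtype.ext h0))
    rw [Subgroup.mem_centralizer_iff] at hx ⊢
    intro y hy
    rw [Set.mem_singleton_iff] at hy
    rw [hy]
    have := hx h (Set.mem_singleton h)
    exact congrArg Subtype.val this
  · intro h
    apply hK1
    rw [Subgroup.subgroupOf_eq_bot, disjoint_iff, inf_eq_left.mpr hKN] at h
    exact h
  · intro h
    rw [Subgroup.subgroupOf_eq_top] at h
    exact hlt.ne (le_antisymm hKN h)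

theorem odd_normalizer_of_nonabelian {G : Type*} [Group G] [Finite G] (K : Subgroup G)
    (hoddK : Odd (Nat.card K)) (hna : ¬ IsMulCommutative K)
    (hC : ∀ k ∈ K, k ≠ 1 → Subgroup.centralizer ({k} : Set G) ≤ K) :
    Odd (Nat.card (Subgroup.normalizer (K : Set G))) := by
  by_contra hcon
  rw [Nat.not_odd_iff_even] at hcon
  have _h2 : Fact (Nat.Prime 2) := ⟨Nat.prime_two⟩
  obtain ⟨t, ht⟩ := exists_prime_orderOf_dvd_card' 2 hcon.two_dvd
  have ht2 : (t : G) * (t : G) = 1 := by
    have h1 := pow_orderOf_eq_one t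
    rw [ht, pow_two] at h1
    exact congrArg Subtype.val h1
  apply hna
  have hcomm := comm_of_fpf_involution K (t : G) ht2 t.2 (by
    intro w hw hcomm
    by_contra hw1
    have htK : (t : G) ∈ K := by
      apply hC w hw hw1
      rw [Subgroup.mem_centralizer_iff]
      intro y hy
      rw [Set.mem_singleton_iff] at hy
      rw [hy]
      exact hcomm.symm
    have h1 : orderOf (t : G) = 2 := by rw [Subgroup.orderOf_coe, ht]
    have h2 : orderOf (t : G) ∣ Nat.card K := Subgroup.orderOf_dvd_natCard _ htK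
    rw [h1] at h2
    exact (Nat.not_even_iff_odd.mpr hoddK) (even_iff_two_dvd.mpr h2))
  exact ⟨⟨fun a b => Subtype.ext (hcomm a a.2 b b.2)⟩⟩

theorem sylow_of_ti_frob {G : Type*} [Group G] [Finite G] (K : Subgroup G) (p : ℕ)
    [Fact p.Prime] (hpg : IsPGroup p K) (hK1 : K ≠ ⊥)
    (hlt : K < Subgroup.normalizer (K : Set G))
    (hC : ∀ k ∈ K, k ≠ 1 → Subgroup.centralizer ({k} : Set G) ≤ K) :
    ∃ P : Sylow p G, (P : Subgroup G) = K := by
  classical
  obtain ⟨hKn, hCL, hK1', hK2'⟩ := ti_frob_basic K hK1 hlt hC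
  have _instN : Fintype ↥(Subgroup.normalizer (K : Set G)) := Fintype.ofFinite _
  refine ⟨⟨K, hpg, ?_⟩, rfl⟩
  intro Q hQ hKQ
  by_contra hne
  have hKQlt : K.subgroupOf Q < ⊤ := by
    rw [lt_top_iff_ne_top]
    intro h
    rw [Subgroup.subgroupOf_eq_top] at h
    exact hne (le_antisymm h hKQ)
  have _hnil : Group.IsNilpotent Q := hQ.isNilpotent
  have hnc := Group.normalizerCondition_of_isNilpotent (G := Q) (K.subgroupOf Q) hKQlt
  obtain ⟨x, hxn, hxK⟩ := SetLike.exists_of_lt hnc
  have hxK' : (x : G) ∉ K := fun h => hxK (Subgroup.mem_subgroupOf.mpr h)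
  have hxN : (x : G) ∈ Subgroup.normalizer (K : Set G) := by
    rw [Subgroup.mem_normalizer_iff]
    intro k
    rw [Subgroup.mem_normalizer_iff] at hxn
    constructor
    · intro hk
      have := (hxn ⟨k, hKQ hk⟩).mp (Subgroup.mem_subgroupOf.mpr hk)
      rw [Subgroup.mem_subgroupOf] at this
      simpa using this
    · intro hk
      have hkQ : k ∈ Q := by
        have h1 : (x : G)⁻¹ * ((x : G) * k * (x : G)⁻¹) * (x : G) ∈ Q :=
          Q.mul_mem (Q.mul_mem (Q.inv_mem x.2) (hKQ hk)) x.2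
        have h2 : (x : G)⁻¹ * ((x : G) * k * (x : G)⁻¹) * (x : G) = k := by group
        rwa [h2] at h1
      have := (hxn ⟨k, hkQ⟩).mpr (by
        rw [Subgroup.mem_subgroupOf]
        simpa using hk)
      exact Subgroup.mem_subgroupOf.mp this
  -- the order of `x` is a power of `p`, prime to the index of `K` in its normaliser
  obtain ⟨j, hj⟩ := (IsPGroup.iff_orderOf.mp hQ) x
  have hox : orderOf (⟨(x : G), hxN⟩ : ↥(Subgroup.normalizer (K : Set G))) = p ^ j := by
    rw [← hj, ← Subgroup.orderOf_coe x, ← Subgroup.orderOf_coe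
      (⟨(x : G), hxN⟩ : ↥(Subgroup.normalizer (K : Set G)))]
  have hdvd := frob_dvd_relIndex_pred (K.subgroupOf (Subgroup.normalizer (K : Set G))) hCL ⊥
  rw [Subgroup.relIndex_bot_left] at hdvd
  obtain ⟨m, hm⟩ := (IsPGroup.iff_card.mp hpg)
  have hcardK : Nat.card (K.subgroupOf (Subgroup.normalizer (K : Set G))) = p ^ m := by
    rw [← hm]
    exact Nat.card_congr (Subgroup.subgroupOfEquivOfLe hlt.le).toEquiv
  rw [hcardK] at hdvd
  have hm0 : m ≠ 0 := by
    rintro rfl
    rw [pow_zero] at hm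
    exact hK1 ((Subgroup.card_eq_one).mp hm)
  have hcop1 : Nat.Coprime (p ^ m - 1) (p ^ m) := by
    have hpos : 1 ≤ p ^ m := Nat.one_le_pow _ _ (Fact.out : p.Prime).pos
    have h1 : p ^ m = 1 + (p ^ m - 1) := by omega
    rw [h1]
    simp
  have hcop2 : Nat.Coprime (K.subgroupOf (Subgroup.normalizer (K : Set G))).index (p ^ j) := by
    have h1 : Nat.Coprime (K.subgroupOf (Subgroup.normalizer (K : Set G))).index (p ^ m) :=
      Nat.Coprime.coprime_dvd_left hdvd hcop1
    have h2 : Nat.Coprime (K.subgroupOf (Subgroup.normalizer (K : Set G))).index p :=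
      Nat.Coprime.coprime_dvd_right (dvd_pow_self p hm0) h1
    exact Nat.Coprime.pow_right j h2
  rw [← hox] at hcop2
  obtain ⟨n, hn⟩ := exists_pow_eq_self_of_coprime hcop2
  have hmem := Subgroup.pow_index_mem (K.subgroupOf (Subgroup.normalizer (K : Set G)))
    (⟨(x : G), hxN⟩ : ↥(Subgroup.normalizer (K : Set G)))
  have hmem2 := Subgroup.pow_mem _ hmem n
  rw [hn] at hmem2
  exact hxK' (Subgroup.mem_subgroupOf.mp hmem2)

/-- Coherence for a TI Frobenius kernel of odd order which is not of order `e + 1`. -/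
theorem sibley_ti_frob {G : Type*} [Group G] [Fintype G] (K : Subgroup G) (hK1 : K ≠ ⊥)
    (hTI : IsTISubset (K : Set G)) (hlt : K < Subgroup.normalizer (K : Set G))
    (hC : ∀ k ∈ K, k ≠ 1 → Subgroup.centralizer ({k} : Set G) ≤ K)
    [Fintype ↥(Subgroup.normalizer (K : Set G))] (hoddK : Odd (Nat.card K))
    (hne : Nat.card K ≠ (K.subgroupOf (Subgroup.normalizer (K : Set G))).index + 1) :
    IsCoherent (inducedIrrAbove (K.subgroupOf (Subgroup.normalizer (K : Set G))) ⊥) {1}ᶜ
      (fun α => indFun (Subgroup.normalizer (K : Set G)) α) := by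
  classical
  obtain ⟨hKn, hCL, hK1', hK2'⟩ := ti_frob_basic K hK1 hlt hC
  obtain ⟨hα, hα1⟩ := ti_isLinearIsometryOn (Subgroup.normalizer (K : Set G)) K hTI
  have hSeq := frob_irr_set_eq (K.subgroupOf (Subgroup.normalizer (K : Set G))) hCL
  have hcardK : Nat.card (K.subgroupOf (Subgroup.normalizer (K : Set G))) = Nat.card K :=
    Nat.card_congr (Subgroup.subgroupOfEquivOfLe hlt.le).toEquiv
  have h1535 := Cfsg.Agent.S1535.result (K.subgroupOf (Subgroup.normalizer (K : Set G))) hK1' hK2'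
    hCL (by rw [hcardK]; exact hne) (fun α => indFun (Subgroup.normalizer (K : Set G)) α)
    (by rw [hSeq]; exact hα) (by rw [hSeq]; exact hα1)
  rcases h1535 with hcoh | ⟨p, hp, ⟨m, hm⟩, hnab, -⟩
  · rw [hSeq] at hcoh
    exact hcoh
  · have _hp : Fact p.Prime := ⟨hp⟩
    rw [hcardK] at hm
    have hpg : IsPGroup p K := IsPGroup.of_card hm
    obtain ⟨P, hP⟩ := sylow_of_ti_frob K p hpg hK1 hlt hC
    subst hP
    have hna : ¬ IsMulCommutative (P : Subgroup G) := by
      intro hcomm
      apply hnab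
      refine ⟨⟨fun a b => ?_⟩⟩
      have h1 := hcomm.is_comm.comm ⟨(a : G), a.2⟩ ⟨(b : G), b.2⟩
      apply Subtype.ext
      apply Subtype.ext
      have h2 : ((a : ↥(Subgroup.normalizer ((P : Subgroup G) : Set G))) : G) *
          ((b : ↥(Subgroup.normalizer ((P : Subgroup G) : Set G))) : G) =
          ((b : ↥(Subgroup.normalizer ((P : Subgroup G) : Set G))) : G) *
            ((a : ↥(Subgroup.normalizer ((P : Subgroup G) : Set G))) : G) :=
        congrArg Subtype.val h1
      exact h2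
    have hodd := odd_normalizer_of_nonabelian (P : Subgroup G) hoddK hna hC
    exact sibley_odd p P hTI hodd hna hlt hC

/-- In a group `H ⋊ W₁` with `W₁` acting without fixed points, and `H` a TI-subgroup, the
centraliser of every non-identity element of `H` lies in `H`. -/
theorem frob_complement_centralizer {G : Type*} [Group G] [Finite G] (H W₁ : Subgroup G)
    (hTI : IsTISubset (H : Set G)) (hW₁ : W₁ ≤ Subgroup.normalizer (H : Set G))
    (hsup : H ⊔ W₁ = Subgroup.normalizer (H : Set G))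
    (hfpf : ∀ w ∈ W₁, w ≠ 1 → ∀ h ∈ H, w * h = h * w → h = 1) :
    ∀ k ∈ H, k ≠ 1 → Subgroup.centralizer ({k} : Set G) ≤ H := by
  intro k hk hk1 x hx
  have hxk : x * k = k * x := by
    rw [Subgroup.mem_centralizer_iff] at hx
    exact (hx k (Set.mem_singleton k)).symm
  have hxN : x ∈ Subgroup.normalizer (H : Set G) := by
    by_contra hcon
    apply hk1
    apply hTI x hcon k hk
    have : x * k * x⁻¹ = k := by rw [hxk]; group
    rw [this]
    exact hk
  rw [← hsup] at hxN
  have hmul := Subgroup.coe_mul_of_right_le_normalizer_left H W₁ hW₁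
  have hxm : x ∈ ((H : Set G) * (W₁ : Set G)) := by
    rw [← hmul]
    exact hxN
  obtain ⟨h', hh', w, hw, rfl⟩ := Set.mem_mul.mp hxm
  by_cases hw1 : w = 1
  · rw [hw1, mul_one]
    exact hh'
  exfalso
  have hwn : ∀ u ∈ H, w * u * w⁻¹ ∈ H := fun u hu =>
    (Subgroup.mem_normalizer_iff.mp (hW₁ hw) u).mp hu
  have hφmem : ∀ u : H, (u : G) * (w * (u : G)⁻¹ * w⁻¹) ∈ H := fun u =>
    H.mul_mem u.2 (hwn _ (H.inv_mem u.2))
  have hφinj : Function.Injective (fun u : H => (⟨(u : G) * (w * (u : G)⁻¹ * w⁻¹), hφmem u⟩ : H)) := by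
    intro u v huv
    have h1 : (u : G) * (w * (u : G)⁻¹ * w⁻¹) = (v : G) * (w * (v : G)⁻¹ * w⁻¹) :=
      congrArg Subtype.val huv
    have h2 : w * ((v : G)⁻¹ * (u : G)) = ((v : G)⁻¹ * (u : G)) * w := by
      have h3 : (u : G) * w * (u : G)⁻¹ = (v : G) * w * (v : G)⁻¹ := by
        calc (u : G) * w * (u : G)⁻¹ = (u : G) * (w * (u : G)⁻¹ * w⁻¹) * w := by group
          _ = (v : G) * (w * (v : G)⁻¹ * w⁻¹) * w := by rw [h1]
          _ = (v : G) * w * (v : G)⁻¹ := by group
      calc w * ((v : G)⁻¹ * (u : G)) = (v : G)⁻¹ * ((v : G) * w * (v : G)⁻¹) * (u : G) := by group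
        _ = (v : G)⁻¹ * ((u : G) * w * (u : G)⁻¹) * (u : G) := by rw [h3]
        _ = ((v : G)⁻¹ * (u : G)) * w := by group
    have h4 := hfpf w hw hw1 _ (H.mul_mem (H.inv_mem v.2) u.2) h2
    apply Subtype.ext
    have h5 : (u : G) = (v : G) * ((v : G)⁻¹ * (u : G)) := by group
    rw [h5, h4, mul_one]
  obtain ⟨u, hu⟩ := Finite.surjective_of_injective hφinj ⟨h', hh'⟩
  have hu' : (u : G) * (w * (u : G)⁻¹ * w⁻¹) = h' := congrArg Subtype.val hu
  have hconj : h' * w = (u : G) * w * (u : G)⁻¹ := by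
    rw [← hu']
    group
  rw [hconj] at hxk
  have hcomm : w * ((u : G)⁻¹ * k * (u : G)) = ((u : G)⁻¹ * k * (u : G)) * w := by
    calc w * ((u : G)⁻¹ * k * (u : G)) = (u : G)⁻¹ * ((u : G) * w * (u : G)⁻¹ * k) * (u : G) := by
          group
      _ = (u : G)⁻¹ * (k * ((u : G) * w * (u : G)⁻¹)) * (u : G) := by rw [hxk]
      _ = ((u : G)⁻¹ * k * (u : G)) * w := by group
  have hmemH : (u : G)⁻¹ * k * (u : G) ∈ H := H.mul_mem (H.mul_mem (H.inv_mem u.2) hk) u.2
  have h6 := hfpf w hw hw1 _ hmemH hcomm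
  apply hk1
  have h7 : k = (u : G) * ((u : G)⁻¹ * k * (u : G)) * (u : G)⁻¹ := by group
  rw [h7, h6]
  group

end Cfsg.Agent.Helper11
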