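import Mathlib
import Cfsg.Agent.Helper11.Sibley3

/-!
# Frobenius groups whose kernel has order `e + 1` (helper11)

* `frob_minimal_card`: exactly one irreducible character does not contain the kernel in its
  kernel.
* `frob_minimal_elementary`: the kernel is elementary abelian.
-/

set_option autoImplicit false

namespace Cfsg.Agent.Helper11

open Cfsg

theorem frob_minimal_card {L : Type*} [Group L] [Fintype L] (K : Subgroup L) [hK : K.Normal]
    (hC : ∀ n ∈ K, n ≠ 1 → Subgroup.centralizer ({n} : Set L) ≤ K)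
    (hcard : Nat.card K = K.index + 1) :
    Nat.card {χ : L → ℂ // IsIrrCharacter L χ ∧ ∃ h ∈ K, χ h ≠ χ 1} = 1 := by
  classical
  have hSeq := frob_irr_set_eq K hC
  have h1 : Nat.card {χ : L → ℂ // IsIrrCharacter L χ ∧ ∃ h ∈ K, χ h ≠ χ 1} =
      (indAbove K ⊥).card := by
    have h2 : Nat.card ↥({χ : L → ℂ | IsIrrCharacter L χ ∧ ∃ h ∈ K, χ h ≠ χ 1}) =
        (indAbove K ⊥).card := by
      rw [hSeq, ← coe_indAbove, Nat.card_coe_set_eq, Set.ncard_coe_finset]
    exact h2
  rw [h1]
  have hsum := frob_sum_degree_sq K hC ⊥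
  rw [Subgroup.relIndex_bot_left, hcard, Nat.add_sub_cancel] at hsum
  have hKidx : 0 < K.index := Nat.pos_of_ne_zero Subgroup.index_ne_zero_of_finite
  have hge : ∀ φ ∈ indAbove K ⊥, K.index ^ 2 ≤ charDegree φ ^ 2 := by
    intro φ hφ
    obtain ⟨θ, hθ, rfl⟩ := (mem_inducedIrrAbove_iff K ⊥ φ).mp ((mem_indAbove K ⊥ φ).mp hφ)
    rw [frob_degree K hC θ ((mem_irrAbove K ⊥ θ).mp hθ).1]
    have := Cfsg.Agent.Helper25.irr_degree_pos θ
    exact Nat.pow_le_pow_left (Nat.le_mul_of_pos_right _ this) 2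
  have h2 : (indAbove K ⊥).card * K.index ^ 2 ≤ K.index * K.index := by
    rw [← hsum, ← smul_eq_mul, ← Finset.sum_const]
    exact Finset.sum_le_sum hge
  have h3 : (indAbove K ⊥).card ≤ 1 := by
    by_contra hcon
    push Not at hcon
    have : 2 * K.index ^ 2 ≤ (indAbove K ⊥).card * K.index ^ 2 := Nat.mul_le_mul_right _ hcon
    nlinarith
  have h4 : (indAbove K ⊥).card ≠ 0 := by
    intro h0
    rw [Finset.card_eq_zero] at h0
    rw [h0, Finset.sum_empty] at hsum
    nlinarith
  omega

theorem frob_minimal_elementary {L : Type*} [Group L] [Finite L] (K : Subgroup L)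
    [hK : K.Normal] (hC : ∀ n ∈ K, n ≠ 1 → Subgroup.centralizer ({n} : Set L) ≤ K)
    (hK1 : K ≠ ⊥) (hcard : Nat.card K = K.index + 1) :
    ∃ p : ℕ, p.Prime ∧ (∀ a ∈ K, ∀ b ∈ K, a * b = b * a) ∧ ∀ a ∈ K, a ^ p = 1 := by
  classical
  have hKset : ((K : Set L) \ {1}).ncard = K.index := by
    rw [Set.ncard_sdiff_singleton_of_mem K.one_mem]
    have : (K : Set L).ncard = Nat.card K := (Nat.card_coe_set_eq (K : Set L)).symm
    rw [this, hcard, Nat.add_sub_cancel]
  have hkey : ∀ k ∈ K, k ≠ 1 → Subgroup.centralizer ({k} : Set L) = K ∧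
      ∀ g ∈ K, g ≠ 1 → ∃ x : L, x * k * x⁻¹ = g := by
    intro k hk hk1
    have hOsub : MulAction.orbit (ConjAct L) k ⊆ (K : Set L) \ {1} := by
      intro g hg
      rw [ConjAct.mem_orbit_conjAct, isConj_iff] at hg
      obtain ⟨c, hc⟩ := hg
      have hg' : g = c⁻¹ * k * c⁻¹⁻¹ := by rw [← hc]; group
      refine ⟨?_, ?_⟩
      · rw [hg']
        exact hK.conj_mem k hk c⁻¹
      · intro h1
        rw [Set.mem_singleton_iff] at h1
        apply hk1
        rw [← hc, h1]
        group
    have hOcard : (MulAction.orbit (ConjAct L) k).ncard =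
        (Subgroup.centralizer ({k} : Set L)).index := by
      have h0 := MulAction.index_stabilizer (ConjAct L) k
      have h1 := Subgroup.index_mul_card (MulAction.stabilizer (ConjAct L) k)
      have h2 := Subgroup.nat_card_centralizer_nat_card_stabilizer k
      have h3 := Subgroup.index_mul_card (Subgroup.centralizer ({k} : Set L))
      have h4 : Nat.card (ConjAct L) = Nat.card L := rfl
      rw [← h2, h4, ← h3, h0] at h1
      have hpos : 0 < Nat.card (Subgroup.centralizer ({k} : Set L)) := Nat.card_pos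
      exact Nat.eq_of_mul_eq_mul_right hpos h1
    have hle : (Subgroup.centralizer ({k} : Set L)).index ≤ K.index := by
      rw [← hOcard, ← hKset]
      exact Set.ncard_le_ncard hOsub (Set.toFinite _)
    have hCk := hC k hk hk1
    have hmul := Subgroup.relIndex_mul_index hCk
    have hKidx : 0 < K.index := Nat.pos_of_ne_zero Subgroup.index_ne_zero_of_finite
    have hrel : (Subgroup.centralizer ({k} : Set L)).relIndex K = 1 := by
      have hpos : 0 < (Subgroup.centralizer ({k} : Set L)).relIndex K := relIndex_pos_of_finite _ _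
      nlinarith
    have heq : Subgroup.centralizer ({k} : Set L) = K :=
      le_antisymm hCk (Subgroup.relIndex_eq_one.mp hrel)
    refine ⟨heq, ?_⟩
    have hOeq : MulAction.orbit (ConjAct L) k = (K : Set L) \ {1} := by
      apply Set.eq_of_subset_of_ncard_le hOsub _ (Set.toFinite _)
      rw [hOcard, hKset, heq]
    intro g hg hg1
    have hgO : g ∈ MulAction.orbit (ConjAct L) k := by
      rw [hOeq]
      exact ⟨hg, hg1⟩
    rw [ConjAct.mem_orbit_conjAct, isConj_iff] at hgO
    obtain ⟨c, hc⟩ := hgO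
    exact ⟨c⁻¹, by rw [← hc]; group⟩
  have hcardK : 1 < Nat.card K := (Subgroup.one_lt_card_iff_ne_bot K).mpr hK1
  obtain ⟨p, hp, hpd⟩ := Nat.exists_prime_and_dvd (by omega : Nat.card K ≠ 1)
  have _hp : Fact p.Prime := ⟨hp⟩
  obtain ⟨k₀, hk₀⟩ := exists_prime_orderOf_dvd_card' p hpd
  have hk₀1 : (k₀ : L) ≠ 1 := by
    intro h
    have h1 : k₀ = 1 := Subtype.ext h
    rw [h1, orderOf_one] at hk₀
    exact hp.one_lt.ne hk₀
  have hk₀p : (k₀ : L) ^ p = 1 := by
    have h1 := pow_orderOf_eq_one k₀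
    rw [hk₀] at h1
    exact_mod_cast congrArg Subtype.val h1
  refine ⟨p, hp, ?_, ?_⟩
  · intro a ha b hb
    by_cases ha1 : a = 1
    · rw [ha1, one_mul, mul_one]
    · have h1 := (hkey a ha ha1).1
      have hb' : b ∈ Subgroup.centralizer ({a} : Set L) := by rw [h1]; exact hb
      rw [Subgroup.mem_centralizer_iff] at hb'
      exact hb' a (Set.mem_singleton a)
  · intro a ha
    by_cases ha1 : a = 1
    · rw [ha1, one_pow]
    · obtain ⟨x, hx⟩ := (hkey (k₀ : L) k₀.2 hk₀1).2 a ha ha1
      rw [← hx, conj_pow, hk₀p]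
      group

end Cfsg.Agent.Helper11
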