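import Mathlib
import Cfsg.Agent.Helper11.Sibley4
import Cfsg.Agent.S1527

/-!
# Tools for the Feit–Hall–Thompson counting argument (helper11)

* `sum_not_le_ker`: `∑_{K ≰ ker θ} θ(1) θ(k) = [k = 1] |Γ| - [k ∈ K] |Γ : K|`.
* `restrict_value`: a class function whose multiplicities on the characters not containing `K`
  in their kernel are proportional to the degrees (up to one exception) is, on `K ∖ 1`, an
  integer constant plus a multiple of the exceptional character.
* `indFun_eq_zero_of_forall`: an induced function vanishes where no conjugate meets the support.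
* `sum_conj_class`, `sum_partition`: summation of a class function over a group partitioned
  by the conjugates of TI-subgroups of pairwise coprime orders.
-/

set_option autoImplicit false

namespace Cfsg.Agent.Helper11

open Cfsg

open scoped ComplexConjugate

section FrobSums

variable {Γ : Type*} [Group Γ] [Fintype Γ]

open Classical in
theorem sum_not_le_ker (K : Subgroup Γ) [K.Normal] (k : Γ) :
    ∑ θ : IrrCharacter Γ,
        (if K ≤ Cfsg.Agent.Helper25.irrKer θ then 0 else (θ : Γ → ℂ) 1 * (θ : Γ → ℂ) k)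
      = (if k = 1 then (Nat.card Γ : ℂ) else 0) - (if k ∈ K then (K.index : ℂ) else 0) := by
  rw [← Cfsg.Agent.Helper25.sum_irr_one_mul k, ← sum_irr_le_ker K k, ← Finset.sum_sub_distrib]
  apply Finset.sum_congr rfl
  intro θ _
  split_ifs <;> ring

open Classical in
theorem restrict_value (K : Subgroup Γ) [K.Normal] (F : Γ → ℂ) (hF : IsClassFunction Γ F)
    (hint : ∀ θ : IrrCharacter Γ, ∃ m : ℤ, classInner F (θ : Γ → ℂ) = (m : ℂ))
    (χ₁ : IrrCharacter Γ) (hχ₁ : ¬ K ≤ Cfsg.Agent.Helper25.irrKer χ₁) (a b : ℤ)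
    (hrel : ∀ θ : IrrCharacter Γ, ¬ K ≤ Cfsg.Agent.Helper25.irrKer θ →
      (K.index : ℂ) * classInner F (θ : Γ → ℂ) =
        (θ : Γ → ℂ) 1 * (a : ℂ) + (if θ = χ₁ then (K.index : ℂ) * (b : ℂ) else 0)) :
    ∃ c : ℤ, ∀ k ∈ K, k ≠ 1 → F k = (b : ℂ) * (χ₁ : Γ → ℂ) k + (c : ℂ) := by
  classical
  choose m hm using hint
  refine ⟨∑ θ : IrrCharacter Γ, (if K ≤ Cfsg.Agent.Helper25.irrKer θ then
    m θ * (charDegree (θ : Γ → ℂ) : ℤ) else 0) - a, ?_⟩
  intro k hk hk1
  have he0 : (K.index : ℂ) ≠ 0 := Nat.cast_ne_zero.mpr Subgroup.index_ne_zero_of_finite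
  have hexp := Cfsg.Agent.Helper2.classFun_eq_sum_classInner hF
  have hFk : F k = ∑ θ : IrrCharacter Γ, classInner F (θ : Γ → ℂ) * (θ : Γ → ℂ) k := by
    conv_lhs => rw [hexp]
    rw [Finset.sum_apply]
    apply Finset.sum_congr rfl
    intro θ _
    rw [Pi.smul_apply, smul_eq_mul]
  have hterm : ∀ θ : IrrCharacter Γ, classInner F (θ : Γ → ℂ) * (θ : Γ → ℂ) k =
      (if K ≤ Cfsg.Agent.Helper25.irrKer θ then
        (m θ : ℂ) * (charDegree (θ : Γ → ℂ) : ℂ) else 0) +
      ((a : ℂ) / (K.index : ℂ)) *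
        (if K ≤ Cfsg.Agent.Helper25.irrKer θ then 0 else (θ : Γ → ℂ) 1 * (θ : Γ → ℂ) k) +
      (if θ = χ₁ then (b : ℂ) * (χ₁ : Γ → ℂ) k else 0) := by
    intro θ
    by_cases hθ : K ≤ Cfsg.Agent.Helper25.irrKer θ
    · have hne : θ ≠ χ₁ := by
        rintro rfl
        exact hχ₁ hθ
      rw [if_pos hθ, if_pos hθ, if_neg hne, mul_zero, add_zero, add_zero, hm θ]
      have h1 : (θ : Γ → ℂ) k = (θ : Γ → ℂ) 1 :=
        (Cfsg.Agent.Helper25.mem_irrKer θ k).mp (hθ hk)
      rw [h1, Cfsg.Agent.Helper25.irr_one_eq_degree]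
    · rw [if_neg hθ, if_neg hθ, zero_add]
      have h1 := hrel θ hθ
      have h2 : classInner F (θ : Γ → ℂ) = ((θ : Γ → ℂ) 1 * (a : ℂ) +
          (if θ = χ₁ then (K.index : ℂ) * (b : ℂ) else 0)) / (K.index : ℂ) := by
        rw [← h1]
        field_simp
      rw [h2]
      by_cases hθ1 : θ = χ₁
      · rw [if_pos hθ1, if_pos hθ1, hθ1]
        field_simp
      · rw [if_neg hθ1, if_neg hθ1, add_zero, add_zero]
        field_simp
  rw [hFk, Finset.sum_congr rfl (fun θ _ => hterm θ), Finset.sum_add_distrib,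
    Finset.sum_add_distrib, ← Finset.mul_sum, sum_not_le_ker K k, if_neg hk1, if_pos hk,
    Finset.sum_ite_eq' Finset.univ χ₁, if_pos (Finset.mem_univ _)]
  push_cast
  field_simp
  ring

end FrobSums

section Ind

variable {G : Type*} [Group G] [Fintype G]

theorem indFun_eq_zero_of_forall (N : Subgroup G) (α : N → ℂ) (x : G)
    (h : ∀ y : G, ∀ hy : y⁻¹ * x * y ∈ N, α ⟨y⁻¹ * x * y, hy⟩ = 0) : indFun N α x = 0 := by
  rw [Cfsg.Agent.Helper2.indFun_apply]
  have h1 : ∀ y : G, extendByZero N α (y⁻¹ * x * y) = 0 := by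
    intro y
    by_cases hy : y⁻¹ * x * y ∈ N
    · rw [Cfsg.Agent.Helper2.extendByZero_of_mem N α hy]
      exact h y hy
    · exact Cfsg.Agent.Helper2.extendByZero_of_not_mem N α hy
  rw [Finset.sum_congr rfl (fun y _ => h1 y), Finset.sum_const_zero, mul_zero]

end Ind

section Partition

open Finset

open Classical in
theorem count_conj_into {G : Type*} [Group G] [Fintype G] (H : Subgroup G)
    (hTI : Cfsg.IsTISubset (H : Set G)) (g : G) :
    ∑ x : G, (if g ≠ 1 ∧ x * g * x⁻¹ ∈ H then 1 else 0) =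
      if (g ≠ 1 ∧ ∃ x : G, x * g * x⁻¹ ∈ H) then Nat.card (Subgroup.normalizer (H : Set G))
        else 0 := by
  classical
  obtain ⟨N, hN⟩ : ∃ N, N = Subgroup.normalizer (H : Set G) := ⟨_, rfl⟩
  rw [← hN]
  by_cases hg : g ≠ 1 ∧ ∃ x : G, x * g * x⁻¹ ∈ H
  · rw [if_pos hg]
    obtain ⟨hg1, x₀, hx₀⟩ := hg
    have hh₀1 : x₀ * g * x₀⁻¹ ≠ 1 := by
      intro h
      apply hg1
      have : g = x₀⁻¹ * (x₀ * g * x₀⁻¹) * x₀ := by group
      rw [this, h]; group
    have hNcard : Nat.card N = (univ.filter (fun a : G => a ∈ N)).card := by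
      rw [Nat.card_eq_fintype_card, Fintype.card_subtype]
    rw [← Finset.card_filter, hNcard]
    apply Finset.card_nbij' (fun x => x * x₀⁻¹) (fun t => t * x₀)
    · intro x hx
      simp only [Finset.coe_filter, Finset.mem_univ, true_and, Set.mem_setOf_eq] at hx ⊢
      by_contra hnot
      rw [hN] at hnot
      have h1 : x * x₀⁻¹ * (x₀ * g * x₀⁻¹) * (x * x₀⁻¹)⁻¹ ∈ (H : Set G) := by
        have : x * x₀⁻¹ * (x₀ * g * x₀⁻¹) * (x * x₀⁻¹)⁻¹ = x * g * x⁻¹ := by group
        rw [this]; exact hx.2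
      exact hh₀1 (hTI (x * x₀⁻¹) hnot (x₀ * g * x₀⁻¹) hx₀ h1)
    · intro t ht
      simp only [Finset.coe_filter, Finset.mem_univ, true_and, Set.mem_setOf_eq] at ht ⊢
      refine ⟨hg1, ?_⟩
      rw [hN] at ht
      have h1 := (Subgroup.mem_set_normalizer_iff.mp ht (x₀ * g * x₀⁻¹)).mp hx₀
      have : t * x₀ * g * (t * x₀)⁻¹ = t * (x₀ * g * x₀⁻¹) * t⁻¹ := by group
      rw [this]; exact h1
    · intro x _; group
    · intro t _; group
  · rw [if_neg hg]
    apply Finset.sum_eq_zero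
    intro x _
    rw [if_neg]
    rintro ⟨h1, h2⟩
    exact hg ⟨h1, x, h2⟩

open Classical in
theorem sum_conj_class {G : Type*} [Group G] [Fintype G] (H : Subgroup G)
    (hTI : Cfsg.IsTISubset (H : Set G)) (F : G → ℝ) (hF : ∀ g x : G, F (x * g * x⁻¹) = F g) :
    ∑ g ∈ univ.filter (fun g : G => g ≠ 1 ∧ ∃ x : G, x * g * x⁻¹ ∈ H), F g =
      ((Subgroup.normalizer (H : Set G)).index : ℝ) *
        ∑ h ∈ univ.filter (fun h : G => h ≠ 1 ∧ h ∈ H), F h := by
  classical
  obtain ⟨N, hN⟩ : ∃ N, N = Subgroup.normalizer (H : Set G) := ⟨_, rfl⟩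
  rw [← hN]
  have hcount1 : ∑ g : G, ∑ x : G, (if g ≠ 1 ∧ x * g * x⁻¹ ∈ H then F g else 0) =
      (Nat.card G : ℝ) * ∑ h ∈ univ.filter (fun h : G => h ≠ 1 ∧ h ∈ H), F h := by
    rw [Finset.sum_comm]
    have : ∀ x : G, ∑ g : G, (if g ≠ 1 ∧ x * g * x⁻¹ ∈ H then F g else 0) =
        ∑ h ∈ univ.filter (fun h : G => h ≠ 1 ∧ h ∈ H), F h := by
      intro x
      rw [← Finset.sum_filter]
      apply Finset.sum_nbij' (fun g => x * g * x⁻¹) (fun h => x⁻¹ * h * x)
      · intro g hg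
        simp only [Finset.mem_filter, Finset.mem_univ, true_and] at hg ⊢
        refine ⟨?_, hg.2⟩
        intro h
        apply hg.1
        have : g = x⁻¹ * (x * g * x⁻¹) * x := by group
        rw [this, h]; group
      · intro h hh
        simp only [Finset.mem_filter, Finset.mem_univ, true_and] at hh ⊢
        refine ⟨?_, ?_⟩
        · intro h'
          apply hh.1
          have : h = x * (x⁻¹ * h * x) * x⁻¹ := by group
          rw [this, h']; group
        · have : x * (x⁻¹ * h * x) * x⁻¹ = h := by group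
          rw [this]; exact hh.2
      · intro g _; group
      · intro h _; group
      · intro g _
        exact (hF g x).symm
    rw [Finset.sum_congr rfl (fun x _ => this x), Finset.sum_const, Finset.card_univ,
      nsmul_eq_mul, ← Nat.card_eq_fintype_card]
  have hcount2 : ∑ g : G, ∑ x : G, (if g ≠ 1 ∧ x * g * x⁻¹ ∈ H then F g else 0) =
      (Nat.card N : ℝ) * ∑ g ∈ univ.filter (fun g : G => g ≠ 1 ∧ ∃ x : G, x * g * x⁻¹ ∈ H), F g := by
    have : ∀ g : G, ∑ x : G, (if g ≠ 1 ∧ x * g * x⁻¹ ∈ H then F g else 0) =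
        if (g ≠ 1 ∧ ∃ x : G, x * g * x⁻¹ ∈ H) then (Nat.card N : ℝ) * F g else 0 := by
      intro g
      have h1 := count_conj_into H hTI g
      rw [← hN] at h1
      have h2 : ∑ x : G, (if g ≠ 1 ∧ x * g * x⁻¹ ∈ H then F g else 0) =
          ((∑ x : G, (if g ≠ 1 ∧ x * g * x⁻¹ ∈ H then 1 else 0) : ℕ) : ℝ) * F g := by
        rw [Nat.cast_sum, Finset.sum_mul]
        apply Finset.sum_congr rfl
        intro x _
        split_ifs <;> simp
      rw [h2, h1]
      split_ifs <;> simp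
    rw [Finset.sum_congr rfl (fun g _ => this g), ← Finset.sum_filter, Finset.mul_sum]
  have hNpos : (0 : ℝ) < Nat.card N := by exact_mod_cast Nat.card_pos
  have hidx : (N.index : ℝ) * (Nat.card N : ℝ) = (Nat.card G : ℝ) := by
    exact_mod_cast Subgroup.index_mul_card N
  have h3 := hcount2.symm.trans hcount1
  rw [← hidx] at h3
  have h4 : (Nat.card N : ℝ) * ∑ g ∈ univ.filter (fun g : G => g ≠ 1 ∧ ∃ x : G, x * g * x⁻¹ ∈ H), F g =
      (Nat.card N : ℝ) * ((N.index : ℝ) * ∑ h ∈ univ.filter (fun h : G => h ≠ 1 ∧ h ∈ H), F h) := by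
    rw [h3]; ring
  exact mul_left_cancel₀ hNpos.ne' h4

open Classical in
theorem sum_partition {G : Type*} [Group G] [Fintype G] {ι : Type*} [Fintype ι]
    (H : ι → Subgroup G)
    (hcop : ∀ i j, i ≠ j → Nat.Coprime (Nat.card (H i)) (Nat.card (H j)))
    (hTI : ∀ i, Cfsg.IsTISubset (H i : Set G))
    (hcover : ∀ g : G, g ≠ 1 → ∃ i, ∃ x : G, x * g * x⁻¹ ∈ H i)
    (F : G → ℝ) (hF : ∀ g x : G, F (x * g * x⁻¹) = F g) :
    ∑ g : G, F g = F 1 + ∑ i, ((Subgroup.normalizer (H i : Set G)).index : ℝ) *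
      ∑ h ∈ univ.filter (fun h : G => h ≠ 1 ∧ h ∈ H i), F h := by
  classical
  have hunion : (univ.filter (fun g : G => g ≠ 1)) =
      univ.biUnion (fun i => univ.filter (fun g : G => g ≠ 1 ∧ ∃ x : G, x * g * x⁻¹ ∈ H i)) := by
    ext g
    simp only [Finset.mem_filter, Finset.mem_univ, true_and, Finset.mem_biUnion]
    constructor
    · intro hg
      obtain ⟨i, x, hx⟩ := hcover g hg
      exact ⟨i, hg, x, hx⟩
    · rintro ⟨i, hg, _⟩
      exact hg
  have hdisj : ∀ i ∈ (univ : Finset ι), ∀ j ∈ (univ : Finset ι), i ≠ j →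
      Disjoint (univ.filter (fun g : G => g ≠ 1 ∧ ∃ x : G, x * g * x⁻¹ ∈ H i))
        (univ.filter (fun g : G => g ≠ 1 ∧ ∃ x : G, x * g * x⁻¹ ∈ H j)) := by
    intro i _ j _ hij
    rw [Finset.disjoint_left]
    intro g hgi hgj
    simp only [Finset.mem_filter, Finset.mem_univ, true_and] at hgi hgj
    obtain ⟨hg1, x, hx⟩ := hgi
    obtain ⟨_, y, hy⟩ := hgj
    apply hg1
    have h1 : orderOf g ∣ Nat.card (H i) := by
      rw [← orderOf_conj' x g]
      exact orderOf_dvd_of_pow_eq_one (pow_card_subgroup_eq_one _ hx)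
    have h2 : orderOf g ∣ Nat.card (H j) := by
      rw [← orderOf_conj' y g]
      exact orderOf_dvd_of_pow_eq_one (pow_card_subgroup_eq_one _ hy)
    exact orderOf_eq_one_iff.mp (Nat.eq_one_of_dvd_coprimes (hcop i j hij) h1 h2)
  have h1 : ∑ g : G, F g = F 1 + ∑ g ∈ univ.filter (fun g : G => g ≠ 1), F g := by
    rw [Finset.filter_ne' univ (1 : G), Finset.add_sum_erase _ _ (Finset.mem_univ _)]
  rw [h1, hunion, Finset.sum_biUnion hdisj]
  congr 1
  apply Finset.sum_congr rfl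
  intro i _
  exact sum_conj_class (H i) (hTI i) F hF

end Partition

end Cfsg.Agent.Helper11
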