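import Mathlib
import Cfsg.Agent.Helper11.FHT1

/-!
# Exceptional characters attached to a coherent TI Frobenius kernel (helper11)

`FhtData N K τ₁ ε χ₁` packages: a subgroup `K` of `G` which is a TI-set with normaliser `N`,
`N` a Frobenius group of odd order with kernel `K`, a coherent isometry `τ₁` on the integer
combinations of the irreducible characters of `N` not containing `K` in their kernel, its
sign `ε` and a character `χ₁` of degree `|N : K|` in that set.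
-/

set_option autoImplicit false

namespace Cfsg.Agent.Helper11

open Cfsg

open scoped ComplexConjugate

structure FhtData {G : Type*} [Group G] [Fintype G] (N : Subgroup G) [Fintype N]
    (K : Subgroup G) (τ₁ : (N → ℂ) → (G → ℂ)) (ε : ℂ) (χ₁ : N → ℂ) : Prop where
  ti : ∀ g : G, g ∉ N → ∀ x ∈ K, g * x * g⁻¹ ∈ K → x = 1
  normal : (K.subgroupOf N).Normal
  cent : ∀ h ∈ K.subgroupOf N, h ≠ 1 →
    Subgroup.centralizer ({h} : Set N) ≤ K.subgroupOf N
  ne_bot : K.subgroupOf N ≠ ⊥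
  ne_top : K.subgroupOf N ≠ ⊤
  odd : Odd (Nat.card N)
  le : K ≤ N
  iso : IsLinearIsometryOn (zspan (inducedIrrAbove (K.subgroupOf N) ⊥)) τ₁
  agree : ∀ α ∈ zspanOn (inducedIrrAbove (K.subgroupOf N) ⊥) {1}ᶜ, τ₁ α = indFun N α
  sign : ε = 1 ∨ ε = -1
  irr : ∀ χ ∈ inducedIrrAbove (K.subgroupOf N) ⊥, IsIrrCharacter G (ε • τ₁ χ)
  inj : ∀ χ ∈ inducedIrrAbove (K.subgroupOf N) ⊥,
    ∀ ψ ∈ inducedIrrAbove (K.subgroupOf N) ⊥, τ₁ χ = τ₁ ψ → χ = ψ
  base_mem : χ₁ ∈ inducedIrrAbove (K.subgroupOf N) ⊥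
  base_deg : χ₁ 1 = ((K.subgroupOf N).index : ℂ)

namespace FhtData

variable {G : Type*} [Group G] [Fintype G] {N : Subgroup G} [Fintype N] {K : Subgroup G}
  {τ₁ : (N → ℂ) → (G → ℂ)} {ε : ℂ} {χ₁ : N → ℂ}

theorem irrS (D : FhtData N K τ₁ ε χ₁) {χ : N → ℂ}
    (hχ : χ ∈ inducedIrrAbove (K.subgroupOf N) ⊥) : IsIrrCharacter N χ :=
  have _i := D.normal
  frob_irr_of_mem (K.subgroupOf N) D.cent hχ

theorem vanish (D : FhtData N K τ₁ ε χ₁) {χ : N → ℂ}
    (hχ : χ ∈ inducedIrrAbove (K.subgroupOf N) ⊥) (x : N) (hx : x ∉ K.subgroupOf N) :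
    χ x = 0 := by
  haveI := D.normal
  obtain ⟨θ, -, -, -, rfl⟩ := hχ
  exact Cfsg.Agent.Helper7.indFun_apply_of_not_mem_normal (K.subgroupOf N) θ x hx

theorem exists_not_mem (D : FhtData N K τ₁ ε χ₁) : ∃ x : N, x ∉ K.subgroupOf N := by
  by_contra hcon
  push Not at hcon
  exact D.ne_top ((Subgroup.eq_top_iff' _).mpr hcon)

theorem conj_mem (_D : FhtData N K τ₁ ε χ₁) {χ : N → ℂ}
    (hχ : χ ∈ inducedIrrAbove (K.subgroupOf N) ⊥) :
    conjFun χ ∈ inducedIrrAbove (K.subgroupOf N) ⊥ :=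
  conj_mem_inducedIrrAbove (K.subgroupOf N) ⊥ hχ

theorem ne_one (D : FhtData N K τ₁ ε χ₁) {χ : N → ℂ}
    (hχ : χ ∈ inducedIrrAbove (K.subgroupOf N) ⊥) : χ ≠ fun _ => 1 := by
  intro h
  obtain ⟨x, hx⟩ := D.exists_not_mem
  have h2 := D.vanish hχ x hx
  rw [h] at h2
  exact one_ne_zero h2

theorem conj_ne (D : FhtData N K τ₁ ε χ₁) {χ : N → ℂ}
    (hχ : χ ∈ inducedIrrAbove (K.subgroupOf N) ⊥) : conjFun χ ≠ χ := by
  intro hconj
  have hreal : ∀ g : N, (χ g).im = 0 := by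
    intro g
    have h1 := congrFun hconj g
    exact Complex.conj_eq_iff_im.mp h1
  have h1 := Cfsg.Agent.S0161.result D.odd ⟨χ, D.irrS hχ⟩ hreal
  exact D.ne_one hχ h1

theorem mem_zspan (_D : FhtData N K τ₁ ε χ₁) {χ : N → ℂ}
    (hχ : χ ∈ inducedIrrAbove (K.subgroupOf N) ⊥) :
    χ ∈ zspan (inducedIrrAbove (K.subgroupOf N) ⊥) := Submodule.subset_span hχ

theorem eps_ne_zero (D : FhtData N K τ₁ ε χ₁) : ε ≠ 0 := by
  rcases D.sign with h | h <;> rw [h] <;> norm_num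

theorem eps_mul_self (D : FhtData N K τ₁ ε χ₁) : ε * ε = 1 := by
  rcases D.sign with h | h <;> rw [h] <;> norm_num

theorem eps_conj (D : FhtData N K τ₁ ε χ₁) : conj ε = ε := by
  rcases D.sign with h | h <;> rw [h] <;> simp

theorem conjFun_eps_smul (D : FhtData N K τ₁ ε χ₁) (f : G → ℂ) :
    conjFun (ε • f) = ε • conjFun f := by
  funext x
  simp only [conjFun, Pi.smul_apply, smul_eq_mul, map_mul, D.eps_conj]

/-- `τ₁` vanishes, on integer combinations of degree zero, at the elements not conjugate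
into `K`. -/
theorem offsupport (D : FhtData N K τ₁ ε χ₁) {α : N → ℂ}
    (hα : α ∈ zspanOn (inducedIrrAbove (K.subgroupOf N) ⊥) {1}ᶜ) (x : G)
    (hx : ∀ g : G, g * x * g⁻¹ ∉ K) : τ₁ α x = 0 := by
  rw [D.agree α hα]
  apply indFun_eq_zero_of_forall
  intro y hy
  have hvan : ∀ χ ∈ inducedIrrAbove (K.subgroupOf N) ⊥, ∀ z : N,
      z ∉ ((K.subgroupOf N : Subgroup N) : Set N) → χ z = 0 :=
    fun χ hχ z hz => D.vanish hχ z hz
  apply zspan_vanish _ hvan hα.1
  intro hmem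
  have h1 : y⁻¹ * x * y ∈ K := Subgroup.mem_subgroupOf.mp hmem
  have h2 := hx y⁻¹
  rw [inv_inv] at h2
  exact h2 h1

/-- Complex conjugation commutes with `τ₁` on the characters. -/
theorem conj_tau (D : FhtData N K τ₁ ε χ₁) {χ : N → ℂ}
    (hχ : χ ∈ inducedIrrAbove (K.subgroupOf N) ⊥) :
    conjFun (τ₁ χ) = τ₁ (conjFun χ) := by
  classical
  have key : ∀ χ ∈ inducedIrrAbove (K.subgroupOf N) ⊥,
      conjFun (τ₁ (conjFun χ)) = τ₁ χ := by
    intro χ hχ
    have hχc := D.conj_mem hχ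
    have hne := D.conj_ne hχ
    have hmem : χ - conjFun χ ∈ zspanOn (inducedIrrAbove (K.subgroupOf N) ⊥) {1}ᶜ :=
      sub_conj_mem_zspanOn hχ hχc (Cfsg.Agent.Helper25.isCharacter_of_irr (D.irrS hχ))
    have h1 : τ₁ (χ - conjFun χ) = τ₁ χ - τ₁ (conjFun χ) :=
      isLinIso_map_sub D.iso (D.mem_zspan hχ) (D.mem_zspan hχc)
    have h2 : τ₁ (χ - conjFun χ) = indFun N (χ - conjFun χ) := D.agree _ hmem
    have h3 : conjFun (indFun N (χ - conjFun χ)) = -indFun N (χ - conjFun χ) := by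
      have h4 := Cfsg.Agent.Helper2.indFun_conj N (χ - conjFun χ)
      have h5 : (fun h : N => conj ((χ - conjFun χ) h)) = (-1 : ℂ) • (χ - conjFun χ) := by
        funext h
        simp [conjFun]
      rw [h5, Cfsg.Agent.Helper2.indFun_smul] at h4
      show (fun g => conj (indFun N (χ - conjFun χ) g)) = _
      rw [h4, neg_one_smul]
    rw [← h2, h1] at h3
    -- `h3 : conjFun (τ₁ χ - τ₁ (conjFun χ)) = -(τ₁ χ - τ₁ (conjFun χ))`
    obtain ⟨A, hA⟩ : ∃ A, A = ε • τ₁ χ := ⟨_, rfl⟩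
    obtain ⟨B, hB⟩ : ∃ B, B = ε • τ₁ (conjFun χ) := ⟨_, rfl⟩
    have hAirr : IsIrrCharacter G A := hA ▸ D.irr χ hχ
    have hBirr : IsIrrCharacter G B := hB ▸ D.irr _ hχc
    have hAB : B ≠ A := by
      intro h
      rw [hA, hB] at h
      have h6 : τ₁ (conjFun χ) = τ₁ χ := by
        have h7 := congrArg (fun f => ε • f) h
        simp only [smul_smul, D.eps_mul_self, one_smul] at h7
        exact h7
      exact hne (D.inj _ hχc _ hχ h6)
    have hE : conjFun A - conjFun B = B - A := by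
      have h6 : conjFun A - conjFun B = ε • conjFun (τ₁ χ - τ₁ (conjFun χ)) := by
        rw [hA, hB, D.conjFun_eps_smul, D.conjFun_eps_smul]
        funext x
        simp only [conjFun, Pi.sub_apply, Pi.smul_apply, smul_eq_mul, map_sub]
        ring
      rw [h6, h3, hA, hB]
      funext x
      simp only [Pi.sub_apply, Pi.smul_apply, smul_eq_mul, Pi.neg_apply]
      ring
    have hcA : IsIrrCharacter G (conjFun A) := Cfsg.Agent.Helper2.isIrrCharacter_conj hAirr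
    have hcB : IsIrrCharacter G (conjFun B) := Cfsg.Agent.Helper2.isIrrCharacter_conj hBirr
    have h7 : classInner (conjFun A - conjFun B) A = classInner (B - A) A := by rw [hE]
    rw [Cfsg.Agent.Helper2.classInner_sub_left, Cfsg.Agent.Helper2.classInner_sub_left,
      irr_inner_fun hcA hAirr, irr_inner_fun hcB hAirr, irr_inner_fun hBirr hAirr,
      irr_inner_fun hAirr hAirr, if_neg hAB, if_pos rfl] at h7
    have h8 : conjFun B = A := by
      by_contra hcon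
      rw [if_neg hcon] at h7
      split_ifs at h7 <;> norm_num at h7
    rw [hA, hB, D.conjFun_eps_smul] at h8
    have h9 := congrArg (fun f => ε • f) h8
    simp only [smul_smul, D.eps_mul_self, one_smul] at h9
    exact h9
  have h1 := key (conjFun χ) (D.conj_mem hχ)
  rw [conjFun_conjFun] at h1
  exact h1

/-- Off the conjugates of `K`, the values of `τ₁ χ` are proportional to the degrees. -/
theorem prop_off (D : FhtData N K τ₁ ε χ₁) {χ : N → ℂ}
    (hχ : χ ∈ inducedIrrAbove (K.subgroupOf N) ⊥) (x : G) (hx : ∀ g : G, g * x * g⁻¹ ∉ K) :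
    ((K.subgroupOf N).index : ℂ) * τ₁ χ x = (charDegree χ : ℂ) * τ₁ χ₁ x := by
  have hd : χ 1 = (charDegree χ : ℂ) :=
    Cfsg.Agent.Helper25.irr_one_eq_degree (⟨χ, D.irrS hχ⟩ : IrrCharacter N)
  have hmem : (((K.subgroupOf N).index : ℤ) • χ - ((charDegree χ : ℕ) : ℤ) • χ₁) ∈
      zspanOn (inducedIrrAbove (K.subgroupOf N) ⊥) {1}ᶜ := by
    apply mem_zspanOn_compl_one (Submodule.sub_mem _ (Submodule.smul_mem _ _ (D.mem_zspan hχ))
      (Submodule.smul_mem _ _ (D.mem_zspan D.base_mem)))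
    rw [zsmul_fun_eq, zsmul_fun_eq]
    simp only [Pi.sub_apply, Pi.smul_apply, smul_eq_mul, hd, D.base_deg]
    push_cast
    ring
  have h1 := D.offsupport hmem x hx
  rw [isLinIso_map_zsmul_sub D.iso (D.mem_zspan hχ) (D.mem_zspan D.base_mem), zsmul_fun_eq,
    zsmul_fun_eq] at h1
  simp only [Pi.sub_apply, Pi.smul_apply, smul_eq_mul] at h1
  push_cast at h1
  linear_combination h1

theorem inner_tau (D : FhtData N K τ₁ ε χ₁) {χ : N → ℂ}
    (hχ : χ ∈ inducedIrrAbove (K.subgroupOf N) ⊥) (ζ : IrrCharacter G) :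
    classInner (τ₁ χ) (ζ : G → ℂ) =
      ε * (if ε • τ₁ χ = (ζ : G → ℂ) then 1 else 0) := by
  classical
  have h2 : τ₁ χ = ε • (ε • τ₁ χ) := by rw [smul_smul, D.eps_mul_self, one_smul]
  conv_lhs => rw [h2]
  rw [Cfsg.Agent.Helper2.classInner_smul_left, irr_inner_fun (D.irr χ hχ) ζ.2]

theorem mem_of_not_le_ker (D : FhtData N K τ₁ ε χ₁) (θ : IrrCharacter N)
    (hθ : ¬ K.subgroupOf N ≤ Cfsg.Agent.Helper25.irrKer θ) :
    (θ : N → ℂ) ∈ inducedIrrAbove (K.subgroupOf N) ⊥ := by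
  have _i := D.normal
  rw [← frob_irr_set_eq (K.subgroupOf N) D.cent]
  obtain ⟨h, hh, hh2⟩ := SetLike.not_le_iff_exists.mp hθ
  exact ⟨θ.2, h, hh, fun heq => hh2 ((Cfsg.Agent.Helper25.mem_irrKer θ h).mpr heq)⟩

theorem not_le_ker_of_mem (D : FhtData N K τ₁ ε χ₁) (θ : IrrCharacter N)
    (hθ : (θ : N → ℂ) ∈ inducedIrrAbove (K.subgroupOf N) ⊥) :
    ¬ K.subgroupOf N ≤ Cfsg.Agent.Helper25.irrKer θ := by
  have _i := D.normal
  intro hle
  rw [← frob_irr_set_eq (K.subgroupOf N) D.cent] at hθ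
  obtain ⟨-, h, hh, hne⟩ := hθ
  exact hne ((Cfsg.Agent.Helper25.mem_irrKer θ h).mp (hle hh))

/-- An irreducible character of `G` other than the `ε τ₁ χ` with `χ ≠ χ₁` is, on `K ∖ 1`, an
integer constant plus `b χ₁`, where `b = ε` if it equals `ε τ₁ χ₁` and `b = 0` otherwise. -/
theorem restrict (D : FhtData N K τ₁ ε χ₁) (ζ : IrrCharacter G)
    (hζ : ∀ χ ∈ inducedIrrAbove (K.subgroupOf N) ⊥, χ ≠ χ₁ → (ζ : G → ℂ) ≠ ε • τ₁ χ) (b : ℤ)
    (hb : (b : ℂ) = ε * (if ε • τ₁ χ₁ = (ζ : G → ℂ) then 1 else 0)) :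
    ∃ c : ℤ, ∀ k : N, (k : G) ∈ K → k ≠ 1 →
      (ζ : G → ℂ) k = (b : ℂ) * χ₁ k + (c : ℂ) := by
  classical
  have _i := D.normal
  obtain ⟨F, hFdef⟩ : ∃ F : N → ℂ, F = fun n : N => (ζ : G → ℂ) n := ⟨_, rfl⟩
  have hFchar : IsCharacter N F :=
    hFdef ▸ Cfsg.Agent.Helper2.isCharacter_restrict N (Cfsg.Agent.Helper25.irr_isCharacter ζ)
  have hFcls : IsClassFunction N F := Cfsg.Agent.Helper25.char_isClassFunction hFchar
  have hint : ∀ θ : IrrCharacter N, ∃ m : ℤ, classInner F (θ : N → ℂ) = (m : ℂ) := by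
    intro θ
    obtain ⟨m, hm⟩ := Cfsg.Agent.Helper2.classInner_char_nat hFchar
      (Cfsg.Agent.Helper25.irr_isCharacter θ)
    exact ⟨m, by rw [hm]; simp⟩
  obtain ⟨χ₁', hχ₁'⟩ : ∃ χ₁' : IrrCharacter N, (χ₁' : N → ℂ) = χ₁ :=
    ⟨⟨χ₁, D.irrS D.base_mem⟩, rfl⟩
  have hχ₁ker : ¬ K.subgroupOf N ≤ Cfsg.Agent.Helper25.irrKer χ₁' :=
    D.not_le_ker_of_mem χ₁' (hχ₁' ▸ D.base_mem)
  obtain ⟨n₁, hn₁⟩ := hint χ₁'
  have hrel : ∀ θ : IrrCharacter N, ¬ K.subgroupOf N ≤ Cfsg.Agent.Helper25.irrKer θ →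
      ((K.subgroupOf N).index : ℂ) * classInner F (θ : N → ℂ) =
        (θ : N → ℂ) 1 * ((n₁ - b : ℤ) : ℂ) +
          (if θ = χ₁' then ((K.subgroupOf N).index : ℂ) * (b : ℂ) else 0) := by
    intro θ hθ
    by_cases hθ1 : θ = χ₁'
    · rw [if_pos hθ1, hθ1, hn₁, hχ₁', D.base_deg]
      push_cast
      ring
    · rw [if_neg hθ1, add_zero]
      have hθS := D.mem_of_not_le_ker θ hθ
      have hθne : (θ : N → ℂ) ≠ χ₁ := fun h => hθ1 (Subtype.ext (h.trans hχ₁'.symm))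
      have hd := Cfsg.Agent.Helper25.irr_one_eq_degree θ
      have hmem : (((K.subgroupOf N).index : ℤ) • (θ : N → ℂ) -
          ((charDegree (θ : N → ℂ) : ℕ) : ℤ) • χ₁) ∈
          zspanOn (inducedIrrAbove (K.subgroupOf N) ⊥) {1}ᶜ := by
        apply mem_zspanOn_compl_one (Submodule.sub_mem _
          (Submodule.smul_mem _ _ (D.mem_zspan hθS))
          (Submodule.smul_mem _ _ (D.mem_zspan D.base_mem)))
        rw [zsmul_fun_eq, zsmul_fun_eq]
        simp only [Pi.sub_apply, Pi.smul_apply, smul_eq_mul, hd, D.base_deg]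
        push_cast
        ring
      have h1 : classInner (indFun N (((K.subgroupOf N).index : ℤ) • (θ : N → ℂ) -
          ((charDegree (θ : N → ℂ) : ℕ) : ℤ) • χ₁)) (ζ : G → ℂ) =
          classInner (((K.subgroupOf N).index : ℤ) • (θ : N → ℂ) -
            ((charDegree (θ : N → ℂ) : ℕ) : ℤ) • χ₁) F := by
        rw [hFdef]
        exact Cfsg.Agent.Helper2.frobenius_reciprocity N _ _
          (Cfsg.Agent.Helper25.char_isClassFunction (Cfsg.Agent.Helper25.irr_isCharacter ζ))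
      obtain ⟨mθ, hmθ⟩ := hint θ
      rw [hχ₁'] at hn₁
      rw [← D.agree _ hmem,
        isLinIso_map_zsmul_sub D.iso (D.mem_zspan hθS) (D.mem_zspan D.base_mem),
        zsmul_fun_eq, zsmul_fun_eq, zsmul_fun_eq, zsmul_fun_eq,
        Cfsg.Agent.Helper2.classInner_sub_left, Cfsg.Agent.Helper2.classInner_sub_left,
        Cfsg.Agent.Helper2.classInner_smul_left, Cfsg.Agent.Helper2.classInner_smul_left,
        Cfsg.Agent.Helper2.classInner_smul_left, Cfsg.Agent.Helper2.classInner_smul_left,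
        D.inner_tau hθS ζ, D.inner_tau D.base_mem ζ,
        if_neg (fun h => hζ _ hθS hθne h.symm), ← hb,
        Cfsg.Agent.Helper2.classInner_conj_symm F (θ : N → ℂ),
        Cfsg.Agent.Helper2.classInner_conj_symm F χ₁, hmθ, hn₁, map_intCast,
        map_intCast] at h1
      rw [hmθ, hd]
      push_cast at h1 ⊢
      linear_combination (-1 : ℂ) * h1
  obtain ⟨c, hc⟩ := restrict_value (K.subgroupOf N) F hFcls hint χ₁' hχ₁ker (n₁ - b) b hrel
  refine ⟨c, fun k hk hk1 => ?_⟩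
  have h2 := hc k (Subgroup.mem_subgroupOf.mpr hk) hk1
  rw [hχ₁', hFdef] at h2
  exact h2

open Classical in
/-- The test function `Ψ = Ind (e 1_K - χ₁)`. -/
theorem exists_psi (D : FhtData N K τ₁ ε χ₁) :
    ∃ Ψ : G → ℂ, IsClassFunction G Ψ ∧
      (∀ x : G, (x = 1 ∨ ∀ g : G, g * x * g⁻¹ ∉ K) → Ψ x = 0) ∧
      classInner Ψ Ψ = ((K.subgroupOf N).index : ℂ) + 1 ∧
      (∀ ζ : IrrCharacter G, ∃ m : ℤ, classInner Ψ (ζ : G → ℂ) = (m : ℂ)) ∧
      (∀ (F : G → ℂ) (z : ℂ), IsClassFunction G F → (∀ k ∈ K, k ≠ 1 → F k = z) →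
        classInner Ψ F = conj z) ∧
      (∀ ζ : IrrCharacter G, classInner Ψ (conjFun (ζ : G → ℂ)) =
        classInner Ψ (ζ : G → ℂ) + ε * ((if ε • τ₁ χ₁ = (ζ : G → ℂ) then 1 else 0) -
          (if ε • τ₁ (conjFun χ₁) = (ζ : G → ℂ) then 1 else 0))) := by
  have _i := D.normal
  obtain ⟨e, he⟩ : ∃ e : ℕ, e = (K.subgroupOf N).index := ⟨_, rfl⟩
  obtain ⟨φ, hφdef⟩ : ∃ φ : N → ℂ, φ = indFun (K.subgroupOf N) (fun _ => (1 : ℂ)) := ⟨_, rfl⟩
  have hφchar : IsCharacter N φ :=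
    hφdef ▸ Cfsg.Agent.Helper2.isCharacter_indFun _ Cfsg.Agent.Helper2.isCharacter_one
  have hφval : ∀ x : N, φ x = if x ∈ K.subgroupOf N then (e : ℂ) else 0 := by
    intro x
    rw [hφdef]
    by_cases hx : x ∈ K.subgroupOf N
    · rw [if_pos hx]
      have h1 := Cfsg.Agent.Helper7.indFun_apply_invariant (K.subgroupOf N)
        (fun _ => (1 : ℂ)) (fun _ _ => rfl) ⟨x, hx⟩
      rw [h1, mul_one, he]
    · rw [if_neg hx]
      exact Cfsg.Agent.Helper7.indFun_apply_of_not_mem_normal _ _ x hx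
  obtain ⟨β, hβdef⟩ : ∃ β : N → ℂ, β = φ - χ₁ := ⟨_, rfl⟩
  have hχ₁irr := D.irrS D.base_mem
  have hχ₁char := Cfsg.Agent.Helper25.isCharacter_of_irr hχ₁irr
  have hβgen : IsGeneralizedCharacter N β := ⟨φ, χ₁, hφchar, hχ₁char, hβdef⟩
  have hβcls : IsClassFunction N β := generalized_isClassFunction hβgen
  have hβ1 : β 1 = 0 := by
    rw [hβdef, Pi.sub_apply, hφval, if_pos (Subgroup.one_mem _), D.base_deg, he, sub_self]
  have hβoff : ∀ x : N, (x : G) ∉ ((K : Subgroup G) : Set G) → β x = 0 := by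
    intro x hx
    have hx' : x ∉ K.subgroupOf N := fun h => hx (Subgroup.mem_subgroupOf.mp h)
    rw [hβdef, Pi.sub_apply, hφval, if_neg hx', D.vanish D.base_mem x hx', sub_zero]
  have hone_irr : IsIrrCharacter N (fun _ => (1 : ℂ)) := (Cfsg.Agent.Helper25.trivChar N).2
  have hχ₁one : classInner χ₁ (fun _ : N => (1 : ℂ)) = 0 := by
    rw [irr_inner_fun hχ₁irr hone_irr, if_neg (D.ne_one D.base_mem)]
  have hinnerφ : ∀ f : N → ℂ, (∀ x : N, x ∉ K.subgroupOf N → f x = 0) →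
      classInner f φ = (e : ℂ) * classInner f (fun _ : N => (1 : ℂ)) := by
    intro f hf
    have h1 : ∀ x : N, f x * conj (φ x) =
        (e : ℂ) * (f x * conj ((fun _ : N => (1 : ℂ)) x)) := by
      intro x
      rw [hφval]
      by_cases hx : x ∈ K.subgroupOf N
      · rw [if_pos hx]
        simp
        ring
      · rw [if_neg hx, hf x hx]
        simp
    simp only [classInner]
    rw [Finset.sum_congr rfl (fun x _ => h1 x), ← Finset.mul_sum]
    ring
  have hφone : classInner φ (fun _ : N => (1 : ℂ)) = 1 := by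
    rw [hφdef, Cfsg.Agent.Helper2.frobenius_reciprocity _ _ _
      (Cfsg.Agent.Helper25.char_isClassFunction Cfsg.Agent.Helper2.isCharacter_one)]
    simp only [classInner]
    have h1 : ∑ h : ↥(K.subgroupOf N), (1 : ℂ) * conj (1 : ℂ) =
        (Nat.card ↥(K.subgroupOf N) : ℂ) := by
      simp [Nat.card_eq_fintype_card]
    rw [h1]
    exact inv_mul_cancel₀ (Cfsg.Agent.Helper2.natCard_ne_zero_complex _)
  have hφφ : classInner φ φ = (e : ℂ) := by
    rw [hinnerφ φ (fun x hx => by rw [hφval, if_neg hx]), hφone, mul_one]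
  have hχ₁φ : classInner χ₁ φ = 0 := by
    rw [hinnerφ χ₁ (fun x hx => D.vanish D.base_mem x hx), hχ₁one, mul_zero]
  have hφχ₁ : classInner φ χ₁ = 0 := by
    rw [Cfsg.Agent.Helper2.classInner_conj_symm χ₁ φ, hχ₁φ, map_zero]
  have hχ₁χ₁ : classInner χ₁ χ₁ = 1 := by rw [irr_inner_fun hχ₁irr hχ₁irr, if_pos rfl]
  have hββ : classInner β β = (e : ℂ) + 1 := by
    rw [hβdef, Cfsg.Agent.Helper2.classInner_sub_left, Cfsg.Agent.Helper2.classInner_sub_right,
      Cfsg.Agent.Helper2.classInner_sub_right, hφφ, hφχ₁, hχ₁φ, hχ₁χ₁]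
    ring
  have hβone : classInner β (fun _ : N => (1 : ℂ)) = 1 := by
    rw [hβdef, Cfsg.Agent.Helper2.classInner_sub_left, hφone, hχ₁one, sub_zero]
  refine ⟨indFun N β, Cfsg.Agent.Helper2.indFun_isClassFunction N β, ?_, ?_, ?_, ?_, ?_⟩
  · rintro x (rfl | hx)
    · rw [Cfsg.Agent.Helper2.indFun_one_apply, hβ1, mul_zero]
    · apply indFun_eq_zero_of_forall
      intro y hy
      apply hβoff
      intro hmem
      have h2 := hx y⁻¹
      rw [inv_inv] at h2
      exact h2 hmem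
  · rw [ti_classInner_indFun N ((K : Subgroup G) : Set G) D.ti β β hβ1 hβoff hβcls hβoff, hββ,
      he]
  · intro ζ
    exact classInner_virtual_int (Cfsg.Agent.Helper2.isGeneralizedCharacter_indFun N hβgen)
      (irr_generalized ζ)
  · intro F z hF hFz
    rw [Cfsg.Agent.Helper2.frobenius_reciprocity N β F hF]
    have h1 : ∀ x : N, β x * conj (F x) =
        conj z * (β x * conj ((fun _ : N => (1 : ℂ)) x)) := by
      intro x
      by_cases hx : (x : G) ∈ K ∧ x ≠ 1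
      · have h3 := hFz x hx.1 (fun h => hx.2 (Subtype.ext h))
        rw [h3]
        simp
        ring
      · have hβx : β x = 0 := by
          by_cases hxK : (x : G) ∈ K
          · have h4 : x = 1 := by
              by_contra h
              exact hx ⟨hxK, h⟩
            rw [h4, hβ1]
          · exact hβoff x hxK
        rw [hβx]
        simp
    have h2 : classInner β (fun n : N => F n) =
        conj z * classInner β (fun _ : N => (1 : ℂ)) := by
      simp only [classInner]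
      rw [Finset.sum_congr rfl (fun x _ => h1 x), ← Finset.mul_sum]
      ring
    rw [h2, hβone, mul_one]
  · intro ζ
    have hχc := D.conj_mem D.base_mem
    have h1 : classInner (indFun N β) (conjFun (ζ : G → ℂ)) =
        conj (classInner (conjFun (indFun N β)) (ζ : G → ℂ)) := by
      rw [classInner_conjFun_left, Complex.conj_conj]
    have h2 : conjFun (indFun N β) = indFun N β + (τ₁ χ₁ - τ₁ (conjFun χ₁)) := by
      have h3 := Cfsg.Agent.Helper2.indFun_conj N β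
      have h4 : (fun h : N => conj (β h)) = β + (χ₁ - conjFun χ₁) := by
        funext x
        rw [hβdef]
        simp only [Pi.sub_apply, Pi.add_apply, conjFun, map_sub, hφval]
        split_ifs <;> (simp; try ring)
      have hmem : χ₁ - conjFun χ₁ ∈ zspanOn (inducedIrrAbove (K.subgroupOf N) ⊥) {1}ᶜ :=
        sub_conj_mem_zspanOn D.base_mem hχc hχ₁char
      show (fun g => conj (indFun N β g)) = _
      rw [h3, h4, Cfsg.Agent.Helper2.indFun_add, ← D.agree _ hmem,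
        isLinIso_map_sub D.iso (D.mem_zspan D.base_mem) (D.mem_zspan hχc)]
    obtain ⟨m, hm⟩ := classInner_virtual_int
      (Cfsg.Agent.Helper2.isGeneralizedCharacter_indFun N hβgen) (irr_generalized ζ)
    rw [h1, h2, Cfsg.Agent.Helper2.classInner_add_left, Cfsg.Agent.Helper2.classInner_sub_left,
      D.inner_tau D.base_mem ζ, D.inner_tau hχc ζ, hm]
    simp only [map_add, map_sub, map_mul, map_intCast, D.eps_conj]
    split_ifs <;> simp

theorem smul_cancel (D : FhtData N K τ₁ ε χ₁) {f g : G → ℂ} (h : ε • f = ε • g) : f = g := by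
  have h7 := congrArg (fun f => ε • f) h
  simp only [smul_smul, D.eps_mul_self, one_smul] at h7
  exact h7

open Classical in
theorem phi_facts (D : FhtData N K τ₁ ε χ₁) :
    ∃ φ : N → ℂ,
      (∀ x : N, φ x = if x ∈ K.subgroupOf N then ((K.subgroupOf N).index : ℂ) else 0) ∧
      classInner φ φ = ((K.subgroupOf N).index : ℂ) ∧ classInner χ₁ φ = 0 ∧
      classInner φ χ₁ = 0 ∧ classInner χ₁ χ₁ = 1 := by
  have _i := D.normal
  obtain ⟨e, he⟩ : ∃ e : ℕ, e = (K.subgroupOf N).index := ⟨_, rfl⟩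
  rw [← he]
  obtain ⟨φ, hφdef⟩ : ∃ φ : N → ℂ, φ = indFun (K.subgroupOf N) (fun _ => (1 : ℂ)) := ⟨_, rfl⟩
  have hφval : ∀ x : N, φ x = if x ∈ K.subgroupOf N then (e : ℂ) else 0 := by
    intro x
    rw [hφdef]
    by_cases hx : x ∈ K.subgroupOf N
    · rw [if_pos hx]
      have h1 := Cfsg.Agent.Helper7.indFun_apply_invariant (K.subgroupOf N)
        (fun _ => (1 : ℂ)) (fun _ _ => rfl) ⟨x, hx⟩
      rw [h1, mul_one, he]
    · rw [if_neg hx]
      exact Cfsg.Agent.Helper7.indFun_apply_of_not_mem_normal _ _ x hx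
  have hχ₁irr := D.irrS D.base_mem
  have hone_irr : IsIrrCharacter N (fun _ => (1 : ℂ)) := (Cfsg.Agent.Helper25.trivChar N).2
  have hχ₁one : classInner χ₁ (fun _ : N => (1 : ℂ)) = 0 := by
    rw [irr_inner_fun hχ₁irr hone_irr, if_neg (D.ne_one D.base_mem)]
  have hinnerφ : ∀ f : N → ℂ, (∀ x : N, x ∉ K.subgroupOf N → f x = 0) →
      classInner f φ = (e : ℂ) * classInner f (fun _ : N => (1 : ℂ)) := by
    intro f hf
    have h1 : ∀ x : N, f x * conj (φ x) =
        (e : ℂ) * (f x * conj ((fun _ : N => (1 : ℂ)) x)) := by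
      intro x
      rw [hφval]
      by_cases hx : x ∈ K.subgroupOf N
      · rw [if_pos hx]
        simp
        ring
      · rw [if_neg hx, hf x hx]
        simp
    simp only [classInner]
    rw [Finset.sum_congr rfl (fun x _ => h1 x), ← Finset.mul_sum]
    ring
  have hφone : classInner φ (fun _ : N => (1 : ℂ)) = 1 := by
    rw [hφdef, Cfsg.Agent.Helper2.frobenius_reciprocity _ _ _
      (Cfsg.Agent.Helper25.char_isClassFunction Cfsg.Agent.Helper2.isCharacter_one)]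
    simp only [classInner]
    have h1 : ∑ h : ↥(K.subgroupOf N), (1 : ℂ) * conj (1 : ℂ) =
        (Nat.card ↥(K.subgroupOf N) : ℂ) := by
      simp [Nat.card_eq_fintype_card]
    rw [h1]
    exact inv_mul_cancel₀ (Cfsg.Agent.Helper2.natCard_ne_zero_complex _)
  have hχ₁φ : classInner χ₁ φ = 0 := by
    rw [hinnerφ χ₁ (fun x hx => D.vanish D.base_mem x hx), hχ₁one, mul_zero]
  refine ⟨φ, hφval, ?_, hχ₁φ, ?_, ?_⟩
  · rw [hinnerφ φ (fun x hx => by rw [hφval, if_neg hx]), hφone, mul_one]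
  · rw [Cfsg.Agent.Helper2.classInner_conj_symm χ₁ φ, hχ₁φ, map_zero]
  · rw [irr_inner_fun hχ₁irr hχ₁irr, if_pos rfl]

end FhtData

open Classical in
theorem sum_subgroup_transfer {G : Type*} [Group G] [Fintype G] (N : Subgroup G) [Fintype N]
    (K : Subgroup G) (hKN : K ≤ N) (f : G → ℝ) :
    ∑ x : N, (if (x : G) ≠ 1 ∧ (x : G) ∈ K then f x else 0) =
      ∑ k ∈ Finset.univ.filter (fun k : G => k ≠ 1 ∧ k ∈ K), f k := by
  rw [Finset.sum_filter,
    ← Finset.sum_subtype (Finset.univ.filter (fun a : G => a ∈ N)) (by simp)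
      (fun a : G => if a ≠ 1 ∧ a ∈ K then f a else 0), Finset.sum_filter]
  apply Finset.sum_congr rfl
  intro a _
  by_cases ha : a ≠ 1 ∧ a ∈ K
  · rw [if_pos ha, if_pos (hKN ha.2)]
  · rw [if_neg ha]
    simp

namespace FhtData

variable {G : Type*} [Group G] [Fintype G] {N : Subgroup G} [Fintype N] {K : Subgroup G}
  {τ₁ : (N → ℂ) → (G → ℂ)} {ε : ℂ} {χ₁ : N → ℂ}

open Classical in
theorem mass (D : FhtData N K τ₁ ε χ₁)
    (hbig : 2 * (K.subgroupOf N).index + 1 ≤ Nat.card K) :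
    ((K.subgroupOf N).index : ℝ) * (Nat.card K : ℝ) - ((K.subgroupOf N).index : ℝ) ^ 2 ≤
      ∑ k ∈ Finset.univ.filter (fun k : G => k ≠ 1 ∧ k ∈ K),
        Complex.normSq ((ε • τ₁ χ₁) k) := by
  have _i := D.normal
  obtain ⟨φ, hφval, hφφ, hχ₁φ, hφχ₁, hχ₁χ₁⟩ := D.phi_facts
  obtain ⟨e, he⟩ : ∃ e : ℕ, e = (K.subgroupOf N).index := ⟨_, rfl⟩
  obtain ⟨h, hh⟩ : ∃ h : ℕ, h = Nat.card K := ⟨_, rfl⟩
  rw [← he] at hφval hφφ
  rw [← he, ← hh] at hbig ⊢
  have hepos : 0 < e := by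
    rw [he]
    exact Nat.pos_of_ne_zero Subgroup.index_ne_zero_of_finite
  have hcardK : Nat.card (K.subgroupOf N) = h := by
    rw [hh]
    exact Nat.card_congr (Subgroup.subgroupOfEquivOfLe D.le).toEquiv
  have hN : Nat.card N = e * h := by
    rw [he, ← hcardK]
    exact (Subgroup.index_mul_card (K.subgroupOf N)).symm
  obtain ⟨b, hb1, hbε⟩ : ∃ b : ℤ, (b = 1 ∨ b = -1) ∧ (b : ℂ) = ε := by
    rcases D.sign with h1 | h1
    · exact ⟨1, Or.inl rfl, by rw [h1]; simp⟩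
    · exact ⟨-1, Or.inr rfl, by rw [h1]; simp⟩
  obtain ⟨ξ, hξ⟩ : ∃ ξ : IrrCharacter G, (ξ : G → ℂ) = ε • τ₁ χ₁ :=
    ⟨⟨_, D.irr χ₁ D.base_mem⟩, rfl⟩
  obtain ⟨c, hc⟩ := D.restrict ξ (by
      intro χ hχ hne heq
      rw [hξ] at heq
      exact hne (D.inj _ D.base_mem _ hχ (D.smul_cancel heq)).symm) b
      (by rw [hξ, if_pos rfl, mul_one, hbε])
  rw [← hξ]
  obtain ⟨B, hBdef⟩ : ∃ B : N → ℂ, B = (b : ℂ) • χ₁ + ((c : ℂ) / (e : ℂ)) • φ := ⟨_, rfl⟩
  have he0 : (e : ℂ) ≠ 0 := Nat.cast_ne_zero.mpr hepos.ne'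
  have hbb : (b : ℂ) * (b : ℂ) = 1 := by
    rw [hbε]
    exact D.eps_mul_self
  have hBB : classInner B B = 1 + (c : ℂ) ^ 2 / (e : ℂ) := by
    rw [hBdef]
    simp only [Cfsg.Agent.Helper2.classInner_add_left, Cfsg.Agent.Helper2.classInner_add_right,
      Cfsg.Agent.Helper2.classInner_smul_left, Cfsg.Agent.Helper2.classInner_smul_right,
      hχ₁χ₁, hχ₁φ, hφχ₁, hφφ, map_div₀, map_intCast, map_natCast]
    field_simp
    linear_combination (e : ℂ) * hbb
  have hehpos : (0 : ℝ) < (e : ℝ) * (h : ℝ) := by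
    have h1 : 0 < e * h := by
      rw [← hN]
      exact Nat.card_pos
    exact_mod_cast h1
  have hepos' : (0 : ℝ) < (e : ℝ) := by exact_mod_cast hepos
  have hsumB : ∑ x : N, Complex.normSq (B x) = (e : ℝ) * h + (h : ℝ) * (c : ℝ) ^ 2 := by
    have h1 := Cfsg.Agent.Helper2.classInner_self_eq B
    rw [hBB] at h1
    have h2 : ((1 + (c : ℝ) ^ 2 / e : ℝ) : ℂ) =
        (((Nat.card N : ℝ)⁻¹ * ∑ g : N, Complex.normSq (B g) : ℝ) : ℂ) := by
      rw [← h1]
      push_cast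
      rfl
    have h3 := Complex.ofReal_injective h2
    rw [hN] at h3
    push_cast at h3
    have hhpos : (0 : ℝ) < (h : ℝ) := by
      rcases Nat.eq_zero_or_pos h with h0 | h0
      · rw [h0] at hehpos
        simp at hehpos
      · exact_mod_cast h0
    field_simp at h3
    linarith
  have hpt : ∀ x : N, Complex.normSq (B x) =
      (if (x : G) ≠ 1 ∧ (x : G) ∈ K then Complex.normSq ((ξ : G → ℂ) x) else 0) +
        (if x = 1 then ((b : ℝ) * e + c) ^ 2 else 0) := by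
    intro x
    by_cases hx1 : x = 1
    · subst hx1
      rw [if_neg (by simp), if_pos rfl, zero_add]
      have h5 : B 1 = (((b : ℝ) * e + c : ℝ) : ℂ) := by
        rw [hBdef]
        simp only [Pi.add_apply, Pi.smul_apply, smul_eq_mul]
        rw [D.base_deg, ← he, hφval, if_pos (Subgroup.one_mem _)]
        push_cast
        field_simp
      rw [h5, Complex.normSq_ofReal]
      ring
    · rw [if_neg hx1, add_zero]
      by_cases hxK : (x : G) ∈ K
      · have hx1' : (x : G) ≠ 1 := fun h => hx1 (Subtype.ext h)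
        rw [if_pos ⟨hx1', hxK⟩]
        have h5 := hc x hxK hx1
        rw [h5, hBdef]
        simp only [Pi.add_apply, Pi.smul_apply, smul_eq_mul]
        rw [hφval, if_pos (Subgroup.mem_subgroupOf.mpr hxK)]
        congr 2
        field_simp
      · rw [if_neg (fun h => hxK h.2)]
        have hx' : x ∉ K.subgroupOf N := fun h => hxK (Subgroup.mem_subgroupOf.mp h)
        rw [hBdef]
        simp only [Pi.add_apply, Pi.smul_apply, smul_eq_mul]
        rw [hφval, if_neg hx', D.vanish D.base_mem x hx']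
        simp
  have hsum2 : ∑ x : N, Complex.normSq (B x) =
      (∑ k ∈ Finset.univ.filter (fun k : G => k ≠ 1 ∧ k ∈ K),
        Complex.normSq ((ξ : G → ℂ) k)) + ((b : ℝ) * e + c) ^ 2 := by
    rw [Finset.sum_congr rfl (fun x _ => hpt x), Finset.sum_add_distrib,
      Finset.sum_ite_eq' Finset.univ (1 : N), if_pos (Finset.mem_univ _),
      sum_subgroup_transfer N K D.le (fun k => Complex.normSq ((ξ : G → ℂ) k))]
  have hcb : (b : ℝ) * c ≤ (c : ℝ) ^ 2 := by
    have h1 : b * c ≤ c ^ 2 := by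
      rcases hb1 with rfl | rfl
      · rcases le_or_gt c 0 with h2 | h2 <;> nlinarith
      · rcases le_or_gt c 0 with h2 | h2 <;> nlinarith
    exact_mod_cast h1
  have hb2 : (b : ℝ) ^ 2 = 1 := by
    rcases hb1 with rfl | rfl <;> norm_num
  have hbig' : (2 : ℝ) * e + 1 ≤ h := by exact_mod_cast hbig
  rw [hsumB] at hsum2
  nlinarith [mul_nonneg hepos'.le (sub_nonneg.mpr hcb),
    mul_nonneg (sub_nonneg.mpr hbig') (sq_nonneg (c : ℝ))]

end FhtData

open Classical in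
/-- The exceptional family of irreducible characters of `G` attached to a coherent TI
Frobenius kernel `K` (with `e = |N_G(K) : K|`), and the test function `Ψ`. -/
structure FhtFamily {G : Type*} [Group G] [Fintype G] (K : Subgroup G) (e : ℕ)
    (X : Finset (IrrCharacter G)) (ξ ξ' : IrrCharacter G) (Ψ : G → ℂ) (εz : ℤ) : Prop where
  xi_mem : ξ ∈ X
  xi'_mem : ξ' ∈ X
  xi_ne : ξ ≠ ξ'
  xi'_eq : (ξ' : G → ℂ) = conjFun (ξ : G → ℂ)
  ne_one : ∀ ζ ∈ X, (ζ : G → ℂ) ≠ fun _ => 1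
  real_off : ∀ ζ ∈ X, ∀ x : G, (∀ g : G, g * x * g⁻¹ ∉ K) →
    conjFun (ζ : G → ℂ) x = (ζ : G → ℂ) x
  sum_off : ∀ x : G, (∀ g : G, g * x * g⁻¹ ∉ K) →
    (∑ ζ ∈ X, Complex.normSq ((ζ : G → ℂ) x)) * (e : ℝ) =
      ((Nat.card K : ℝ) - 1) * Complex.normSq ((ξ : G → ℂ) x)
  const : ∀ ζ : IrrCharacter G, ζ ∉ X → ∃ z : ℤ, ∀ k ∈ K, k ≠ 1 → (ζ : G → ℂ) k = (z : ℂ)
  mass : (e : ℝ) * (Nat.card K : ℝ) - (e : ℝ) ^ 2 ≤
    ∑ k ∈ Finset.univ.filter (fun k : G => k ≠ 1 ∧ k ∈ K), Complex.normSq ((ξ : G → ℂ) k)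
  psi_cls : IsClassFunction G Ψ
  psi_supp : ∀ x : G, (x = 1 ∨ ∀ g : G, g * x * g⁻¹ ∉ K) → Ψ x = 0
  psi_norm : classInner Ψ Ψ = (e : ℂ) + 1
  psi_int : ∀ ζ : IrrCharacter G, ∃ m : ℤ, classInner Ψ (ζ : G → ℂ) = (m : ℂ)
  psi_const : ∀ (F : G → ℂ) (z : ℂ), IsClassFunction G F → (∀ k ∈ K, k ≠ 1 → F k = z) →
    classInner Ψ F = conj z
  eps : εz = 1 ∨ εz = -1
  psi_xi' : classInner Ψ (ξ' : G → ℂ) = classInner Ψ (ξ : G → ℂ) + (εz : ℂ)
  psi_conj : ∀ ζ : IrrCharacter G, ζ ≠ ξ → ζ ≠ ξ' →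
    classInner Ψ (conjFun (ζ : G → ℂ)) = classInner Ψ (ζ : G → ℂ)

namespace FhtData

variable {G : Type*} [Group G] [Fintype G] {N : Subgroup G} [Fintype N] {K : Subgroup G}
  {τ₁ : (N → ℂ) → (G → ℂ)} {ε : ℂ} {χ₁ : N → ℂ}

open Classical in
theorem family (D : FhtData N K τ₁ ε χ₁)
    (hbig : 2 * (K.subgroupOf N).index + 1 ≤ Nat.card K) :
    ∃ (X : Finset (IrrCharacter G)) (ξ ξ' : IrrCharacter G) (Ψ : G → ℂ) (εz : ℤ),
      FhtFamily K (K.subgroupOf N).index X ξ ξ' Ψ εz := by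
  have _i := D.normal
  obtain ⟨X, hXdef⟩ : ∃ X : Finset (IrrCharacter G), X = Finset.univ.filter
      (fun ζ : IrrCharacter G => ∃ χ ∈ inducedIrrAbove (K.subgroupOf N) ⊥,
        (ζ : G → ℂ) = ε • τ₁ χ) := ⟨_, rfl⟩
  have hXmem : ∀ ζ : IrrCharacter G, ζ ∈ X ↔ ∃ χ ∈ inducedIrrAbove (K.subgroupOf N) ⊥,
      (ζ : G → ℂ) = ε • τ₁ χ := by
    intro ζ
    rw [hXdef, Finset.mem_filter]
    exact ⟨fun h => h.2, fun h => ⟨Finset.mem_univ _, h⟩⟩
  have hχc := D.conj_mem D.base_mem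
  obtain ⟨ξ, hξ⟩ : ∃ ξ : IrrCharacter G, (ξ : G → ℂ) = ε • τ₁ χ₁ :=
    ⟨⟨_, D.irr χ₁ D.base_mem⟩, rfl⟩
  obtain ⟨ξ', hξ'⟩ : ∃ ξ' : IrrCharacter G, (ξ' : G → ℂ) = ε • τ₁ (conjFun χ₁) :=
    ⟨⟨_, D.irr _ hχc⟩, rfl⟩
  obtain ⟨Ψ, hΨcls, hΨsupp, hΨnorm, hΨint, hΨconst, hΨconj⟩ := D.exists_psi
  obtain ⟨εz, hεz1, hεz⟩ : ∃ b : ℤ, (b = 1 ∨ b = -1) ∧ (b : ℂ) = ε := by
    rcases D.sign with h1 | h1
    · exact ⟨1, Or.inl rfl, by rw [h1]; simp⟩
    · exact ⟨-1, Or.inr rfl, by rw [h1]; simp⟩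
  have hξne : ξ ≠ ξ' := by
    intro h
    have h1 : (ξ : G → ℂ) = (ξ' : G → ℂ) := congrArg Subtype.val h
    rw [hξ, hξ'] at h1
    exact D.conj_ne D.base_mem (D.inj _ D.base_mem _ hχc (D.smul_cancel h1)).symm
  have hξne' : ε • τ₁ (conjFun χ₁) ≠ (ξ : G → ℂ) := by
    intro h
    rw [← hξ'] at h
    exact hξne (Subtype.ext h).symm
  refine ⟨X, ξ, ξ', Ψ, εz, ?_⟩
  refine { xi_mem := ?_, xi'_mem := ?_, xi_ne := hξne, xi'_eq := ?_, ne_one := ?_,
           real_off := ?_, sum_off := ?_, const := ?_, mass := ?_, psi_cls := hΨcls,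
           psi_supp := hΨsupp, psi_norm := hΨnorm, psi_int := hΨint, psi_const := hΨconst,
           eps := hεz1, psi_xi' := ?_, psi_conj := ?_ }
  · exact (hXmem ξ).mpr ⟨χ₁, D.base_mem, hξ⟩
  · exact (hXmem ξ').mpr ⟨_, hχc, hξ'⟩
  · rw [hξ, hξ', D.conjFun_eps_smul, D.conj_tau D.base_mem]
  · intro ζ hζ hone
    obtain ⟨χ, hχ, hζχ⟩ := (hXmem ζ).mp hζ
    have h1 : conjFun (ζ : G → ℂ) = fun _ => 1 := by
      rw [hone]
      funext x
      simp [conjFun]
    rw [hζχ, D.conjFun_eps_smul, D.conj_tau hχ, ← hone, hζχ] at h1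
    exact D.conj_ne hχ (D.inj _ (D.conj_mem hχ) _ hχ (D.smul_cancel h1))
  · intro ζ hζ x hx
    obtain ⟨χ, hχ, hζχ⟩ := (hXmem ζ).mp hζ
    have hmem : χ - conjFun χ ∈ zspanOn (inducedIrrAbove (K.subgroupOf N) ⊥) {1}ᶜ :=
      sub_conj_mem_zspanOn hχ (D.conj_mem hχ)
        (Cfsg.Agent.Helper25.isCharacter_of_irr (D.irrS hχ))
    have h1 := D.offsupport hmem x hx
    rw [isLinIso_map_sub D.iso (D.mem_zspan hχ) (D.mem_zspan (D.conj_mem hχ)), Pi.sub_apply,
      sub_eq_zero] at h1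
    rw [hζχ, D.conjFun_eps_smul, D.conj_tau hχ, Pi.smul_apply, Pi.smul_apply, h1]
  · intro x hx
    obtain ⟨e, he⟩ : ∃ e : ℕ, e = (K.subgroupOf N).index := ⟨_, rfl⟩
    rw [← he]
    have hepos : 0 < e := by
      rw [he]
      exact Nat.pos_of_ne_zero Subgroup.index_ne_zero_of_finite
    have hepos' : (0 : ℝ) < (e : ℝ) := by exact_mod_cast hepos
    have hbij : ∑ ζ ∈ X, Complex.normSq ((ζ : G → ℂ) x) =
        ∑ χ ∈ indAbove (K.subgroupOf N) ⊥, Complex.normSq ((ε • τ₁ χ) x) := by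
      symm
      apply Finset.sum_bij (fun χ hχ =>
        (⟨ε • τ₁ χ, D.irr χ ((mem_indAbove _ _ χ).mp hχ)⟩ : IrrCharacter G))
      · intro χ hχ
        exact (hXmem _).mpr ⟨χ, (mem_indAbove _ _ χ).mp hχ, rfl⟩
      · intro χ hχ ψ hψ heq
        have h1 : ε • τ₁ χ = ε • τ₁ ψ := congrArg Subtype.val heq
        exact D.inj _ ((mem_indAbove _ _ χ).mp hχ) _ ((mem_indAbove _ _ ψ).mp hψ)
          (D.smul_cancel h1)
      · intro ζ hζ
        obtain ⟨χ, hχ, hζχ⟩ := (hXmem ζ).mp hζ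
        exact ⟨χ, (mem_indAbove _ _ χ).mpr hχ, Subtype.ext hζχ.symm⟩
      · intro χ hχ
        rfl
    have hterm : ∀ χ ∈ indAbove (K.subgroupOf N) ⊥,
        Complex.normSq ((ε • τ₁ χ) x) * (e : ℝ) ^ 2 =
          ((charDegree χ : ℕ) : ℝ) ^ 2 * Complex.normSq ((ξ : G → ℂ) x) := by
      intro χ hχ
      have h1 := D.prop_off ((mem_indAbove _ _ χ).mp hχ) x hx
      rw [← he] at h1
      have h2 : ((e : ℝ) : ℂ) * ((ε • τ₁ χ) x) =
          (((charDegree χ : ℕ) : ℝ) : ℂ) * ((ξ : G → ℂ) x) := by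
        rw [hξ]
        simp only [Pi.smul_apply, smul_eq_mul]
        push_cast
        linear_combination ε * h1
      have h3 := congrArg Complex.normSq h2
      rw [Complex.normSq_mul, Complex.normSq_mul, Complex.normSq_ofReal,
        Complex.normSq_ofReal] at h3
      rw [pow_two, pow_two]
      linarith
    have hsumdeg := frob_sum_degree_sq (K.subgroupOf N) D.cent ⊥
    rw [Subgroup.relIndex_bot_left, Nat.card_congr (Subgroup.subgroupOfEquivOfLe D.le).toEquiv,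
      ← he] at hsumdeg
    have hKpos : 1 ≤ Nat.card K := Nat.card_pos
    have hsumdeg' : ∑ χ ∈ indAbove (K.subgroupOf N) ⊥, ((charDegree χ : ℕ) : ℝ) ^ 2 =
        (e : ℝ) * ((Nat.card K : ℝ) - 1) := by
      have h1 := congrArg (Nat.cast : ℕ → ℝ) hsumdeg
      rw [Nat.cast_sum, Nat.cast_mul, Nat.cast_sub hKpos] at h1
      rw [← Nat.cast_one (R := ℝ), ← h1]
      apply Finset.sum_congr rfl
      intro χ _
      push_cast
      rfl
    have h4 : (∑ ζ ∈ X, Complex.normSq ((ζ : G → ℂ) x)) * (e : ℝ) ^ 2 =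
        (e : ℝ) * ((Nat.card K : ℝ) - 1) * Complex.normSq ((ξ : G → ℂ) x) := by
      rw [hbij, Finset.sum_mul, Finset.sum_congr rfl hterm, ← Finset.sum_mul, hsumdeg']
    have h5 : (e : ℝ) * ((∑ ζ ∈ X, Complex.normSq ((ζ : G → ℂ) x)) * (e : ℝ)) =
        (e : ℝ) * (((Nat.card K : ℝ) - 1) * Complex.normSq ((ξ : G → ℂ) x)) := by
      linarith
    exact mul_left_cancel₀ hepos'.ne' h5
  · intro ζ hζ
    obtain ⟨c, hc⟩ := D.restrict ζ (by
        intro χ hχ _ heq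
        exact hζ ((hXmem ζ).mpr ⟨χ, hχ, heq⟩)) 0 (by
        rw [if_neg (fun h => hζ ((hXmem ζ).mpr ⟨χ₁, D.base_mem, h.symm⟩))]
        simp)
    refine ⟨c, fun k hk hk1 => ?_⟩
    have h1 := hc ⟨k, D.le hk⟩ hk (fun h => hk1 (congrArg Subtype.val h))
    simp only [Int.cast_zero, zero_mul, zero_add] at h1
    exact h1
  · rw [hξ]
    exact D.mass hbig
  · have h1 := hΨconj ξ
    rw [if_pos hξ.symm, if_neg hξne', sub_zero, mul_one, ← hεz] at h1
    have h2 : conjFun (ξ : G → ℂ) = (ξ' : G → ℂ) := by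
      rw [hξ, hξ', D.conjFun_eps_smul, D.conj_tau D.base_mem]
    rw [h2] at h1
    exact h1
  · intro ζ hζ1 hζ2
    have h1 := hΨconj ζ
    rw [if_neg (fun h => hζ1 (Subtype.ext (h.symm.trans hξ.symm))),
      if_neg (fun h => hζ2 (Subtype.ext (h.symm.trans hξ'.symm))), sub_zero, mul_zero,
      add_zero] at h1
    exact h1

end FhtData

/-- The data attached to a TI Frobenius kernel in a group of odd order. -/
theorem fht_family_exists {G : Type*} [Group G] [Fintype G] (hodd : Odd (Nat.card G))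
    (K : Subgroup G) (hK1 : K ≠ ⊥) (hTI : IsTISubset (K : Set G))
    (hlt : K < Subgroup.normalizer (K : Set G))
    (hC : ∀ k ∈ K, k ≠ 1 → Subgroup.centralizer ({k} : Set G) ≤ K) :
    2 * (K.subgroupOf (Subgroup.normalizer (K : Set G))).index + 1 ≤ Nat.card K ∧
    ∃ (X : Finset (IrrCharacter G)) (ξ ξ' : IrrCharacter G) (Ψ : G → ℂ) (εz : ℤ),
      FhtFamily K (K.subgroupOf (Subgroup.normalizer (K : Set G))).index X ξ ξ' Ψ εz := by
  classical
  have _instN : Fintype ↥(Subgroup.normalizer (K : Set G)) := Fintype.ofFinite _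
  obtain ⟨hKn, hCL, hK1', hK2'⟩ := ti_frob_basic K hK1 hlt hC
  have hoddN : Odd (Nat.card ↥(Subgroup.normalizer (K : Set G))) :=
    Odd.of_dvd_nat hodd (Subgroup.card_subgroup_dvd_card _)
  have hoddK : Odd (Nat.card K) := Odd.of_dvd_nat hodd (Subgroup.card_subgroup_dvd_card _)
  have hcardK : Nat.card (K.subgroupOf (Subgroup.normalizer (K : Set G))) = Nat.card K :=
    Nat.card_congr (Subgroup.subgroupOfEquivOfLe hlt.le).toEquiv
  have hedvd := frob_dvd_relIndex_pred (K.subgroupOf (Subgroup.normalizer (K : Set G))) hCL ⊥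
  rw [Subgroup.relIndex_bot_left, hcardK] at hedvd
  have heodd : Odd (K.subgroupOf (Subgroup.normalizer (K : Set G))).index :=
    Odd.of_dvd_nat hoddN (Subgroup.index_dvd_card _)
  have hKgt : 1 < Nat.card K := (Subgroup.one_lt_card_iff_ne_bot K).mpr hK1
  have hbig : 2 * (K.subgroupOf (Subgroup.normalizer (K : Set G))).index + 1 ≤ Nat.card K := by
    obtain ⟨q, hq⟩ := hedvd
    obtain ⟨a, ha⟩ := heodd
    obtain ⟨c, hc⟩ := hoddK
    have hq2 : 2 ≤ q := by
      by_contra hcon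
      push Not at hcon
      interval_cases q
      · omega
      · rw [ha] at hq
        omega
    have : 2 * (K.subgroupOf (Subgroup.normalizer (K : Set G))).index ≤
        (K.subgroupOf (Subgroup.normalizer (K : Set G))).index * q := by
      rw [mul_comm]
      exact Nat.mul_le_mul_left _ hq2
    omega
  refine ⟨hbig, ?_⟩
  have hne : Nat.card K ≠ (K.subgroupOf (Subgroup.normalizer (K : Set G))).index + 1 := by
    have : 0 < (K.subgroupOf (Subgroup.normalizer (K : Set G))).index :=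
      Nat.pos_of_ne_zero Subgroup.index_ne_zero_of_finite
    omega
  obtain ⟨-, τ₁, hτ₁, hagree⟩ := sibley_ti_frob K hK1 hTI hlt hC hoddK hne
  obtain ⟨hα, hα1⟩ := ti_isLinearIsometryOn (Subgroup.normalizer (K : Set G)) K hTI
  have hnil : Group.IsNilpotent (K.subgroupOf (Subgroup.normalizer (K : Set G))) :=
    frob_kernel_nilpotent _ hCL hK2'
  have hsolv : Group.IsSolvable (K.subgroupOf (Subgroup.normalizer (K : Set G))) := by
    have _i := hnil
    infer_instance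
  obtain ⟨θ, hθ, hθ1⟩ := exists_linear_irrAbove
    (K.subgroupOf (Subgroup.normalizer (K : Set G))) hsolv ⊥ (bot_lt_iff_ne_bot.mpr hK1')
  obtain ⟨χ₁, hχ₁def⟩ : ∃ χ₁, χ₁ = indFun (K.subgroupOf (Subgroup.normalizer (K : Set G)))
      (θ : (K.subgroupOf (Subgroup.normalizer (K : Set G))) → ℂ) := ⟨_, rfl⟩
  have hχ₁S : χ₁ ∈ inducedIrrAbove (K.subgroupOf (Subgroup.normalizer (K : Set G))) ⊥ :=
    (mem_inducedIrrAbove_iff _ ⊥ _).mpr ⟨θ, hθ, hχ₁def⟩
  have hχ₁deg : χ₁ 1 = ((K.subgroupOf (Subgroup.normalizer (K : Set G))).index : ℂ) := by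
    rw [hχ₁def, Cfsg.Agent.Helper2.indFun_one_apply, hθ1, mul_one]
  have hirr : ∀ χ ∈ inducedIrrAbove (K.subgroupOf (Subgroup.normalizer (K : Set G))) ⊥,
      IsIrrCharacter ↥(Subgroup.normalizer (K : Set G)) χ :=
    fun χ hχ => frob_irr_of_mem _ hCL hχ
  have hvan : ∀ χ ∈ inducedIrrAbove (K.subgroupOf (Subgroup.normalizer (K : Set G))) ⊥,
      ∀ x : ↥(Subgroup.normalizer (K : Set G)),
        x ∉ K.subgroupOf (Subgroup.normalizer (K : Set G)) → χ x = 0 := by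
    rintro χ ⟨θ', -, -, -, rfl⟩ x hx
    exact Cfsg.Agent.Helper7.indFun_apply_of_not_mem_normal _ θ' x hx
  have hconjne : conjFun χ₁ ≠ χ₁ := by
    intro hconj
    have hreal : ∀ g : ↥(Subgroup.normalizer (K : Set G)), (χ₁ g).im = 0 := by
      intro g
      have h1 := congrFun hconj g
      exact Complex.conj_eq_iff_im.mp h1
    have h1 := Cfsg.Agent.S0161.result hoddN ⟨χ₁, hirr χ₁ hχ₁S⟩ hreal
    obtain ⟨x, hx⟩ : ∃ x : ↥(Subgroup.normalizer (K : Set G)),
        x ∉ K.subgroupOf (Subgroup.normalizer (K : Set G)) := by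
      by_contra hcon
      push Not at hcon
      exact hK2' ((Subgroup.eq_top_iff' _).mpr hcon)
    have h2 := hvan χ₁ hχ₁S x hx
    have h3 := congrFun h1 x
    simp only at h3
    rw [h2] at h3
    exact zero_ne_one h3
  obtain ⟨ε, hε, hirrstar, hinj⟩ := irr_sign_uniform
    (inducedIrrAbove (K.subgroupOf (Subgroup.normalizer (K : Set G))) ⊥) hirr
    ⟨χ₁, hχ₁S, conjFun χ₁, conj_mem_inducedIrrAbove _ ⊥ hχ₁S, fun h => hconjne h.symm⟩ τ₁ hτ₁
    (by
      intro α hα0 h1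
      have hmem := mem_zspanOn_compl_one hα0 h1
      rw [hagree α hmem]
      exact hα1 α hmem)
  have D : FhtData (Subgroup.normalizer (K : Set G)) K τ₁ ε χ₁ :=
    { ti := hTI
      normal := hKn
      cent := hCL
      ne_bot := hK1'
      ne_top := hK2'
      odd := hoddN
      le := hlt.le
      iso := hτ₁
      agree := hagree
      sign := hε
      irr := hirrstar
      inj := hinj
      base_mem := hχ₁S
      base_deg := hχ₁deg }
  exact D.family hbig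

end Cfsg.Agent.Helper11
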