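import Mathlib
import Cfsg.Agent.Helper11.FHT2

/-!
# The Feit–Hall–Thompson counting argument (helper11)

A group of odd order cannot be partitioned by the conjugates of (at least two) TI Frobenius
kernels of pairwise coprime orders: `fht_contradiction`.
-/

set_option autoImplicit false

namespace Cfsg.Agent.Helper11

open Cfsg

open scoped ComplexConjugate

section

variable {G : Type*} [Group G] [Fintype G]

/-- Complex conjugate of an irreducible character. -/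
noncomputable def irrConj (ζ : IrrCharacter G) : IrrCharacter G :=
  ⟨conjFun (ζ : G → ℂ), Cfsg.Agent.Helper2.isIrrCharacter_conj ζ.2⟩

theorem irrConj_coe (ζ : IrrCharacter G) : (irrConj ζ : G → ℂ) = conjFun (ζ : G → ℂ) := rfl

theorem irrConj_irrConj (ζ : IrrCharacter G) : irrConj (irrConj ζ) = ζ := by
  apply Subtype.ext
  rw [irrConj_coe, irrConj_coe, conjFun_conjFun]

theorem irrConj_ne_self (hodd : Odd (Nat.card G)) (ζ : IrrCharacter G)
    (hζ : (ζ : G → ℂ) ≠ fun _ => 1) : irrConj ζ ≠ ζ := by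
  intro h
  have h1 : conjFun (ζ : G → ℂ) = (ζ : G → ℂ) := congrArg Subtype.val h
  have hreal : ∀ g : G, ((ζ : G → ℂ) g).im = 0 := by
    intro g
    have h2 := congrFun h1 g
    exact Complex.conj_eq_iff_im.mp h2
  exact hζ (Cfsg.Agent.S0161.result hodd ζ hreal)

theorem fht_arith (g u E Hh : ℝ) (hu : 0 < u) (hg : g = u * E * Hh) (hE : 2 ≤ E)
    (hH : 2 * E + 1 ≤ Hh)
    (hineq : g - 1 - u * (Hh - 1) ≤ (g - 1 - u * (E * Hh - E ^ 2)) + g / (Hh + 1) * (E - 1)) :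
    False := by
  have hHpos : 0 < Hh + 1 := by linarith
  have h1 : u * ((E - 1) * (Hh - E - 1)) ≤ g / (Hh + 1) * (E - 1) := by nlinarith
  have h2 : g / (Hh + 1) * (E - 1) = u * (E - 1) * (E * Hh / (Hh + 1)) := by
    rw [hg]
    field_simp
  rw [h2] at h1
  have h3 : (E - 1) * (Hh - E - 1) ≤ (E - 1) * (E * Hh / (Hh + 1)) := by
    have h4 : u * ((E - 1) * (Hh - E - 1)) ≤ u * ((E - 1) * (E * Hh / (Hh + 1))) := by
      linarith
    exact le_of_mul_le_mul_left h4 hu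
  have hE1 : 0 < E - 1 := by linarith
  have h5 : Hh - E - 1 ≤ E * Hh / (Hh + 1) := le_of_mul_le_mul_left h3 hE1
  rw [le_div_iff₀ hHpos] at h5
  nlinarith

/-- Parity: for two exceptional families with disjoint supports, the value of `ξ₁` on
`K₂ ∖ 1` and the value of `ξ₂` on `K₁ ∖ 1` cannot both vanish. -/
theorem fht_parity (hodd : Odd (Nat.card G)) (K₁ K₂ : Subgroup G) (e₁ e₂ : ℕ)
    {X₁ X₂ : Finset (IrrCharacter G)} {ξ₁ ξ₁' ξ₂ ξ₂' : IrrCharacter G} {Ψ₁ Ψ₂ : G → ℂ}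
    {ε₁ ε₂ : ℤ} (F₁ : FhtFamily K₁ e₁ X₁ ξ₁ ξ₁' Ψ₁ ε₁) (F₂ : FhtFamily K₂ e₂ X₂ ξ₂ ξ₂' Ψ₂ ε₂)
    (hdisj : ∀ x : G, x ≠ 1 → (∀ g : G, g * x * g⁻¹ ∉ K₁) ∨ (∀ g : G, g * x * g⁻¹ ∉ K₂))
    (h12 : ξ₁ ∉ X₂) (h12' : ξ₁' ∉ X₂)
    (z₁₂ z₂₁ : ℤ) (hz₁₂ : ∀ k ∈ K₂, k ≠ 1 → (ξ₁ : G → ℂ) k = (z₁₂ : ℂ))
    (hz₂₁ : ∀ k ∈ K₁, k ≠ 1 → (ξ₂ : G → ℂ) k = (z₂₁ : ℂ)) :
    z₁₂ ≠ 0 ∨ z₂₁ ≠ 0 := by
  classical
  choose a ha using F₁.psi_int
  choose b hb using F₂.psi_int
  obtain ⟨t, ht⟩ : ∃ t : IrrCharacter G, (t : G → ℂ) = fun _ => 1 :=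
    ⟨Cfsg.Agent.Helper25.trivChar G, rfl⟩
  have hcls1 : IsClassFunction G (fun _ : G => (1 : ℂ)) := fun _ _ => rfl
  have hcls : ∀ ζ : IrrCharacter G, IsClassFunction G (ζ : G → ℂ) := fun ζ =>
    Cfsg.Agent.Helper25.char_isClassFunction (Cfsg.Agent.Helper25.irr_isCharacter ζ)
  have hat : a t = 1 := by
    have h1 := F₁.psi_const (fun _ => 1) 1 hcls1 (fun _ _ _ => rfl)
    rw [← ht, ha t, map_one] at h1
    exact_mod_cast h1
  have hbt : b t = 1 := by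
    have h1 := F₂.psi_const (fun _ => 1) 1 hcls1 (fun _ _ _ => rfl)
    rw [← ht, hb t, map_one] at h1
    exact_mod_cast h1
  -- distinctness of the five special characters
  have ht1 : ξ₁ ≠ t := fun h => F₁.ne_one ξ₁ F₁.xi_mem (by rw [h]; exact ht)
  have ht1' : ξ₁' ≠ t := fun h => F₁.ne_one ξ₁' F₁.xi'_mem (by rw [h]; exact ht)
  have ht2 : ξ₂ ≠ t := fun h => F₂.ne_one ξ₂ F₂.xi_mem (by rw [h]; exact ht)
  have ht2' : ξ₂' ≠ t := fun h => F₂.ne_one ξ₂' F₂.xi'_mem (by rw [h]; exact ht)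
  have h1_2 : ξ₁ ≠ ξ₂ := fun h => h12 (h ▸ F₂.xi_mem)
  have h1_2' : ξ₁ ≠ ξ₂' := fun h => h12 (h ▸ F₂.xi'_mem)
  have h1'_2 : ξ₁' ≠ ξ₂ := fun h => h12' (h ▸ F₂.xi_mem)
  have h1'_2' : ξ₁' ≠ ξ₂' := fun h => h12' (h ▸ F₂.xi'_mem)
  -- conjugation
  have hc1 : irrConj ξ₁ = ξ₁' := Subtype.ext F₁.xi'_eq.symm
  have hc2 : irrConj ξ₂ = ξ₂' := Subtype.ext F₂.xi'_eq.symm
  have hc1' : irrConj ξ₁' = ξ₁ := by rw [← hc1, irrConj_irrConj]
  have hc2' : irrConj ξ₂' = ξ₂ := by rw [← hc2, irrConj_irrConj]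
  have hct : irrConj t = t := by
    apply Subtype.ext
    rw [irrConj_coe, ht]
    funext x
    simp [conjFun]
  -- values
  have hb1 : b ξ₁ = z₁₂ := by
    have h1 := F₂.psi_const (ξ₁ : G → ℂ) (z₁₂ : ℂ) (hcls ξ₁) hz₁₂
    rw [hb ξ₁, map_intCast] at h1
    exact_mod_cast h1
  have hb1' : b ξ₁' = z₁₂ := by
    have h1 := F₂.psi_conj ξ₁ h1_2 h1_2'
    rw [← F₁.xi'_eq, hb ξ₁', hb ξ₁] at h1
    rw [← hb1]
    exact_mod_cast h1
  have ha2 : a ξ₂ = z₂₁ := by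
    have h1 := F₁.psi_const (ξ₂ : G → ℂ) (z₂₁ : ℂ) (hcls ξ₂) hz₂₁
    rw [ha ξ₂, map_intCast] at h1
    exact_mod_cast h1
  have ha2' : a ξ₂' = z₂₁ := by
    have h1 := F₁.psi_conj ξ₂ (fun h => h1_2 h.symm) (fun h => h1'_2 h.symm)
    rw [← F₂.xi'_eq, ha ξ₂', ha ξ₂] at h1
    rw [← ha2]
    exact_mod_cast h1
  have ha1' : a ξ₁' = a ξ₁ + ε₁ := by
    have h1 := F₁.psi_xi'
    rw [ha ξ₁', ha ξ₁] at h1
    exact_mod_cast h1
  have hb2' : b ξ₂' = b ξ₂ + ε₂ := by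
    have h1 := F₂.psi_xi'
    rw [hb ξ₂', hb ξ₂] at h1
    exact_mod_cast h1
  -- Parseval
  have hpars := Cfsg.Agent.Helper2.classInner_eq_sum_mul F₁.psi_cls Ψ₂
  have hzero : classInner Ψ₁ Ψ₂ = 0 := by
    simp only [classInner]
    rw [Finset.sum_eq_zero, mul_zero]
    intro x _
    by_cases hx : x = 1
    · rw [F₁.psi_supp x (Or.inl hx), zero_mul]
    · rcases hdisj x hx with h | h
      · rw [F₁.psi_supp x (Or.inr h), zero_mul]
      · rw [F₂.psi_supp x (Or.inr h), map_zero, mul_zero]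
  have hsumZ : ∑ ζ : IrrCharacter G, a ζ * b ζ = 0 := by
    have h1 : ((∑ ζ : IrrCharacter G, a ζ * b ζ : ℤ) : ℂ) = 0 := by
      rw [← hzero, hpars]
      push_cast
      apply Finset.sum_congr rfl
      intro ζ _
      rw [ha, hb, map_intCast]
    exact_mod_cast h1
  have hsum2 : ∑ ζ : IrrCharacter G, ((a ζ : ZMod 2) * (b ζ : ZMod 2)) = 0 := by
    have h1 := congrArg (Int.cast : ℤ → ZMod 2) hsumZ
    push_cast at h1
    exact h1
  have hm1 : ξ₁ ∈ (Finset.univ : Finset (IrrCharacter G)).erase t :=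
    Finset.mem_erase.mpr ⟨ht1, Finset.mem_univ _⟩
  have hm2 : ξ₁' ∈ ((Finset.univ : Finset (IrrCharacter G)).erase t).erase ξ₁ :=
    Finset.mem_erase.mpr ⟨fun h => F₁.xi_ne h.symm, Finset.mem_erase.mpr ⟨ht1', Finset.mem_univ _⟩⟩
  have hm3 : ξ₂ ∈ (((Finset.univ : Finset (IrrCharacter G)).erase t).erase ξ₁).erase ξ₁' :=
    Finset.mem_erase.mpr ⟨fun h => h1'_2 h.symm, Finset.mem_erase.mpr ⟨fun h => h1_2 h.symm,
      Finset.mem_erase.mpr ⟨ht2, Finset.mem_univ _⟩⟩⟩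
  have hm4 : ξ₂' ∈ ((((Finset.univ : Finset (IrrCharacter G)).erase t).erase ξ₁).erase ξ₁').erase ξ₂ :=
    Finset.mem_erase.mpr ⟨fun h => F₂.xi_ne h.symm, Finset.mem_erase.mpr ⟨fun h => h1'_2' h.symm,
      Finset.mem_erase.mpr ⟨fun h => h1_2' h.symm,
        Finset.mem_erase.mpr ⟨ht2', Finset.mem_univ _⟩⟩⟩⟩
  rw [← Finset.add_sum_erase Finset.univ _ (Finset.mem_univ t),
    ← Finset.add_sum_erase _ _ hm1, ← Finset.add_sum_erase _ _ hm2,
    ← Finset.add_sum_erase _ _ hm3, ← Finset.add_sum_erase _ _ hm4] at hsum2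
  have hrest : ∑ ζ ∈ (((((Finset.univ : Finset (IrrCharacter G)).erase t).erase ξ₁).erase
      ξ₁').erase ξ₂).erase ξ₂', ((a ζ : ZMod 2) * (b ζ : ZMod 2)) = 0 := by
    have hmem : ∀ ζ : IrrCharacter G, ζ ∈ (((((Finset.univ : Finset (IrrCharacter G)).erase
        t).erase ξ₁).erase ξ₁').erase ξ₂).erase ξ₂' ↔
        ζ ≠ ξ₂' ∧ ζ ≠ ξ₂ ∧ ζ ≠ ξ₁' ∧ ζ ≠ ξ₁ ∧ ζ ≠ t := by
      intro ζ
      simp only [Finset.mem_erase, Finset.mem_univ, and_true]
    refine Finset.sum_involution (fun ζ _ => irrConj ζ) ?_ ?_ ?_ ?_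
    · intro ζ hζ
      obtain ⟨n2', n2, n1', n1, nt⟩ := (hmem ζ).mp hζ
      have h1 : a (irrConj ζ) = a ζ := by
        have h2 := F₁.psi_conj ζ n1 n1'
        rw [← irrConj_coe, ha, ha] at h2
        exact_mod_cast h2
      have h3 : b (irrConj ζ) = b ζ := by
        have h2 := F₂.psi_conj ζ n2 n2'
        rw [← irrConj_coe, hb, hb] at h2
        exact_mod_cast h2
      rw [h1, h3]
      exact CharTwo.add_self_eq_zero _
    · intro ζ hζ _
      obtain ⟨n2', n2, n1', n1, nt⟩ := (hmem ζ).mp hζ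
      exact irrConj_ne_self hodd ζ (fun h => nt (Subtype.ext (h.trans ht.symm)))
    · intro ζ hζ
      obtain ⟨n2', n2, n1', n1, nt⟩ := (hmem ζ).mp hζ
      rw [hmem]
      refine ⟨?_, ?_, ?_, ?_, ?_⟩
      · intro h
        apply n2
        rw [← irrConj_irrConj ζ, h, hc2']
      · intro h
        apply n2'
        rw [← irrConj_irrConj ζ, h, hc2]
      · intro h
        apply n1
        rw [← irrConj_irrConj ζ, h, hc1']
      · intro h
        apply n1'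
        rw [← irrConj_irrConj ζ, h, hc1]
      · intro h
        apply nt
        rw [← irrConj_irrConj ζ, h, hct]
    · intro ζ _
      exact irrConj_irrConj ζ
  rw [hrest, add_zero, hat, hbt, hb1, hb1', ha1', ha2, ha2', hb2'] at hsum2
  by_contra hcon
  push Not at hcon
  rw [hcon.1, hcon.2] at hsum2
  simp at hsum2

open Classical in
theorem card_nonid_filter (K : Subgroup G) :
    (Finset.univ.filter (fun k : G => k ≠ 1 ∧ k ∈ K)).card = Nat.card K - 1 := by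
  have h1 : Nat.card K = (Finset.univ.filter (fun a : G => a ∈ K)).card := by
    rw [Nat.card_eq_fintype_card, Fintype.card_subtype]
  have h2 : Finset.univ.filter (fun h : G => h ≠ 1 ∧ h ∈ K) =
      (Finset.univ.filter (fun a : G => a ∈ K)).erase 1 := by
    ext h
    simp [Finset.mem_erase]
  rw [h2, Finset.card_erase_of_mem (by simp [K.one_mem]), h1]

open Classical in
/-- Column bound: the squares of the values on `K i₀ ∖ 1` of the other exceptional families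
are controlled by the norm `e + 1` of the test function. -/
theorem fht_column {ι : Type*} [Fintype ι] (K : ι → Subgroup G) (e : ι → ℕ)
    (X : ι → Finset (IrrCharacter G)) (ξ ξ' : ι → IrrCharacter G) (Ψ : ι → G → ℂ)
    (εz : ι → ℤ) (F : ∀ i, FhtFamily (K i) (e i) (X i) (ξ i) (ξ' i) (Ψ i) (εz i))
    (hXdisj : ∀ i j, i ≠ j → ∀ ζ ∈ X i, ζ ∉ X j)
    (hoff : ∀ i j, i ≠ j → ∀ x ∈ K j, x ≠ 1 → ∀ g : G, g * x * g⁻¹ ∉ K i)
    (z : ι → ι → ℤ)
    (hz : ∀ i j, i ≠ j → ∀ k ∈ K j, k ≠ 1 → (ξ i : G → ℂ) k = (z i j : ℂ))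
    (hK1 : ∀ i, K i ≠ ⊥) (hepos : ∀ i, 0 < e i) (i₀ : ι) :
    ∑ j ∈ Finset.univ.erase i₀,
      ((Nat.card (K j) : ℝ) - 1) / (e j : ℝ) * (z j i₀ : ℝ) ^ 2 ≤ (e i₀ : ℝ) - 1 := by
  classical
  choose a ha using (F i₀).psi_int
  obtain ⟨t, ht⟩ : ∃ t : IrrCharacter G, (t : G → ℂ) = fun _ => 1 :=
    ⟨Cfsg.Agent.Helper25.trivChar G, rfl⟩
  have hcls1 : IsClassFunction G (fun _ : G => (1 : ℂ)) := fun _ _ => rfl
  have hcls : ∀ ζ : IrrCharacter G, IsClassFunction G (ζ : G → ℂ) := fun ζ =>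
    Cfsg.Agent.Helper25.char_isClassFunction (Cfsg.Agent.Helper25.irr_isCharacter ζ)
  have hat : a t = 1 := by
    have h1 := (F i₀).psi_const (fun _ => 1) 1 hcls1 (fun _ _ _ => rfl)
    rw [← ht, ha t, map_one] at h1
    exact_mod_cast h1
  -- Parseval
  have hpars := Cfsg.Agent.Helper2.classInner_eq_sum_mul (F i₀).psi_cls (Ψ i₀)
  rw [(F i₀).psi_norm] at hpars
  have hsumZ : ∑ ζ : IrrCharacter G, (a ζ) ^ 2 = (e i₀ : ℤ) + 1 := by
    have h1 : ((∑ ζ : IrrCharacter G, (a ζ) ^ 2 : ℤ) : ℂ) = (((e i₀ : ℤ) + 1 : ℤ) : ℂ) := by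
      push_cast
      rw [hpars]
      apply Finset.sum_congr rfl
      intro ζ _
      rw [ha, map_intCast]
      ring
    exact_mod_cast h1
  have hsumR : ∑ ζ : IrrCharacter G, (a ζ : ℝ) ^ 2 = (e i₀ : ℝ) + 1 := by
    have h1 := congrArg (Int.cast : ℤ → ℝ) hsumZ
    push_cast at h1
    exact h1
  obtain ⟨x₀, hx₀1⟩ := (Subgroup.ne_bot_iff_exists_ne_one (H := K i₀)).mp (hK1 i₀)
  have hx₀1' : (x₀ : G) ≠ 1 := fun h => hx₀1 (Subtype.ext h)
  -- the other families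
  have hfam : ∀ j ∈ Finset.univ.erase i₀, ∑ ζ ∈ X j, (a ζ : ℝ) ^ 2 =
      ((Nat.card (K j) : ℝ) - 1) / (e j : ℝ) * (z j i₀ : ℝ) ^ 2 := by
    intro j hj
    have hji : j ≠ i₀ := (Finset.mem_erase.mp hj).1
    have h1 : ∀ ζ ∈ X j, (a ζ : ℝ) ^ 2 = Complex.normSq ((ζ : G → ℂ) x₀) := by
      intro ζ hζ
      obtain ⟨zζ, hzζ⟩ := (F i₀).const ζ (hXdisj j i₀ hji ζ hζ)
      have h2 := (F i₀).psi_const (ζ : G → ℂ) (zζ : ℂ) (hcls ζ) hzζ
      rw [ha ζ, map_intCast] at h2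
      have h3 : a ζ = zζ := by exact_mod_cast h2
      rw [hzζ x₀ x₀.2 hx₀1', h3]
      have h4 : ((zζ : ℤ) : ℂ) = (((zζ : ℤ) : ℝ) : ℂ) := by push_cast; rfl
      rw [h4, Complex.normSq_ofReal]
      ring
    rw [Finset.sum_congr rfl h1]
    have h5 := (F j).sum_off x₀ (hoff j i₀ hji x₀ x₀.2 hx₀1')
    rw [hz j i₀ hji x₀ x₀.2 hx₀1'] at h5
    have h4 : ((z j i₀ : ℤ) : ℂ) = (((z j i₀ : ℤ) : ℝ) : ℂ) := by push_cast; rfl
    rw [h4, Complex.normSq_ofReal] at h5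
    have hej : (0 : ℝ) < (e j : ℝ) := by exact_mod_cast hepos j
    rw [div_mul_eq_mul_div, eq_div_iff hej.ne']
    rw [h5]
    ring
  -- the set of characters used
  obtain ⟨U, hU⟩ : ∃ U : Finset (IrrCharacter G), U = (Finset.univ.erase i₀).biUnion X :=
    ⟨_, rfl⟩
  have hUmem : ∀ ζ : IrrCharacter G, ζ ∈ U → ∃ j, j ≠ i₀ ∧ ζ ∈ X j := by
    intro ζ hζ
    rw [hU, Finset.mem_biUnion] at hζ
    obtain ⟨j, hj, hζj⟩ := hζ
    exact ⟨j, (Finset.mem_erase.mp hj).1, hζj⟩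
  have hsumU : ∑ ζ ∈ U, (a ζ : ℝ) ^ 2 = ∑ j ∈ Finset.univ.erase i₀,
      ((Nat.card (K j) : ℝ) - 1) / (e j : ℝ) * (z j i₀ : ℝ) ^ 2 := by
    rw [hU, Finset.sum_biUnion]
    · exact Finset.sum_congr rfl hfam
    · intro j hj j' hj' hne
      rw [Function.onFun, Finset.disjoint_left]
      intro ζ hζ hζ'
      exact hXdisj j j' hne ζ hζ hζ'
  have hξU : ξ i₀ ∉ U := by
    intro h
    obtain ⟨j, hj, hζj⟩ := hUmem _ h
    exact hXdisj i₀ j (Ne.symm hj) _ (F i₀).xi_mem hζj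
  have hξ'U : ξ' i₀ ∉ U := by
    intro h
    obtain ⟨j, hj, hζj⟩ := hUmem _ h
    exact hXdisj i₀ j (Ne.symm hj) _ (F i₀).xi'_mem hζj
  have htU : t ∉ U := by
    intro h
    obtain ⟨j, hj, hζj⟩ := hUmem _ h
    exact (F j).ne_one t hζj ht
  have htξ : t ≠ ξ i₀ := fun h => (F i₀).ne_one _ (F i₀).xi_mem (by rw [← h]; exact ht)
  have htξ' : t ≠ ξ' i₀ := fun h => (F i₀).ne_one _ (F i₀).xi'_mem (by rw [← h]; exact ht)
  have hsub : insert t (insert (ξ i₀) (insert (ξ' i₀) U)) ⊆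
      (Finset.univ : Finset (IrrCharacter G)) := Finset.subset_univ _
  have hle := Finset.sum_le_sum_of_subset_of_nonneg (f := fun ζ => (a ζ : ℝ) ^ 2) hsub
    (fun ζ _ _ => sq_nonneg _)
  rw [hsumR, Finset.sum_insert (by
      simp only [Finset.mem_insert, not_or]
      exact ⟨htξ, htξ', htU⟩),
    Finset.sum_insert (by
      simp only [Finset.mem_insert, not_or]
      exact ⟨(F i₀).xi_ne, hξU⟩),
    Finset.sum_insert hξ'U, hsumU, hat] at hle
  have ha' : a (ξ' i₀) = a (ξ i₀) + εz i₀ := by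
    have h1 := (F i₀).psi_xi'
    rw [ha, ha] at h1
    exact_mod_cast h1
  have hsq : (1 : ℝ) ≤ (a (ξ i₀) : ℝ) ^ 2 + (a (ξ' i₀) : ℝ) ^ 2 := by
    have h1 : (1 : ℤ) ≤ (a (ξ i₀)) ^ 2 + (a (ξ' i₀)) ^ 2 := by
      rw [ha']
      rcases (F i₀).eps with h2 | h2 <;> rw [h2] <;> nlinarith [sq_nonneg (a (ξ i₀)),
        sq_nonneg (a (ξ i₀) + 1), sq_nonneg (a (ξ i₀) - 1), sq_nonneg (2 * a (ξ i₀) + 1),
        sq_nonneg (2 * a (ξ i₀) - 1)]
    exact_mod_cast h1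
  push_cast at hle
  linarith

open Classical in
/-- Row bound: the norm of `ξ i₀`, computed over the partition of `G`. -/
theorem fht_row {ι : Type*} [Fintype ι] (K : ι → Subgroup G) (e : ι → ℕ)
    (X : ι → Finset (IrrCharacter G)) (ξ ξ' : ι → IrrCharacter G) (Ψ : ι → G → ℂ)
    (εz : ι → ℤ) (F : ∀ i, FhtFamily (K i) (e i) (X i) (ξ i) (ξ' i) (Ψ i) (εz i))
    (hcop : ∀ i j, i ≠ j → Nat.Coprime (Nat.card (K i)) (Nat.card (K j)))
    (hTI : ∀ i, IsTISubset (K i : Set G))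
    (hcover : ∀ g : G, g ≠ 1 → ∃ i, ∃ x : G, x * g * x⁻¹ ∈ K i)
    (z : ι → ι → ℤ)
    (hz : ∀ i j, i ≠ j → ∀ k ∈ K j, k ≠ 1 → (ξ i : G → ℂ) k = (z i j : ℂ)) (i₀ : ι) :
    1 + ((Subgroup.normalizer (K i₀ : Set G)).index : ℝ) *
        ((e i₀ : ℝ) * (Nat.card (K i₀) : ℝ) - (e i₀ : ℝ) ^ 2) +
      ∑ i ∈ Finset.univ.erase i₀, ((Subgroup.normalizer (K i : Set G)).index : ℝ) *
        (((Nat.card (K i) : ℝ) - 1) * (z i₀ i : ℝ) ^ 2) ≤ (Nat.card G : ℝ) := by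
  have hnorm : ∑ g : G, Complex.normSq ((ξ i₀ : G → ℂ) g) = (Nat.card G : ℝ) := by
    have h1 := Cfsg.Agent.Helper2.classInner_self_eq (ξ i₀ : G → ℂ)
    rw [Cfsg.Agent.Helper25.irr_classInner, if_pos rfl] at h1
    have h2 : ((1 : ℝ) : ℂ) = (((Nat.card G : ℝ)⁻¹ *
        ∑ g : G, Complex.normSq ((ξ i₀ : G → ℂ) g) : ℝ) : ℂ) := by
      rw [← h1]
      simp
    have h3 := Complex.ofReal_injective h2
    have hG : (0 : ℝ) < (Nat.card G : ℝ) := by exact_mod_cast Nat.card_pos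
    field_simp at h3
    linarith
  have hpart := sum_partition K hcop hTI hcover (fun g => Complex.normSq ((ξ i₀ : G → ℂ) g))
    (by
      intro g x
      show Complex.normSq ((ξ i₀ : G → ℂ) (x * g * x⁻¹)) = Complex.normSq ((ξ i₀ : G → ℂ) g)
      rw [Cfsg.Agent.Helper25.irr_conj])
  rw [hnorm] at hpart
  rw [hpart, ← Finset.add_sum_erase Finset.univ _ (Finset.mem_univ i₀)]
  have h1 : (1 : ℝ) ≤ Complex.normSq ((ξ i₀ : G → ℂ) 1) := by
    rw [Cfsg.Agent.Helper25.irr_one_eq_degree]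
    have hpos := Cfsg.Agent.Helper25.irr_degree_pos (ξ i₀)
    have h4 : ((charDegree (ξ i₀ : G → ℂ) : ℕ) : ℂ) =
        (((charDegree (ξ i₀ : G → ℂ) : ℕ) : ℝ) : ℂ) := by push_cast; rfl
    rw [h4, Complex.normSq_ofReal]
    have h5 : (1 : ℝ) ≤ ((charDegree (ξ i₀ : G → ℂ) : ℕ) : ℝ) := by exact_mod_cast hpos
    nlinarith
  have h2 : ((Subgroup.normalizer (K i₀ : Set G)).index : ℝ) *
      ((e i₀ : ℝ) * (Nat.card (K i₀) : ℝ) - (e i₀ : ℝ) ^ 2) ≤
      ((Subgroup.normalizer (K i₀ : Set G)).index : ℝ) *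
        ∑ h ∈ Finset.univ.filter (fun h : G => h ≠ 1 ∧ h ∈ K i₀),
          Complex.normSq ((ξ i₀ : G → ℂ) h) :=
    mul_le_mul_of_nonneg_left (F i₀).mass (Nat.cast_nonneg _)
  have h3 : ∑ i ∈ Finset.univ.erase i₀, ((Subgroup.normalizer (K i : Set G)).index : ℝ) *
      (((Nat.card (K i) : ℝ) - 1) * (z i₀ i : ℝ) ^ 2) =
      ∑ i ∈ Finset.univ.erase i₀, ((Subgroup.normalizer (K i : Set G)).index : ℝ) *
        ∑ h ∈ Finset.univ.filter (fun h : G => h ≠ 1 ∧ h ∈ K i),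
          Complex.normSq ((ξ i₀ : G → ℂ) h) := by
    apply Finset.sum_congr rfl
    intro i hi
    have hii : i₀ ≠ i := fun h => (Finset.mem_erase.mp hi).1 h.symm
    congr 1
    have h4 : ∀ h ∈ Finset.univ.filter (fun h : G => h ≠ 1 ∧ h ∈ K i),
        Complex.normSq ((ξ i₀ : G → ℂ) h) = (z i₀ i : ℝ) ^ 2 := by
      intro h hh
      rw [Finset.mem_filter] at hh
      rw [hz i₀ i hii h hh.2.2 hh.2.1]
      have h5 : ((z i₀ i : ℤ) : ℂ) = (((z i₀ i : ℤ) : ℝ) : ℂ) := by push_cast; rfl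
      rw [h5, Complex.normSq_ofReal]
      ring
    rw [Finset.sum_congr rfl h4, Finset.sum_const, card_nonid_filter, nsmul_eq_mul,
      Nat.cast_sub Nat.card_pos, Nat.cast_one]
  rw [h3]
  linarith

/-- The purely numerical part of the final contradiction. -/
theorem fht_final {ι : Type*} [Fintype ι] [DecidableEq ι] (i₀ : ι) (g : ℝ) (u e h : ι → ℝ)
    (zr zc : ι → ℝ) (hu : ∀ i, 0 < u i) (hI : ∀ i, u i * (e i * h i) = g) (he : ∀ i, 0 < e i)
    (hE : 2 ≤ e i₀) (hH : 2 * e i₀ + 1 ≤ h i₀) (hgt : ∀ i, i ≠ i₀ → h i₀ + 1 ≤ h i)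
    (hpar : ∀ i, i ≠ i₀ → 1 ≤ zr i ^ 2 ∨ 1 ≤ zc i ^ 2)
    (hcount : g = 1 + ∑ i, u i * (h i - 1))
    (hrow : 1 + u i₀ * (e i₀ * h i₀ - e i₀ ^ 2) +
      ∑ i ∈ Finset.univ.erase i₀, u i * ((h i - 1) * zr i ^ 2) ≤ g)
    (hcol : ∑ j ∈ Finset.univ.erase i₀, (h j - 1) / e j * zc j ^ 2 ≤ e i₀ - 1) : False := by
  have hh0 : 0 < h i₀ := by linarith
  have hgpos : 0 < g := by
    rw [← hI i₀]
    exact mul_pos (hu i₀) (mul_pos (he i₀) hh0)
  have hh0' : 0 < h i₀ + 1 := by linarith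
  have hterm : ∀ i ∈ Finset.univ.erase i₀, u i * (h i - 1) ≤
      u i * ((h i - 1) * zr i ^ 2) + g / (h i₀ + 1) * ((h i - 1) / e i * zc i ^ 2) := by
    intro i hi
    have hii : i ≠ i₀ := (Finset.mem_erase.mp hi).1
    have hhi := hgt i hii
    have hhi1 : 0 < h i - 1 := by linarith
    have hhipos : 0 < h i := by linarith
    have hq : 0 ≤ (h i - 1) / e i := div_nonneg hhi1.le (he i).le
    have hA : 0 ≤ u i * ((h i - 1) * zr i ^ 2) :=
      mul_nonneg (hu i).le (mul_nonneg hhi1.le (sq_nonneg _))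
    have hB : 0 ≤ g / (h i₀ + 1) * ((h i - 1) / e i * zc i ^ 2) :=
      mul_nonneg (div_nonneg hgpos.le hh0'.le) (mul_nonneg hq (sq_nonneg _))
    rcases hpar i hii with h1 | h1
    · have h2 : u i * (h i - 1) ≤ u i * ((h i - 1) * zr i ^ 2) := by
        apply mul_le_mul_of_nonneg_left _ (hu i).le
        nlinarith
      linarith
    · have h2 : u i * (h i - 1) = g / h i * ((h i - 1) / e i) := by
        rw [← hI i]
        have := (he i).ne'
        have := hhipos.ne'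
        field_simp
      have h3 : g / h i ≤ g / (h i₀ + 1) := div_le_div_of_nonneg_left hgpos.le hh0' hhi
      have h4 : g / h i * ((h i - 1) / e i) ≤ g / (h i₀ + 1) * ((h i - 1) / e i) :=
        mul_le_mul_of_nonneg_right h3 hq
      have h5 : g / (h i₀ + 1) * ((h i - 1) / e i) ≤
          g / (h i₀ + 1) * ((h i - 1) / e i * zc i ^ 2) := by
        apply mul_le_mul_of_nonneg_left _ (div_nonneg hgpos.le hh0'.le)
        nlinarith
      linarith
  have hsum := Finset.sum_le_sum hterm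
  rw [Finset.sum_add_distrib, ← Finset.mul_sum] at hsum
  have hcol' : g / (h i₀ + 1) * ∑ i ∈ Finset.univ.erase i₀, (h i - 1) / e i * zc i ^ 2 ≤
      g / (h i₀ + 1) * (e i₀ - 1) :=
    mul_le_mul_of_nonneg_left hcol (div_nonneg hgpos.le hh0'.le)
  rw [← Finset.add_sum_erase Finset.univ _ (Finset.mem_univ i₀)] at hcount
  apply fht_arith g (u i₀) (e i₀) (h i₀) (hu i₀) (by rw [← hI i₀]; ring) hE hH
  linarith

open Classical in
/-- **Feit–Hall–Thompson**: a group of odd order is not partitioned by the conjugates of at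
least two TI Frobenius kernels of pairwise coprime orders. -/
theorem fht_contradiction (hodd : Odd (Nat.card G)) {ι : Type*} [Fintype ι]
    (hι : 2 ≤ Fintype.card ι) (H : ι → Subgroup G) (hH1 : ∀ i, H i ≠ ⊥)
    (hTI : ∀ i, IsTISubset (H i : Set G))
    (hlt : ∀ i, H i < Subgroup.normalizer (H i : Set G))
    (hC : ∀ i, ∀ k ∈ H i, k ≠ 1 → Subgroup.centralizer ({k} : Set G) ≤ H i)
    (hcop : ∀ i j, i ≠ j → Nat.Coprime (Nat.card (H i)) (Nat.card (H j)))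
    (hcover : ∀ g : G, g ≠ 1 → ∃ i, ∃ x : G, x * g * x⁻¹ ∈ H i) : False := by
  have hfam := fun i => fht_family_exists hodd (H i) (hH1 i) (hTI i) (hlt i) (hC i)
  have hbig := fun i => (hfam i).1
  choose X ξ ξ' Ψ εz F using fun i => (hfam i).2
  obtain ⟨e, he⟩ : ∃ e : ι → ℕ, e = fun i =>
      ((H i).subgroupOf (Subgroup.normalizer (H i : Set G))).index := ⟨_, rfl⟩
  have heq : ∀ i, ((H i).subgroupOf (Subgroup.normalizer (H i : Set G))).index = e i := by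
    intro i
    rw [he]
  simp only [heq] at hbig F
  -- non-identity elements are conjugate into at most one `H i`
  have hoffgen : ∀ i j, i ≠ j → ∀ x : G, x ≠ 1 → ∀ a b : G, a * x * a⁻¹ ∈ H i →
      b * x * b⁻¹ ∉ H j := by
    intro i j hij x hx a b ha hb
    have h1 : orderOf x ∣ Nat.card (H i) := by
      have h2 : orderOf (a * x * a⁻¹) = orderOf x := orderOf_conj' a x
      rw [← h2]
      have h3 : orderOf (⟨a * x * a⁻¹, ha⟩ : H i) = orderOf (a * x * a⁻¹) :=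
        Subgroup.orderOf_mk _ _
      rw [← h3]
      exact orderOf_dvd_natCard _
    have h1' : orderOf x ∣ Nat.card (H j) := by
      have h2 : orderOf (b * x * b⁻¹) = orderOf x := orderOf_conj' b x
      rw [← h2]
      have h3 : orderOf (⟨b * x * b⁻¹, hb⟩ : H j) = orderOf (b * x * b⁻¹) :=
        Subgroup.orderOf_mk _ _
      rw [← h3]
      exact orderOf_dvd_natCard _
    have h4 : orderOf x = 1 := Nat.eq_one_of_dvd_coprimes (hcop i j hij) h1 h1'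
    exact hx (orderOf_eq_one_iff.mp h4)
  have hoff : ∀ i j, i ≠ j → ∀ x ∈ H j, x ≠ 1 → ∀ g : G, g * x * g⁻¹ ∉ H i := by
    intro i j hij x hx hx1 g hg
    apply hoffgen i j hij x hx1 g 1 hg
    simpa using hx
  have hdisj : ∀ i j, i ≠ j → ∀ x : G, x ≠ 1 →
      (∀ g : G, g * x * g⁻¹ ∉ H i) ∨ (∀ g : G, g * x * g⁻¹ ∉ H j) := by
    intro i j hij x hx
    by_cases h : ∃ g : G, g * x * g⁻¹ ∈ H i
    · obtain ⟨a, ha⟩ := h
      exact Or.inr (fun b => hoffgen i j hij x hx a b ha)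
    · push Not at h
      exact Or.inl h
  have hXdisj : ∀ i j, i ≠ j → ∀ ζ ∈ X i, ζ ∉ X j := by
    intro i j hij ζ hζi hζj
    apply (F i).ne_one ζ hζi
    apply Cfsg.Agent.S0161.result hodd ζ
    intro x
    by_cases hx : x = 1
    · rw [hx, Cfsg.Agent.Helper25.irr_one_eq_degree]
      exact Complex.natCast_im _
    · apply Complex.conj_eq_iff_im.mp
      rcases hdisj i j hij x hx with h | h
      · exact (F i).real_off ζ hζi x h
      · exact (F j).real_off ζ hζj x h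
  have hzex : ∀ i j, ∃ z : ℤ, i ≠ j → ∀ k ∈ H j, k ≠ 1 → (ξ i : G → ℂ) k = (z : ℂ) := by
    intro i j
    by_cases hij : i = j
    · exact ⟨0, fun h => absurd hij h⟩
    · obtain ⟨z, hz⟩ := (F j).const (ξ i) (hXdisj i j hij _ (F i).xi_mem)
      exact ⟨z, fun _ => hz⟩
  choose z hz using hzex
  have hpar : ∀ i j, i ≠ j → z i j ≠ 0 ∨ z j i ≠ 0 := by
    intro i j hij
    exact fht_parity hodd (H i) (H j) (e i) (e j) (F i) (F j) (hdisj i j hij)
      (hXdisj i j hij _ (F i).xi_mem) (hXdisj i j hij _ (F i).xi'_mem) (z i j) (z j i)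
      (hz i j hij) (hz j i (Ne.symm hij))
  -- the smallest kernel
  have hne : Nonempty ι := by
    rw [← Fintype.card_pos_iff]
    omega
  obtain ⟨i₁⟩ := hne
  obtain ⟨i₀, -, hmin⟩ := Finset.exists_min_image Finset.univ (fun i => Nat.card (H i))
    ⟨i₁, Finset.mem_univ _⟩
  have hcard1 : ∀ i, 1 < Nat.card (H i) := by
    intro i
    rw [Subgroup.one_lt_card_iff_ne_bot]
    exact hH1 i
  have hgt : ∀ i, i ≠ i₀ → Nat.card (H i₀) + 1 ≤ Nat.card (H i) := by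
    intro i hi
    have h1 := hmin i (Finset.mem_univ _)
    have h2 : Nat.card (H i₀) ≠ Nat.card (H i) := by
      intro h3
      have h4 := hcop i i₀ hi
      rw [← h3, Nat.coprime_self] at h4
      have := hcard1 i₀
      omega
    omega
  have hepos : ∀ i, 0 < e i := by
    intro i
    rw [← heq i]
    exact Nat.pos_of_ne_zero Subgroup.index_ne_zero_of_finite
  have he2 : ∀ i, 2 ≤ e i := by
    intro i
    have h1 := hepos i
    have h2 : e i ≠ 1 := by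
      rw [← heq i]
      intro h3
      exact (ti_frob_basic (H i) (hH1 i) (hlt i) (hC i)).2.2.2 (Subgroup.index_eq_one.mp h3)
    omega
  have hcol := fht_column H e X ξ ξ' Ψ εz F hXdisj hoff z hz hH1 hepos i₀
  have hrow := fht_row H e X ξ ξ' Ψ εz F hcop hTI hcover z hz i₀
  have hcount : (Nat.card G : ℝ) = 1 + ∑ i, ((Subgroup.normalizer (H i : Set G)).index : ℝ) *
      ((Nat.card (H i) : ℝ) - 1) := by
    have h1 := sum_partition H hcop hTI hcover (fun _ => (1 : ℝ)) (fun _ _ => rfl)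
    simp only [Finset.sum_const, Finset.card_univ, nsmul_eq_mul, mul_one] at h1
    rw [← Nat.card_eq_fintype_card] at h1
    rw [h1]
    congr 1
    apply Finset.sum_congr rfl
    intro i _
    rw [card_nonid_filter, Nat.cast_sub Nat.card_pos, Nat.cast_one]
  have hI : ∀ i, ((Subgroup.normalizer (H i : Set G)).index : ℝ) *
      ((e i : ℝ) * (Nat.card (H i) : ℝ)) = (Nat.card G : ℝ) := by
    intro i
    have h1 := Subgroup.index_mul_card (Subgroup.normalizer (H i : Set G))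
    have h2 := Subgroup.index_mul_card ((H i).subgroupOf (Subgroup.normalizer (H i : Set G)))
    have h3 : Nat.card ((H i).subgroupOf (Subgroup.normalizer (H i : Set G))) =
        Nat.card (H i) := Nat.card_congr (Subgroup.subgroupOfEquivOfLe (hlt i).le).toEquiv
    rw [h3, heq i] at h2
    rw [← h1, ← h2]
    push_cast
    ring
  apply fht_final i₀ (Nat.card G : ℝ)
    (fun i => ((Subgroup.normalizer (H i : Set G)).index : ℝ)) (fun i => (e i : ℝ))
    (fun i => (Nat.card (H i) : ℝ)) (fun i => (z i₀ i : ℝ)) (fun i => (z i i₀ : ℝ))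
  · intro i
    have : 0 < (Subgroup.normalizer (H i : Set G)).index :=
      Nat.pos_of_ne_zero Subgroup.index_ne_zero_of_finite
    exact_mod_cast this
  · exact hI
  · intro i
    exact_mod_cast hepos i
  · exact_mod_cast he2 i₀
  · exact_mod_cast hbig i₀
  · intro i hi
    exact_mod_cast hgt i hi
  · intro i hi
    rcases hpar i₀ i (Ne.symm hi) with h | h
    · left
      have h1 : (1 : ℤ) ≤ (z i₀ i) ^ 2 := by
        have := sq_nonneg (z i₀ i)
        have h2 : (z i₀ i) ^ 2 ≠ 0 := pow_ne_zero 2 h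
        omega
      exact_mod_cast h1
    · right
      have h1 : (1 : ℤ) ≤ (z i i₀) ^ 2 := by
        have := sq_nonneg (z i i₀)
        have h2 : (z i i₀) ^ 2 ≠ 0 := pow_ne_zero 2 h
        omega
      exact_mod_cast h1
  · exact hcount
  · exact hrow
  · exact hcol

end

end Cfsg.Agent.Helper11
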