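import Mathlib
import Cfsg.Agent.Helper11.FHTL2
import Cfsg.Agent.Helper11.FHT3
import Cfsg.Agent.Helper11.CNMax2
import Cfsg.Agent.S0035

/-!
# There is no minimal simple CN-group of odd order (helper11)

The Feit–Hall–Thompson theorem: the maximal nilpotent subgroups of a minimal simple CN-group of
odd order are TI Hall subgroups with Frobenius normalizers, which contradicts
`fht_contradiction`.
-/

set_option autoImplicit false

namespace Cfsg.Agent.Helper11

open Cfsg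

open scoped commutatorElement Pointwise

universe u

/-- Maximal nilpotent subgroups. -/
def IsMaxNilp {G : Type*} [Group G] (H : Subgroup G) : Prop :=
  Group.IsNilpotent H ∧ ∀ L : Subgroup G, Group.IsNilpotent L → H ≤ L → L = H

/-- Every nilpotent subgroup lies in a maximal nilpotent subgroup. -/
theorem exists_maxNilp_ge {G : Type*} [Group G] [Finite G] (K : Subgroup G)
    (hK : Group.IsNilpotent K) : ∃ M : Subgroup G, IsMaxNilp M ∧ K ≤ M := by
  obtain ⟨M, ⟨hMn, hKM⟩, hmax⟩ := Set.Finite.exists_maximalFor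
    (fun L : Subgroup G => Nat.card L) {L : Subgroup G | Group.IsNilpotent L ∧ K ≤ L}
    (Set.toFinite _) ⟨K, hK, le_rfl⟩
  refine ⟨M, ⟨hMn, fun L hL hML => ?_⟩, hKM⟩
  have h1 : Nat.card M ≤ Nat.card L := Subgroup.card_le_of_le hML
  have h2 : Nat.card L ≤ Nat.card M := hmax ⟨hL, hKM.trans hML⟩ h1
  exact (Subgroup.eq_of_le_of_card_ge hML h2).symm

/-- A nontrivial nilpotent subgroup centralizes one of its nonidentity elements. -/
theorem exists_central_of_nilpotent {G : Type*} [Group G] (H : Subgroup G)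
    (hH : Group.IsNilpotent H) (hH1 : H ≠ ⊥) :
    ∃ z ∈ H, z ≠ 1 ∧ H ≤ Subgroup.centralizer ({z} : Set G) := by
  have _i := hH
  have _i2 : Nontrivial H := (Subgroup.nontrivial_iff_ne_bot H).mpr hH1
  have hc := Group.IsNilpotent.center_ne_bot (G := H)
  obtain ⟨z, hz1⟩ := (Subgroup.ne_bot_iff_exists_ne_one).mp hc
  refine ⟨((z : H) : G), (z : H).2, ?_, ?_⟩
  · intro h
    apply hz1
    apply Subtype.ext
    apply Subtype.ext
    exact h
  · intro y hy
    rw [Subgroup.mem_centralizer_singleton_iff]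
    have := Subgroup.mem_center_iff.mp z.2 ⟨y, hy⟩
    exact congrArg Subtype.val this

/-- If a Sylow `p`-subgroup is a maximal nilpotent subgroup, then `p` is isolated. -/
theorem iso_of_maxNilp_sylow {G : Type*} [Group G] [Finite G] (hCN : IsCNGroup G) {p : ℕ}
    [Fact p.Prime] (P : Sylow p G) (hP1 : (P : Subgroup G) ≠ ⊥)
    (hmax : IsMaxNilp (P : Subgroup G)) :
    ∀ x : G, x ≠ 1 → (∃ k : ℕ, x ^ p ^ k = 1) →
      IsPGroup p (Subgroup.centralizer ({x} : Set G)) := by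
  have hpp := (Fact.out : p.Prime)
  obtain ⟨z, hzP, hz1, hPz⟩ := exists_fixed_of_pgroup p (P : Subgroup G) (P : Subgroup G)
    P.isPGroup' P.isPGroup' hP1 Subgroup.le_normalizer
  have hCz : Subgroup.centralizer ({z} : Set G) = (P : Subgroup G) := hmax.2 _ (hCN z hz1) hPz
  obtain ⟨b, hb⟩ := P.isPGroup' ⟨z, hzP⟩
  have hb' : z ^ p ^ b = 1 := by simpa using congrArg Subtype.val hb
  have key : ∀ x' ∈ (P : Subgroup G), x' ≠ 1 → ∀ y ∈ Subgroup.centralizer ({x'} : Set G),
      ∃ a : ℕ, y ^ p ^ a = 1 := by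
    intro x' hx' hx'1 y hy
    have hnil := hCN x' hx'1
    have hzC : z ∈ Subgroup.centralizer ({x'} : Set G) := by
      rw [Subgroup.mem_centralizer_singleton_iff]
      have := hPz hx'
      rw [Subgroup.mem_centralizer_singleton_iff] at this
      exact this.symm
    have hord : orderOf y ≠ 0 := (orderOf_pos y).ne'
    obtain ⟨a, m, hm, hym⟩ := Nat.exists_eq_pow_mul_and_not_dvd hord p hpp.ne_one
    have hmp : m.Coprime p := ((Nat.Prime.coprime_iff_not_dvd hpp).mpr hm).symm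
    have hy1m : (y ^ p ^ a) ^ m = 1 := by
      rw [← pow_mul, ← hym]; exact pow_orderOf_eq_one y
    have hy1C : y ^ p ^ a ∈ Subgroup.centralizer ({x'} : Set G) := Subgroup.pow_mem _ hy _
    have hcomm := commute_in_nilpotent hnil hy1C hzC m (p ^ b) (Nat.Coprime.pow_right b hmp)
      hy1m hb'
    have hyP : y ^ p ^ a ∈ (P : Subgroup G) := by
      rw [← hCz, Subgroup.mem_centralizer_singleton_iff]
      exact hcomm
    obtain ⟨c, hc⟩ := P.isPGroup' ⟨y ^ p ^ a, hyP⟩
    have hc' : (y ^ p ^ a) ^ p ^ c = 1 := by simpa using congrArg Subtype.val hc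
    refine ⟨a, ?_⟩
    have h1 : orderOf (y ^ p ^ a) ∣ m := orderOf_dvd_of_pow_eq_one hy1m
    have h2 : orderOf (y ^ p ^ a) ∣ p ^ c := orderOf_dvd_of_pow_eq_one hc'
    have h3 : orderOf (y ^ p ^ a) = 1 :=
      Nat.eq_one_of_dvd_coprimes (Nat.Coprime.pow_right c hmp) h1 h2
    exact orderOf_eq_one_iff.mp h3
  rintro x hx1 ⟨k, hk⟩
  have hxp : IsPGroup p (Subgroup.zpowers x) := isPGroup_zpowers_of_pow p k x hk
  obtain ⟨n, -, hn⟩ := exists_conj_mem_sylow P ⊤ le_top _ hxp le_top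
  have hx' : n * x * n⁻¹ ∈ (P : Subgroup G) := hn x (Subgroup.mem_zpowers x)
  have hx'1 : n * x * n⁻¹ ≠ 1 := by
    intro h
    apply hx1
    have : x = n⁻¹ * (n * x * n⁻¹) * n := by group
    rw [this, h]; group
  rintro ⟨y, hy⟩
  have hy' : n * y * n⁻¹ ∈ Subgroup.centralizer ({n * x * n⁻¹} : Set G) := by
    rw [Subgroup.mem_centralizer_singleton_iff] at hy ⊢
    calc n * y * n⁻¹ * (n * x * n⁻¹) = n * (y * x) * n⁻¹ := by group
      _ = n * (x * y) * n⁻¹ := by rw [hy]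
      _ = n * x * n⁻¹ * (n * y * n⁻¹) := by group
  obtain ⟨a, ha⟩ := key _ hx' hx'1 _ hy'
  refine ⟨a, ?_⟩
  apply Subtype.ext
  rw [conj_pow] at ha
  have h5 : y ^ p ^ a = n⁻¹ * (n * y ^ p ^ a * n⁻¹) * n := by group
  show y ^ p ^ a = 1
  rw [h5, ha]; group

/-- The standing hypotheses: a minimal simple CN-group of odd order. -/
structure MinSimpCN (G : Type*) [Group G] : Prop where
  cn : IsCNGroup G
  odd : Odd (Nat.card G)
  sol : ∀ H : Subgroup G, H ≠ ⊤ → Group.IsSolvable H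
  simple : ∀ N : Subgroup G, N.Normal → N = ⊥ ∨ N = ⊤
  perfect : commutator G = ⊤
  notnil : ¬ Group.IsNilpotent G

theorem MinSimpCN.of {G : Type*} [Group G] [Finite G] (hG : IsMinSimpleOddOrder G)
    (hCN : IsCNGroup G) : MinSimpCN G := by
  obtain ⟨hodd, hsimple, hnc, hsol⟩ := hG
  have _i := hsimple
  have hnsol : ¬ Group.IsSolvable G := by
    intro h
    apply hnc
    have := (IsSimpleGroup.comm_iff_isSolvable (G := G)).mpr h
    exact ⟨⟨this⟩⟩
  refine ⟨hCN, hodd, hsol, fun N hN => hN.eq_bot_or_eq_top, ?_, ?_⟩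
  · rcases (inferInstance : (commutator G).Normal).eq_bot_or_eq_top with h | h
    · exfalso
      apply hnc
      refine ⟨⟨fun a b => ?_⟩⟩
      rw [commutator_def] at h
      have : ⁅a, b⁆ ∈ ⁅(⊤ : Subgroup G), ⊤⁆ :=
        Subgroup.commutator_mem_commutator (Subgroup.mem_top a) (Subgroup.mem_top b)
      rw [h, Subgroup.mem_bot] at this
      exact commutatorElement_eq_one_iff_mul_comm.mp this
    · exact h
  · intro h
    apply hnsol
    infer_instance

section

variable {G : Type u} [Group G] [Finite G]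

theorem maxNilp_ne_top (hS : MinSimpCN G) (H : Subgroup G) (hH : IsMaxNilp H) : H ≠ ⊤ := by
  intro h
  apply hS.notnil
  have h1 := hH.1
  rw [h] at h1
  exact (Group.isNilpotent_congr Subgroup.topEquiv).mp h1

/-- Maximal nilpotent subgroups are TI. -/
theorem maxNilp_TI (hS : MinSimpCN G) (H : Subgroup G) (hH : IsMaxNilp H) (hH1 : H ≠ ⊥) :
    ∀ g : G, H.map (MulAut.conj g).toMonoidHom ≠ H →
      H ⊓ H.map (MulAut.conj g).toMonoidHom = ⊥ := by
  intro g hg
  by_cases hpp : IsPrimePow (Nat.card H)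
  · obtain ⟨p, k, hp, hk, hcard⟩ := (isPrimePow_nat_iff _).mp hpp
    have _i : Fact p.Prime := ⟨hp⟩
    have hHp : IsPGroup p H := IsPGroup.of_card hcard.symm
    obtain ⟨P, hHP⟩ := hHp.exists_le_sylow
    have hPH : (P : Subgroup G) = H := hH.2 _ P.isPGroup'.isNilpotent hHP
    have hP1 : (P : Subgroup G) ≠ ⊥ := by rw [hPH]; exact hH1
    have hmaxP : IsMaxNilp (P : Subgroup G) := by rw [hPH]; exact hH
    have hSetup : IsoSetup G p :=
      { cn := hS.cn, odd := hS.odd, sol := hS.sol, simple := hS.simple, perfect := hS.perfect,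
        notp := fun h => hS.notnil h.isNilpotent,
        iso := iso_of_maxNilp_sylow hS.cn P hP1 hmaxP }
    have := hSetup.sylow_TI P hP1 g (by rw [hPH]; exact hg)
    rw [hPH] at this
    exact this
  · have hne1 : Nat.card H ≠ 1 := by
      intro h
      exact hH1 (Subgroup.card_eq_one.mp h)
    exact cn_max_TI hS.cn H hH.1 hH.2 hpp hne1 g hg

theorem maxNilp_cent (hS : MinSimpCN G) (H : Subgroup G) (hH : IsMaxNilp H) (hH1 : H ≠ ⊥) :
    ∀ x ∈ H, x ≠ 1 → Subgroup.centralizer ({x} : Set G) ≤ H :=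
  fun x hx hx1 => cn_max_cent hS.cn H hH.1 hH.2 (maxNilp_TI hS H hH hH1) x hx hx1

theorem maxNilp_lt_normalizer (hS : MinSimpCN G) (H : Subgroup G) (hH : IsMaxNilp H)
    (hH1 : H ≠ ⊥) : H < Subgroup.normalizer (H : Set G) := by
  refine lt_of_le_of_ne Subgroup.le_normalizer ?_
  intro heq
  have hTI := maxNilp_TI hS H hH hH1
  have hF : IsFrobeniusComplement H := by
    refine ⟨hH1, maxNilp_ne_top hS H hH, fun g hg => ?_⟩
    have h1 : H.map (MulAut.conj g).toMonoidHom ≠ H := by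
      intro h
      apply hg
      have h2 : g ∈ Subgroup.normalizer (H : Set G) := by
        apply Cfsg.Agent.S0650.mem_normalizer_of_conj
        intro x hx
        rw [← h]
        exact ⟨x, hx, rfl⟩
      exact heq.ge h2
    have h2 : MulAut.conj g • H = H.map (MulAut.conj g).toMonoidHom := rfl
    rw [h2]
    exact hTI g h1
  obtain ⟨N, -, hNn, hNc⟩ := Cfsg.Agent.S0035.result H hF
  rcases hS.simple N hNn with h | h
  · rw [h, Subgroup.isComplement'_bot_left] at hNc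
    exact maxNilp_ne_top hS H hH hNc
  · rw [h, Subgroup.isComplement'_top_left] at hNc
    exact hH1 hNc

theorem maxNilp_TISubset (hS : MinSimpCN G) (H : Subgroup G) (hH : IsMaxNilp H) (hH1 : H ≠ ⊥) :
    IsTISubset (H : Set G) := by
  intro g hg x hx hgx
  have hTI := maxNilp_TI hS H hH hH1
  have h1 : H.map (MulAut.conj g⁻¹).toMonoidHom ≠ H := by
    intro h
    apply hg
    have h2 : g⁻¹ ∈ Subgroup.normalizer (H : Set G) := by
      apply Cfsg.Agent.S0650.mem_normalizer_of_conj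
      intro y hy
      rw [← h]
      exact ⟨y, hy, rfl⟩
    have := Subgroup.inv_mem _ h2
    rwa [inv_inv] at this
  have h3 := hTI g⁻¹ h1
  have h4 : x ∈ H ⊓ H.map (MulAut.conj g⁻¹).toMonoidHom := by
    refine ⟨hx, g * x * g⁻¹, hgx, ?_⟩
    show g⁻¹ * (g * x * g⁻¹) * g⁻¹⁻¹ = x
    group
  rw [h3, Subgroup.mem_bot] at h4
  exact h4

/-- Maximal nilpotent subgroups whose orders have a common prime divisor are conjugate. -/
theorem maxNilp_conj_of_common_prime (hS : MinSimpCN G) (H₁ H₂ : Subgroup G)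
    (h₁ : IsMaxNilp H₁) (h₂ : IsMaxNilp H₂) (h₁1 : H₁ ≠ ⊥) (h₂1 : H₂ ≠ ⊥) (q : ℕ) (hq : q.Prime)
    (hq₁ : q ∣ Nat.card H₁) (hq₂ : q ∣ Nat.card H₂) :
    ∃ g : G, H₂ = H₁.map (MulAut.conj g).toMonoidHom := by
  have _i : Fact q.Prime := ⟨hq⟩
  obtain ⟨R₁, hR₁H, hR₁p, hR₁1, hR₁all⟩ := exists_sylow_of_nilpotent H₁ h₁.1 q hq₁
  obtain ⟨R₂, hR₂H, hR₂p, hR₂1, hR₂all⟩ := exists_sylow_of_nilpotent H₂ h₂.1 q hq₂
  obtain ⟨S₁, hS₁⟩ := cn_max_sylow hS.cn H₁ h₁.1 h₁.2 q R₁ hR₁H hR₁p hR₁1 hR₁all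
  obtain ⟨S₂, hS₂⟩ := cn_max_sylow hS.cn H₂ h₂.1 h₂.2 q R₂ hR₂H hR₂p hR₂1 hR₂all
  obtain ⟨g, hg⟩ := MulAction.exists_smul_eq G S₁ S₂
  have hmap : (S₂ : Subgroup G) = (S₁ : Subgroup G).map (MulAut.conj g).toMonoidHom := by
    rw [← hg, Sylow.coe_subgroup_smul]; rfl
  refine ⟨g, ?_⟩
  obtain ⟨x, hx1⟩ := (Subgroup.ne_bot_iff_exists_ne_one).mp hR₂1
  have hx1' : (x : G) ≠ 1 := fun h => hx1 (Subtype.ext h)
  have hxS₂ : (x : G) ∈ (S₂ : Subgroup G) := by rw [hS₂]; exact x.2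
  rw [hmap] at hxS₂
  obtain ⟨x₀, hx₀S, hx₀⟩ := hxS₂
  have hx₀' : g * x₀ * g⁻¹ = (x : G) := hx₀
  have hx₀H : x₀ ∈ H₁ := hR₁H (by rw [← hS₁]; exact hx₀S)
  have hx₀1 : x₀ ≠ 1 := by
    intro h
    apply hx1'
    rw [← hx₀', h]; group
  have hc₁ := maxNilp_cent hS H₁ h₁ h₁1
  have hconj : ∀ y ∈ H₁, y ≠ 1 → Subgroup.centralizer ({g * y * g⁻¹} : Set G) ≤
      H₁.map (MulAut.conj g).toMonoidHom := by
    intro y hy hy1 c hc
    rw [Subgroup.mem_centralizer_singleton_iff] at hc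
    have h1 : g⁻¹ * c * g ∈ Subgroup.centralizer ({y} : Set G) := by
      rw [Subgroup.mem_centralizer_singleton_iff]
      have h2 : g⁻¹ * c * g * y = g⁻¹ * (c * (g * y * g⁻¹)) * g := by group
      rw [h2, hc]; group
    refine ⟨g⁻¹ * c * g, hc₁ y hy hy1 h1, ?_⟩
    show g * (g⁻¹ * c * g) * g⁻¹ = c
    group
  obtain ⟨z, hzH, hz1, hHz⟩ := exists_central_of_nilpotent H₂ h₂.1 h₂1
  have hzx : z ∈ Subgroup.centralizer ({(x : G)} : Set G) := by
    rw [Subgroup.mem_centralizer_singleton_iff]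
    have := hHz (hR₂H x.2)
    rw [Subgroup.mem_centralizer_singleton_iff] at this
    exact this.symm
  rw [← hx₀'] at hzx
  obtain ⟨z₀, hz₀H, hz₀⟩ := hconj x₀ hx₀H hx₀1 hzx
  have hz₀' : g * z₀ * g⁻¹ = z := hz₀
  have hz₀1 : z₀ ≠ 1 := by
    intro h
    apply hz1
    rw [← hz₀', h]; group
  have hle : H₂ ≤ H₁.map (MulAut.conj g).toMonoidHom := by
    refine hHz.trans ?_
    rw [← hz₀']
    exact hconj z₀ hz₀H hz₀1
  exact (h₂.2 _ (isNilpotent_map _ h₁.1) hle).symm

end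

/-- Conjugacy of nontrivial maximal nilpotent subgroups. -/
def maxNilpSetoid (G : Type*) [Group G] : Setoid {H : Subgroup G // IsMaxNilp H ∧ H ≠ ⊥} where
  r A B := ∃ g : G, B.1 = A.1.map (MulAut.conj g).toMonoidHom
  iseqv :=
    { refl := by
        intro A
        refine ⟨1, ?_⟩
        ext x
        constructor
        · intro hx
          exact ⟨x, hx, by simp⟩
        · rintro ⟨y, hy, rfl⟩
          simpa using hy
      symm := by
        rintro A B ⟨g, hg⟩
        refine ⟨g⁻¹, ?_⟩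
        rw [hg]
        ext x
        constructor
        · intro hx
          refine ⟨g * x * g⁻¹, ⟨x, hx, rfl⟩, ?_⟩
          show g⁻¹ * (g * x * g⁻¹) * g⁻¹⁻¹ = x
          group
        · rintro ⟨_, ⟨y, hy, rfl⟩, rfl⟩
          have h1 : (MulAut.conj g⁻¹).toMonoidHom ((MulAut.conj g).toMonoidHom y) = y := by
            show g⁻¹ * (g * y * g⁻¹) * g⁻¹⁻¹ = y
            group
          rw [h1]
          exact hy
      trans := by
        rintro A B C ⟨g, hg⟩ ⟨h, hh⟩
        refine ⟨h * g, ?_⟩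
        rw [hh, hg]
        ext x
        constructor
        · rintro ⟨_, ⟨y, hy, rfl⟩, rfl⟩
          refine ⟨y, hy, ?_⟩
          show h * g * y * (h * g)⁻¹ = h * (g * y * g⁻¹) * h⁻¹
          group
        · rintro ⟨y, hy, rfl⟩
          refine ⟨g * y * g⁻¹, ⟨y, hy, rfl⟩, ?_⟩
          show h * (g * y * g⁻¹) * h⁻¹ = h * g * y * (h * g)⁻¹
          group }

/-- **Feit–Hall–Thompson**: there is no minimal simple CN-group of odd order. -/
theorem cn_minsimple_false {G : Type u} [Group G] [Finite G] (hG : IsMinSimpleOddOrder G)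
    (hCN : IsCNGroup G) : False := by
  classical
  have hS := MinSimpCN.of hG hCN
  have _instF : Fintype G := Fintype.ofFinite G
  have _instι : Fintype (Quotient (maxNilpSetoid G)) := Fintype.ofFinite _
  obtain ⟨H, hHdef⟩ : ∃ H : Quotient (maxNilpSetoid G) → Subgroup G,
      H = fun i => (Quotient.out i).1 := ⟨_, rfl⟩
  have hHmax : ∀ i, IsMaxNilp (H i) := fun i => by rw [hHdef]; exact (Quotient.out i).2.1
  have hH1 : ∀ i, H i ≠ ⊥ := fun i => by rw [hHdef]; exact (Quotient.out i).2.2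
  have hnc : ∀ i j, (∃ g : G, H j = (H i).map (MulAut.conj g).toMonoidHom) → i = j := by
    intro i j h
    rw [hHdef] at h
    have h1 : (⟦Quotient.out i⟧ : Quotient (maxNilpSetoid G)) = ⟦Quotient.out j⟧ :=
      Quotient.sound h
    rwa [Quotient.out_eq, Quotient.out_eq] at h1
  have hcop : ∀ i j, i ≠ j → Nat.Coprime (Nat.card (H i)) (Nat.card (H j)) := by
    intro i j hij
    by_contra hnc'
    obtain ⟨q, hq, hq1, hq2⟩ := Nat.Prime.not_coprime_iff_dvd.mp hnc'
    exact hij (hnc i j (maxNilp_conj_of_common_prime hS _ _ (hHmax i) (hHmax j) (hH1 i) (hH1 j)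
      q hq hq1 hq2))
  have hcover : ∀ g : G, g ≠ 1 → ∃ i, ∃ x : G, x * g * x⁻¹ ∈ H i := by
    intro g hg
    have hzn : Group.IsNilpotent (Subgroup.zpowers g) :=
      isNilpotent_of_le (Subgroup.zpowers_le.mpr
        (Subgroup.mem_centralizer_singleton_iff.mpr rfl)) (hCN g hg)
    obtain ⟨M, hM, hgM⟩ := exists_maxNilp_ge (Subgroup.zpowers g) hzn
    have hgM' : g ∈ M := hgM (Subgroup.mem_zpowers g)
    have hM1 : M ≠ ⊥ := by
      intro h
      rw [h, Subgroup.mem_bot] at hgM'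
      exact hg hgM'
    obtain ⟨m, hm⟩ : ∃ m : {H : Subgroup G // IsMaxNilp H ∧ H ≠ ⊥}, m.1 = M :=
      ⟨⟨M, hM, hM1⟩, rfl⟩
    have hrel : (maxNilpSetoid G).r (Quotient.out (⟦m⟧ : Quotient (maxNilpSetoid G))) m :=
      Quotient.exact (Quotient.out_eq _)
    obtain ⟨x, hx⟩ := hrel
    refine ⟨⟦m⟧, x⁻¹, ?_⟩
    have h2 : g ∈ (H ⟦m⟧).map (MulAut.conj x).toMonoidHom := by
      rw [hHdef]
      show g ∈ ((Quotient.out (⟦m⟧ : Quotient (maxNilpSetoid G))).1).map
        (MulAut.conj x).toMonoidHom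
      rw [← hx, hm]
      exact hgM'
    obtain ⟨y, hy, hyg⟩ := h2
    have hyg' : x * y * x⁻¹ = g := hyg
    rw [← hyg']
    have h3 : x⁻¹ * (x * y * x⁻¹) * x⁻¹⁻¹ = y := by group
    rw [h3]
    exact hy
  have hι : 2 ≤ Fintype.card (Quotient (maxNilpSetoid G)) := by
    by_contra hlt
    obtain ⟨g, hg⟩ : ∃ g : G, g ≠ 1 := by
      by_contra hall
      push Not at hall
      apply hS.notnil
      have : Subsingleton G := ⟨fun a b => by rw [hall a, hall b]⟩
      infer_instance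
    obtain ⟨i₀, x₀, hx₀⟩ := hcover g hg
    have hsub : ∀ i : Quotient (maxNilpSetoid G), i = i₀ := by
      have hcard : Fintype.card (Quotient (maxNilpSetoid G)) ≤ 1 := by omega
      intro i
      exact Fintype.card_le_one_iff.mp hcard i i₀
    have hHall := cn_max_coprime hS.cn (H i₀) (hHmax i₀).1 (hHmax i₀).2
    have hidx : (H i₀).index ≠ 1 := by
      intro h
      exact maxNilp_ne_top hS _ (hHmax i₀) (Subgroup.index_eq_one.mp h)
    obtain ⟨q, hq, hqi⟩ := Nat.exists_prime_and_dvd hidx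
    have _iq : Fact q.Prime := ⟨hq⟩
    have hqG : q ∣ Nat.card G := hqi.trans (Subgroup.index_dvd_card _)
    obtain ⟨y, hy⟩ := exists_prime_orderOf_dvd_card' q hqG
    have hy1 : y ≠ 1 := by
      intro h
      rw [h, orderOf_one] at hy
      exact hq.ne_one hy.symm
    obtain ⟨i, x, hx⟩ := hcover y hy1
    rw [hsub i] at hx
    have hqH : q ∣ Nat.card (H i₀) := by
      have h1 : orderOf (x * y * x⁻¹) = q := by rw [orderOf_conj', hy]
      rw [← h1]
      have h3 : orderOf (⟨x * y * x⁻¹, hx⟩ : H i₀) = orderOf (x * y * x⁻¹) :=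
        Subgroup.orderOf_mk _ _
      rw [← h3]
      exact orderOf_dvd_natCard _
    exact hq.ne_one (Nat.eq_one_of_dvd_coprimes hHall hqH hqi)
  exact fht_contradiction hS.odd hι H hH1 (fun i => maxNilp_TISubset hS _ (hHmax i) (hH1 i))
    (fun i => maxNilp_lt_normalizer hS _ (hHmax i) (hH1 i))
    (fun i => maxNilp_cent hS _ (hHmax i) (hH1 i)) hcop hcover

end Cfsg.Agent.Helper11
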