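import Mathlib
import Cfsg.Agent.Helper11.FHTL3
import Cfsg.Agent.Helper11.CN3

/-!
# The CN-theorem for groups of odd order (helper11)

A CN-group of odd order is solvable (Feit–Hall–Thompson).
-/

set_option autoImplicit false

namespace Cfsg.Agent.Helper11

open Cfsg

universe u

theorem cn_odd_solvable_aux (n : ℕ) : ∀ {G : Type u} [Group G] [Finite G], Nat.card G = n →
    Odd (Nat.card G) → IsCNGroup G → Group.IsSolvable G := by
  induction n using Nat.strong_induction_on with
  | _ n ih =>
    intro G _ _ hn hodd hCN
    have hsub : ∀ H : Subgroup G, H ≠ ⊤ → Group.IsSolvable H := by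
      intro H hH
      have hlt : Nat.card H < n := by
        rw [← hn]
        have h1 := Subgroup.card_mul_index H
        have h2 : H.index ≠ 1 := fun h => hH (Subgroup.index_eq_one.mp h)
        have h3 : H.index ≠ 0 := Subgroup.index_ne_zero_of_finite
        have h4 : 0 < Nat.card H := Nat.card_pos
        have h5 : 2 ≤ H.index := by omega
        nlinarith
      exact ih _ hlt rfl (Odd.of_dvd_nat hodd (Subgroup.card_subgroup_dvd_card H))
        (isCNGroup_subgroup hCN H)
    by_cases hsimple : IsSimpleGroup G
    · by_cases hcomm : IsMulCommutative G
      · exact Group.isSolvable_of_comm (fun a b => hcomm.is_comm.comm a b)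
      · exact (cn_minsimple_false ⟨hodd, hsimple, hcomm, hsub⟩ hCN).elim
    · by_cases htriv : Subsingleton G
      · exact Group.isSolvable_of_comm (fun a b => Subsingleton.elim _ _)
      · have _int : Nontrivial G := not_subsingleton_iff_nontrivial.mp htriv
        obtain ⟨N, hNn, hN1, hNtop⟩ : ∃ N : Subgroup G, N.Normal ∧ N ≠ ⊥ ∧ N ≠ ⊤ := by
          by_contra hno
          push Not at hno
          apply hsimple
          exact { toNontrivial := inferInstance
                  eq_bot_or_eq_top_of_normal := fun N hN => by
                    by_cases h : N = ⊥
                    · exact Or.inl h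
                    · exact Or.inr (hno N hN h) }
        have _inN := hNn
        have _isN : Group.IsSolvable N := hsub N hNtop
        have hQ : Group.IsSolvable (G ⧸ N) := by
          have hlt : Nat.card (G ⧸ N) < n := by
            rw [← hn, ← Subgroup.index_eq_card]
            have h1 := Subgroup.card_mul_index N
            have h2 : 1 < Nat.card N := (Subgroup.one_lt_card_iff_ne_bot _).mpr hN1
            have h3 : N.index ≠ 0 := Subgroup.index_ne_zero_of_finite
            have h4 : 0 < N.index := Nat.pos_of_ne_zero h3
            nlinarith
          have hoddQ : Odd (Nat.card (G ⧸ N)) := by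
            rw [← Subgroup.index_eq_card]
            exact Odd.of_dvd_nat hodd (Subgroup.index_dvd_card N)
          exact ih _ hlt rfl hoddQ (cn_quotient_solvable hCN N inferInstance)
        exact Group.isSolvable_of_ker_le_range N.subtype (QuotientGroup.mk' N)
          (by rw [QuotientGroup.ker_mk', Subgroup.range_subtype])

/-- **The CN-theorem for odd order** (Feit–Hall–Thompson). -/
theorem cn_odd_solvable {G : Type u} [Group G] [Finite G] (hodd : Odd (Nat.card G))
    (hCN : IsCNGroup G) : Group.IsSolvable G :=
  cn_odd_solvable_aux _ rfl hodd hCN

end Cfsg.Agent.Helper11
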