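import Mathlib
import Cfsg.Prelude.Def_Characters
import Cfsg.Agent.Helper1.CharBasic
import Cfsg.Agent.Helper2.CharExtra

/-!
# Galois conjugates of characters (helper11)

* `exists_ringAut_extending`: a ring automorphism of a field `F` mapping to `ℂ` extends to `ℂ`.
* `exists_aut_pow`: for `m` coprime to `n` there is a ring automorphism of `ℂ` raising every
  `n`-th root of unity to the `m`-th power.
* `isCharacter_comp_aut`: applying a ring endomorphism of `ℂ` to a character gives a character.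
* `char_pow_coprime`: for `m` coprime to `|G|`, `g ↦ χ (g ^ m)` is a character, irreducible if
  `χ` is.
-/

set_option autoImplicit false

namespace Cfsg.Agent.Helper11

open Cfsg

/-- A ring automorphism of a field `F` with a map to `ℂ` extends to a ring automorphism of `ℂ`. -/
theorem exists_ringAut_extending (F : Type) [Field F] [Algebra F ℂ] (σ : F ≃+* F) :
    ∃ τ : ℂ ≃+* ℂ, ∀ x : F, τ (algebraMap F ℂ x) = algebraMap F ℂ (σ x) := by
  have hinj : Function.Injective (algebraMap F ℂ) := (algebraMap F ℂ).injective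
  have : FaithfulSMul F ℂ := (faithfulSMul_iff_algebraMap_injective F ℂ).mpr hinj
  obtain ⟨ι, v, hv⟩ := exists_isTranscendenceBasis' F ℂ
  have : IsAlgClosure (Algebra.adjoin F (Set.range v)) ℂ :=
    IsAlgClosed.isAlgClosure_of_transcendence_basis v hv
  let e : Algebra.adjoin F (Set.range v) ≃+* Algebra.adjoin F (Set.range v) :=
    hv.1.aevalEquiv.symm.toRingEquiv.trans
      ((MvPolynomial.mapEquiv ι σ).trans hv.1.aevalEquiv.toRingEquiv)
  refine ⟨IsAlgClosure.equivOfEquiv ℂ ℂ e, fun x => ?_⟩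
  have h1 : algebraMap F ℂ x
      = algebraMap (Algebra.adjoin F (Set.range v)) ℂ
          (algebraMap F (Algebra.adjoin F (Set.range v)) x) := rfl
  rw [h1, IsAlgClosure.equivOfEquiv_algebraMap]
  have h2 : e (algebraMap F (Algebra.adjoin F (Set.range v)) x)
      = algebraMap F (Algebra.adjoin F (Set.range v)) (σ x) := by
    simp only [e, RingEquiv.trans_apply, AlgEquiv.coe_ringEquiv,
      AlgEquiv.commutes, MvPolynomial.algebraMap_eq, MvPolynomial.mapEquiv_apply,
      MvPolynomial.map_C, RingEquiv.coe_toRingHom]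
    rw [← MvPolynomial.algebraMap_eq, AlgEquiv.commutes]
  rw [h2]
  rfl

/-- For `m` coprime to `n > 0` there is a ring automorphism of `ℂ` raising every `n`-th root of
unity to its `m`-th power. -/
theorem exists_aut_pow (n : ℕ) (hn : 0 < n) (m : ℕ) (hm : Nat.Coprime m n) :
    ∃ τ : ℂ ≃+* ℂ, ∀ ζ : ℂ, ζ ^ n = 1 → τ ζ = ζ ^ m := by
  have : NeZero n := ⟨hn.ne'⟩
  have hcyc : IsCyclotomicExtension {n} ℚ (CyclotomicField n ℚ) :=
    CyclotomicField.isCyclotomicExtension n ℚ
  let φ : CyclotomicField n ℚ →ₐ[ℚ] ℂ := IsAlgClosed.lift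
  let _ : Algebra (CyclotomicField n ℚ) ℂ := φ.toRingHom.toAlgebra
  have hφ : ∀ x : CyclotomicField n ℚ, algebraMap (CyclotomicField n ℚ) ℂ x = φ x := fun x => rfl
  have hz : IsPrimitiveRoot (IsCyclotomicExtension.zeta n ℚ (CyclotomicField n ℚ)) n :=
    IsCyclotomicExtension.zeta_spec n ℚ (CyclotomicField n ℚ)
  have hμ : IsPrimitiveRoot ((IsCyclotomicExtension.zeta n ℚ (CyclotomicField n ℚ)) ^ m) n :=
    hz.pow_of_coprime m hm
  have hirr : Irreducible (Polynomial.cyclotomic n ℚ) := Polynomial.cyclotomic.irreducible_rat hn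
  let σ : CyclotomicField n ℚ ≃ₐ[ℚ] CyclotomicField n ℚ := IsCyclotomicExtension.fromZetaAut hμ hirr
  have hσ : σ (IsCyclotomicExtension.zeta n ℚ (CyclotomicField n ℚ))
      = (IsCyclotomicExtension.zeta n ℚ (CyclotomicField n ℚ)) ^ m :=
    IsCyclotomicExtension.fromZetaAut_spec hμ hirr
  obtain ⟨τ, hτ⟩ := exists_ringAut_extending (CyclotomicField n ℚ) σ.toRingEquiv
  refine ⟨τ, fun ζ hζ => ?_⟩
  have hz' : IsPrimitiveRoot (φ (IsCyclotomicExtension.zeta n ℚ (CyclotomicField n ℚ))) n :=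
    hz.map_of_injective φ.toRingHom.injective
  obtain ⟨i, -, hi⟩ := hz'.eq_pow_of_pow_eq_one hζ
  have h1 : τ (φ (IsCyclotomicExtension.zeta n ℚ (CyclotomicField n ℚ)))
      = φ (IsCyclotomicExtension.zeta n ℚ (CyclotomicField n ℚ)) ^ m := by
    have := hτ (IsCyclotomicExtension.zeta n ℚ (CyclotomicField n ℚ))
    rw [hφ, hφ] at this
    rw [this]
    show φ (σ (IsCyclotomicExtension.zeta n ℚ (CyclotomicField n ℚ))) = _
    rw [hσ, map_pow]
  rw [← hi, map_pow, h1, ← pow_mul, ← pow_mul, mul_comm]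

/-- The representation obtained by applying a ring endomorphism of `ℂ` to matrix entries. -/
noncomputable def autRep {G : Type*} [Group G] {k : ℕ} (τ : ℂ →+* ℂ)
    (ρ : Representation ℂ G (Fin k → ℂ)) : Representation ℂ G (Fin k → ℂ) where
  toFun g := Matrix.toLin' ((LinearMap.toMatrix' (ρ g)).map τ)
  map_one' := by
    rw [map_one, Module.End.one_eq_id, LinearMap.toMatrix'_id, Matrix.map_one τ (map_zero τ) (map_one τ),
      Matrix.toLin'_one]
  map_mul' a b := by
    rw [map_mul, LinearMap.toMatrix'_mul, Matrix.map_mul, Matrix.toLin'_mul]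
    rfl

theorem autRep_character {G : Type*} [Group G] {k : ℕ} (τ : ℂ →+* ℂ)
    (ρ : Representation ℂ G (Fin k → ℂ)) (g : G) :
    (autRep τ ρ).character g = τ (ρ.character g) := by
  show LinearMap.trace ℂ (Fin k → ℂ) (Matrix.toLin' ((LinearMap.toMatrix' (ρ g)).map τ))
    = τ (LinearMap.trace ℂ (Fin k → ℂ) (ρ g))
  rw [LinearMap.trace_eq_matrix_trace ℂ (Pi.basisFun ℂ (Fin k)),
    LinearMap.trace_eq_matrix_trace ℂ (Pi.basisFun ℂ (Fin k)),
    LinearMap.toMatrix_eq_toMatrix', LinearMap.toMatrix'_toLin']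
  exact (AddMonoidHom.map_trace τ.toAddMonoidHom (LinearMap.toMatrix' (ρ g))).symm

/-- Applying a ring endomorphism of `ℂ` to a character gives a character. -/
theorem isCharacter_comp_aut {G : Type*} [Group G] (τ : ℂ →+* ℂ) {χ : G → ℂ}
    (hχ : IsCharacter G χ) : IsCharacter G (fun g => τ (χ g)) := by
  obtain ⟨k, ρ, rfl⟩ := hχ
  exact ⟨k, autRep τ ρ, funext (fun g => autRep_character τ ρ g)⟩

/-- For `m` coprime to `|G|`, the function `g ↦ χ (g ^ m)` is a character (a Galois conjugate of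
`χ`), and it is irreducible if `χ` is. -/
theorem char_pow_coprime {G : Type*} [Group G] [Finite G] (m : ℕ)
    (hm : Nat.Coprime m (Nat.card G)) {χ : G → ℂ} (hχ : IsCharacter G χ) :
    IsCharacter G (fun g => χ (g ^ m)) ∧
      (IsIrrCharacter G χ → IsIrrCharacter G (fun g => χ (g ^ m))) := by
  classical
  have hchar : IsCharacter G (fun g => χ (g ^ m)) := by
    obtain ⟨τ, hτ⟩ := exists_aut_pow (Nat.card G) Nat.card_pos m hm
    have h1 := isCharacter_comp_aut τ.toRingHom hχ
    obtain ⟨k, ρ, rfl⟩ := hχ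
    have h2 : (fun g => τ.toRingHom (ρ.character g)) = (fun g => ρ.character (g ^ m)) := by
      funext g
      obtain ⟨b, μ, hμ, -, hb, -, hc, -⟩ := Cfsg.Agent.Helper1.exists_eigenbasis ρ g
      have hb' : ∀ i, ρ (g ^ m) (b i) = (μ i) ^ m • b i := by
        intro i
        rw [map_pow]
        exact Cfsg.Agent.Helper1.pow_apply_of_apply_eq_smul (ρ g) (b i) (μ i) (hb i) m
      have hc' : ρ.character (g ^ m) = ∑ i, (μ i) ^ m :=
        Cfsg.Agent.Helper1.trace_eq_sum_of_eigenbasis b (ρ (g ^ m)) (fun i => (μ i) ^ m) hb'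
      rw [hc', hc]
      show τ (∑ i, μ i) = _
      rw [map_sum]
      exact Finset.sum_congr rfl (fun i _ => hτ (μ i) (hμ i))
    rw [h2] at h1
    exact h1
  refine ⟨hchar, fun hirr => ?_⟩
  have : Fintype G := Fintype.ofFinite G
  apply Cfsg.Agent.Helper2.isIrrCharacter_of_classInner_self hchar
  have h1 := Cfsg.Agent.Helper2.classInner_irr_irr (⟨χ, hirr⟩ : IrrCharacter G) ⟨χ, hirr⟩
  rw [if_pos rfl] at h1
  rw [← h1]
  unfold classInner
  congr 1
  exact Equiv.sum_comp (powCoprime hm.symm) (fun g => χ g * (starRingEnd ℂ) (χ g))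

end Cfsg.Agent.Helper11
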